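import Cfsg.Agent.Lib.W4.Tools
import Cfsg.Agent.Lib.Coprime.Semidirect

/-!
# Homogeneous finite groups: extension lemmas
-/

set_option autoImplicit false
set_option linter.unusedSectionVars false

namespace Cfsg.Agent.HG

open Subgroup Cfsg.Agent.OO Cfsg.Agent.Coprime
open scoped commutatorElement Pointwise

universe u

section

variable {G : Type u} [Group G] {A E H K M N P Q V W : Subgroup G} {a b c e e' g k u v x y z : G}
  {p : ℕ} {α β : G ≃* G} {Δ : Subgroup (G × G)}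

/-- the graph of an isomorphism between subgroups -/
def Gr (Δ : Subgroup (G × G)) : Prop := ∀ q ∈ Δ, q.1 = 1 ↔ q.2 = 1

variable (G) in
/-- homogeneous groups -/
def Hom : Prop := ∀ Δ : Subgroup (G × G), Gr Δ → ∃ α : G ≃* G, ∀ q ∈ Δ, α q.1 = q.2

theorem hom_of (h : ∀ (A B : Subgroup G) (e : A ≃* B), ∃ φ : G ≃* G, ∀ a : A, φ (a : G) = (e a : G)) :
    Hom G := fun Δ hΔ => by
  have h1 : Function.Injective ((MonoidHom.fst G G).comp Δ.subtype) :=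
    (injective_iff_map_eq_one _).2 fun q e => Subtype.ext (Prod.ext e ((hΔ _ q.2).1 e))
  have h2 : Function.Injective ((MonoidHom.snd G G).comp Δ.subtype) :=
    (injective_iff_map_eq_one _).2 fun q e => Subtype.ext (Prod.ext ((hΔ _ q.2).2 e) e)
  obtain ⟨φ, hφ⟩ := h _ _ ((MonoidHom.ofInjective h1).symm.trans (MonoidHom.ofInjective h2))
  refine ⟨φ, fun q hq => ?_⟩
  have := hφ (MonoidHom.ofInjective h1 ⟨q, hq⟩)
  rwa [MulEquiv.trans_apply, MulEquiv.symm_apply_apply] at this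

theorem Hom.iso (h : Hom G) (A B : Subgroup G) (e : A ≃* B) :
    ∃ φ : G ≃* G, ∀ a : A, φ (a : G) = (e a : G) := by
  obtain ⟨α, hα⟩ := h (A.subtype.prod (B.subtype.comp e.toMonoidHom)).range (by
    rintro _ ⟨a, rfl⟩
    simp)
  exact ⟨α, fun a => hα _ ⟨a, rfl⟩⟩

theorem Hom.congr {G' : Type*} [Group G'] (h : Hom G) (e : G ≃* G') : Hom G' := fun Δ hΔ => by
  obtain ⟨α, hα⟩ := h (Δ.map (e.symm.toMonoidHom.prodMap e.symm.toMonoidHom)) (by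
    rintro _ ⟨q, hq, rfl⟩
    simpa using hΔ q hq)
  exact ⟨(e.symm.trans α).trans e, fun q hq => by
    have := hα _ ⟨q, hq, rfl⟩
    simpa [← e.eq_symm_apply] using this⟩

/-- `α` preserves `H` -/
def Pres (α : G ≃* G) (H : Subgroup G) : Prop := ∀ x, α x ∈ H ↔ x ∈ H

/-- `α` fixes `H` pointwise -/
def Fix (α : G ≃* G) (H : Subgroup G) : Prop := ∀ x ∈ H, α x = x

theorem map_cj (α : G ≃* G) (g x : G) : α (g * x * g⁻¹) = α g * α x * (α g)⁻¹ := by simp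

theorem Pres.symm (h : Pres α H) : Pres α.symm H := fun x => by rw [← h, α.apply_symm_apply]

theorem Pres.trans (h : Pres α H) (h' : Pres β H) : Pres (α.trans β) H := fun x =>
  (h' _).trans (h x)

theorem Pres.inf (h : Pres α H) (h' : Pres α K) : Pres α (H ⊓ K) := fun x =>
  and_congr (h x) (h' x)

theorem Pres.exists (h : Pres α H) (hx : x ∈ H) : ∃ y ∈ H, α y = x :=
  ⟨α.symm x, (h.symm x).2 hx, α.apply_symm_apply x⟩

theorem Pres.map_eq (h : Pres α H) : H.map α.toMonoidHom = H :=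
  le_antisymm (map_le_iff_le_comap.2 fun x hx => (h x).2 hx) fun _ hx => h.exists hx

theorem pres_of_map (h : H.map α.toMonoidHom = H) : Pres α H := fun x => by
  conv_lhs => rw [← h]
  exact mem_map_iff_mem α.injective

theorem Pres.norm (h : Pres α H) : Pres α 𝐍(H) := fun g => by
  simp only [mem_norm_iff]
  refine ⟨fun e x => ?_, fun e x => ?_⟩
  · rw [← h, e, ← map_cj, h]
  · rw [← α.apply_symm_apply x, ← map_cj, h, h, e]

theorem Pres.cent (h : Pres α H) : Pres α 𝐂(H) := fun g => by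
  simp only [mem_cent_iff_conj]
  refine ⟨fun e x hx => α.injective ?_, fun e x hx => ?_⟩
  · rw [map_cj, e _ ((h x).2 hx)]
  · obtain ⟨y, hy, rfl⟩ := h.exists hx
    rw [← map_cj, e y hy]

theorem pres_cent1 (h : α z = z) : Pres α 𝐂[z] := fun g => by
  simp only [mem_cent1]
  conv_lhs => rw [← h, ← map_mul, ← map_mul, α.injective.eq_iff]

theorem Fix.pres (h : Fix α H) : Pres α H := fun x =>
  ⟨fun e => α.injective (h _ e) ▸ e, fun e => (h x e).symm ▸ e⟩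

theorem Fix.mono (h : Fix α H) (hK : K ≤ H) : Fix α K := fun x hx => h x (hK hx)

theorem Fix.cent (h : Fix α H) (hg : g ∈ 𝐍(H)) : g⁻¹ * α g ∈ 𝐂(H) :=
  mem_cent_iff_conj.2 fun x hx => by
    have := h _ (conj_mem_of_norm hg hx)
    rw [map_cj, h x hx] at this
    calc _ = g⁻¹ * (α g * x * (α g)⁻¹) * g := by group
      _ = x := by rw [this]; group

theorem pres_conj (hg : g ∈ 𝐍(H)) : Pres (MulAut.conj g) H := fun x => (mem_norm_iff.1 hg x).symm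

/-- the restriction of an automorphism -/
def Pres.res (h : Pres α H) : H ≃* H where
  toFun x := ⟨α x, (h x).2 x.2⟩
  invFun x := ⟨α.symm x, (h.symm x).2 x.2⟩
  left_inv x := Subtype.ext (α.symm_apply_apply x)
  right_inv x := Subtype.ext (α.apply_symm_apply x)
  map_mul' x y := Subtype.ext (map_mul α x.1 y.1)

theorem Hom.of_char (h : Hom G) (hM : ∀ α : G ≃* G, Pres α M) : Hom M := fun Δ hΔ => by
  obtain ⟨α, hα⟩ := h (Δ.map (M.subtype.prodMap M.subtype)) (by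
    rintro _ ⟨q, hq, rfl⟩
    simpa using hΔ q hq)
  exact ⟨(hM α).res, fun q hq => Subtype.ext (hα _ ⟨q, hq, rfl⟩)⟩

/-- the diagonal -/
def diag (H : Subgroup G) : Subgroup (G × G) := H.map ((MonoidHom.id G).prod (MonoidHom.id G))

theorem mem_diag {q : G × G} : q ∈ diag H ↔ q.1 ∈ H ∧ q.2 = q.1 :=
  ⟨by rintro ⟨x, hx, rfl⟩; exact ⟨hx, rfl⟩, fun h => ⟨q.1, h.1, Prod.ext rfl h.2.symm⟩⟩

theorem gr_diag (H : Subgroup G) : Gr (diag H) := fun q hq => by rw [(mem_diag.1 hq).2]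

/-- the domain of a graph -/
abbrev dom (Δ : Subgroup (G × G)) : Subgroup G := Δ.map (MonoidHom.fst G G)

/-- the range of a graph -/
abbrev ran (Δ : Subgroup (G × G)) : Subgroup G := Δ.map (MonoidHom.snd G G)

theorem dom_diag : dom (diag H) = H := by rw [diag, dom, map_map]; exact map_id H

theorem ran_diag : ran (diag H) = H := by rw [diag, ran, map_map]; exact map_id H

theorem dom_sup : dom (Δ ⊔ zpowers (e, e')) = dom Δ ⊔ zpowers e := by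
  rw [dom, Subgroup.map_sup, MonoidHom.map_zpowers]; rfl

theorem ran_sup : ran (Δ ⊔ zpowers (e, e')) = ran Δ ⊔ zpowers e' := by
  rw [ran, Subgroup.map_sup, MonoidHom.map_zpowers]; rfl

theorem dvd_of_pow_mem (hp : p.Prime) (he : e ∉ H) (h : e ^ p ∈ H) {i : ℕ} (hi : e ^ i ∈ H) : p ∣ i := by
  by_contra hn
  obtain ⟨m, n, hm⟩ := Nat.isCoprime_iff_coprime.2 ((Nat.Prime.coprime_iff_not_dvd hp).2 hn)
  refine he ?_
  rw [← zpow_one e, ← hm, zpow_add, mul_comm m, mul_comm n, zpow_mul, zpow_mul, zpow_natCast,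
    zpow_natCast]
  exact mul_mem (zpow_mem h m) (zpow_mem hi n)

theorem pow_cent1 (hk : k ∈ 𝐂(E)) (hE : ∀ x ∈ E, x ^ p = 1) (h : k * a * k⁻¹ * a⁻¹ ∈ E) :
    k ^ p ∈ 𝐂(zpowers a) := by
  have h1 : ∀ n : ℕ, k ^ n * a * (k ^ n)⁻¹ = (k * a * k⁻¹ * a⁻¹) ^ n * a := fun n => by
    induction n with
    | zero => simp
    | succ n ih =>
      calc _ = k * (k ^ n * a * (k ^ n)⁻¹) * k⁻¹ := by group
        _ = k * (k * a * k⁻¹ * a⁻¹) ^ n * k⁻¹ * (k * a * k⁻¹ * a⁻¹) * a := by rw [ih]; group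
        _ = _ := by rw [mem_cent_iff_conj.1 hk _ (pow_mem h n), ← pow_succ]
  rw [cent_zpowers, mem_cent1_iff_conj, h1, hE _ h, one_mul]

/-- a stabilizer of the chain `1 ≤ E ≤ A` has exponent `p` on `A` -/
theorem pow_cent (hk : k ∈ 𝐂(E)) (hE : ∀ x ∈ E, x ^ p = 1) (h : ∀ a ∈ A, k * a * k⁻¹ * a⁻¹ ∈ E) :
    k ^ p ∈ 𝐂(A) := mem_cent_iff_conj.2 fun a ha =>
  mem_cent_iff_conj.1 (pow_cent1 hk hE (h a ha)) a (mem_zpowers a)

variable [Finite G]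

theorem zp_nat (h : y ∈ zpowers x) : ∃ i : ℕ, x ^ i = y := mem_powers_iff_mem_zpowers.2 h

theorem sup_rep (hn : e ∈ 𝐍(H)) (h : x ∈ H ⊔ zpowers e) : ∃ y ∈ H, ∃ i : ℕ, x = y * e ^ i := by
  obtain ⟨y, hy, z, hz, rfl⟩ := (mem_sup_norm_left (zpowers_le.2 hn)).1 h
  obtain ⟨i, rfl⟩ := zp_nat hz
  exact ⟨y, hy, i, rfl⟩

theorem pres_of (h : ∀ x ∈ H, α x ∈ H) : Pres α H :=
  pres_of_map (eq_of_le_of_card_le (map_le_iff_le_comap.2 h) (card_map_of_injective α.injective).ge)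

theorem Gr.step (hn : (e, e') ∈ 𝐍(Δ)) (hi : ∀ i : ℕ, ∀ q ∈ Δ, q.1 * e ^ i = 1 ↔ q.2 * e' ^ i = 1) :
    Gr (Δ ⊔ zpowers (e, e')) := fun _ hq => by
  obtain ⟨q, h, i, rfl⟩ := sup_rep hn hq
  exact hi i q h

theorem Gr.stepp (h : Gr Δ) (hp : p.Prime) (hn : (e, e') ∈ 𝐍(Δ)) (h1 : (e ^ p, e' ^ p) ∈ Δ)
    (he : e ∉ dom Δ) (he' : e' ∉ ran Δ) : Gr (Δ ⊔ zpowers (e, e')) := Gr.step hn fun i q hq => by
  have h2 : p ∣ i → (q.1 * e ^ i = 1 ↔ q.2 * e' ^ i = 1) := fun ⟨j, hj⟩ => by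
    have := h _ (mul_mem hq (pow_mem h1 j))
    rwa [hj, pow_mul, pow_mul]
  exact ⟨fun e1 => (h2 (dvd_of_pow_mem hp he ⟨_, h1, rfl⟩
      ⟨_, inv_mem hq, (eq_inv_of_mul_eq_one_right e1).symm⟩)).1 e1,
    fun e1 => (h2 (dvd_of_pow_mem hp he' ⟨_, h1, rfl⟩
      ⟨_, inv_mem hq, (eq_inv_of_mul_eq_one_right e1).symm⟩)).2 e1⟩

theorem mem_norm_diag (he : e ∈ 𝐍(H)) (hc : e⁻¹ * e' ∈ 𝐂(H)) : (e, e') ∈ 𝐍(diag H) :=
  mem_norm_of_conj_mem fun q hq => by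
    obtain ⟨h1, h2⟩ := mem_diag.1 hq
    refine mem_diag.2 ⟨conj_mem_of_norm he h1, ?_⟩
    calc e' * q.2 * e'⁻¹ = e * (e⁻¹ * e' * q.2 * (e⁻¹ * e')⁻¹) * e⁻¹ := by group
      _ = _ := by rw [h2, mem_cent_iff_conj.1 hc _ h1]; rfl

/-- the `p'`-part of `k` is a power of `k ^ p` -/
theorem pp (hp : p.Prime) (h : k ^ p ∈ M) : constt {p}ᶜ k ∈ M := by
  refine zpowers_le.2 (?_ : constt {p}ᶜ k ^ p ∈ M) (mem_zpowers_pow_iff.2
    (hp.coprime_iff_not_dvd.2 ((isPiNum_compl_singleton hp).1 (piElt_constt _ k))))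
  rw [← constt_pow]
  exact constt_mem _ h

theorem pp_conj (hp : p.Prime) (h : k ^ p ∈ 𝐂(A)) (ha : a ∈ A) :
    constt {p} k * a * (constt {p} k)⁻¹ = k * a * k⁻¹ := by
  conv_rhs => rw [← constt_mul_constt_compl {p} k]
  conv_lhs => rw [← mem_cent_iff_conj.1 (pp hp h) a ha]
  group

theorem mem_of_syl_le [Fact p.Prime] (hQ : Syl p Q M) (h1 : Q ≤ N) (h2 : M ≤ 𝐍(N)) (hx : x ∈ M)
    (hp : PiElt {p} x) : x ∈ N :=
  zpowers_le.1 ((piGrp_zpowers.2 hp).le_of_relIndex (zpowers_le.2 hx) h2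
    ((isPiNum_compl_singleton Fact.out).2 fun e => hQ.not_dvd
      (e.trans (relIndex_dvd_of_le_left _ h1))))

/-- `H` is a normal subgroup of index `p` of `P = H ⟨e⟩` -/
structure Hy (p : ℕ) (P H : Subgroup G) (e : G) : Prop where
  le : H ≤ P
  norm : P ≤ 𝐍(H)
  mem : e ∈ P
  nmem : e ∉ H
  pow : ∀ x ∈ P, x ^ p ∈ H
  rep : ∀ x ∈ P, ∃ y ∈ H, ∃ i : ℕ, x = y * e ^ i

theorem hy_of_covBy [Fact p.Prime] (hP : IsPGroup p P) (h : H ⋖ P) (he : e ∈ P) (he' : e ∉ H) :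
    Hy p P H e := by
  have hn := normal_of_covBy h (nil_of_isPGroup hP)
  refine ⟨hn.le, hn.norm, he, he', fun x hx => ?_, fun x hx => sup_rep (hn.norm he) ?_⟩
  · have := hn.subgroupOf
    exact relIndex_of_covBy h hP ▸ (H.subgroupOf P).pow_index_mem ⟨x, hx⟩
  · exact ((h.eq_or_eq le_sup_left (sup_le hn.le (zpowers_le.2 he))).resolve_left
      fun e => he' (e.le (mem_sup_right (mem_zpowers _)))).ge hx

theorem exists_hy [Fact p.Prime] (hP : IsPGroup p P) (h : K < P) : ∃ H e, Hy p P H e ∧ K ≤ H := by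
  obtain ⟨H, h1, h2⟩ := exists_covBy_ge h
  obtain ⟨e, he, he'⟩ := SetLike.exists_of_lt h2.lt
  exact ⟨H, e, hy_of_covBy hP h2 he he', h1⟩

theorem exists_hy' [Fact p.Prime] (hV : IsElementaryAbelian p V) (hW : W ≤ V) (he : e ∈ V)
    (he' : e ∉ W) : ∃ H, Hy p V H e ∧ W ≤ H := by
  have h1 : zpowers e ≤ V := zpowers_le.2 he
  have hn : ∀ X ≤ V, V ≤ 𝐍(X) := fun X hX => le_norm_of_ab hV.1 hX
  obtain ⟨C, hC⟩ := exists_dprod_of_abelem hV (sup_le hW h1)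
  refine ⟨W ⊔ C, ⟨sup_le hW hC.right_le, hn _ (sup_le hW hC.right_le), he, fun h => he' ?_,
    fun x hx => hV.2 x hx ▸ one_mem _, fun x hx => sup_rep (hn _ (sup_le hW hC.right_le) he) ?_⟩,
    le_sup_left⟩
  · obtain ⟨w, hw, c, hc, rfl⟩ := (mem_sup_norm_left (hC.right_le.trans (hn W hW))).1 h
    rw [mem_bot.1 (hC.inf_eq.le ⟨(mul_mem_cancel_left (mem_sup_left hw)).1
      (mem_sup_right (mem_zpowers _)), hc⟩), mul_one]
    exact hw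
  · rwa [sup_right_comm, hC.sup_eq]

namespace Hom

variable (hG : Hom G)
include hG

theorem ext1 (he : e ∈ 𝐍(H)) (hc : e⁻¹ * e' ∈ 𝐂(H))
    (hi : ∀ i : ℕ, e ^ i ∈ H ∨ e' ^ i ∈ H → e ^ i = e' ^ i) : ∃ α : G ≃* G, Fix α H ∧ α e = e' := by
  obtain ⟨α, hα⟩ := hG _ (Gr.step (mem_norm_diag he hc) fun i q hq => by
    obtain ⟨h1, h2⟩ := mem_diag.1 hq
    rw [h2]
    exact ⟨fun e1 => hi i (.inl (eq_inv_of_mul_eq_one_right e1 ▸ inv_mem h1)) ▸ e1,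
      fun e1 => hi i (.inr (eq_inv_of_mul_eq_one_right e1 ▸ inv_mem h1)) ▸ e1⟩)
  exact ⟨α, fun x hx => hα (x, x) (mem_sup_left (mem_diag.2 ⟨hx, rfl⟩)),
    hα _ (mem_sup_right (mem_zpowers _))⟩

theorem extp (hp : p.Prime) (he : e ∈ 𝐍(H)) (hc : e⁻¹ * e' ∈ 𝐂(H)) (h1 : e ^ p ∈ H)
    (h2 : e' ^ p = e ^ p) (h3 : e ∉ H) (h4 : e' ∉ H) : ∃ α : G ≃* G, Fix α H ∧ α e = e' :=
  hG.ext1 he hc fun i hi => by
    obtain ⟨j, rfl⟩ : p ∣ i := hi.elim (dvd_of_pow_mem hp h3 h1) (dvd_of_pow_mem hp h4 (h2 ▸ h1))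
    rw [pow_mul, pow_mul, h2]

theorem cyc (h : orderOf x = orderOf y) : ∃ α : G ≃* G, α x = y :=
  (hG.ext1 (H := ⊥) (norm_bot.ge trivial) (cent_bot.ge trivial) fun i hi => by
    have : x ^ i = 1 ↔ y ^ i = 1 := by rw [← orderOf_dvd_iff_pow_eq_one, h, orderOf_dvd_iff_pow_eq_one]
    rcases hi with e | e
    · rw [mem_bot.1 e, this.1 e]
    · rw [mem_bot.1 e, this.2 e]).imp fun _ h => h.2

/-- the central automorphism `e ↦ e c` -/
theorem pert (hp : p.Prime) (h : Hy p P H e) (hc : c ∈ H) (h1 : c ∈ 𝐂(P)) (h2 : c ^ p = 1) :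
    ∃ α : G ≃* G, Fix α H ∧ α e = e * c ∧ Pres α P ∧
      ∀ y ∈ H, ∀ i : ℕ, α (y * e ^ i) = y * e ^ i * c ^ i := by
  have h3 : Commute e c := mem_cent_iff.1 h1 e h.mem
  obtain ⟨α, h4, h5⟩ := hG.extp hp (h.norm h.mem) (e' := e * c) (by simpa using cent_anti h.le h1)
    (h.pow e h.mem) (by rw [h3.mul_pow, h2, mul_one]) h.nmem
    fun e => h.nmem ((mul_mem_cancel_right hc).1 e)
  have h6 : ∀ y ∈ H, ∀ i : ℕ, α (y * e ^ i) = y * e ^ i * c ^ i := fun y hy i => by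
    rw [map_mul, map_pow, h4 y hy, h5, h3.mul_pow, mul_assoc]
  refine ⟨α, h4, h5, pres_of fun x hx => ?_, h6⟩
  obtain ⟨y, hy, i, rfl⟩ := h.rep x hx
  rw [h6 y hy]
  exact mul_mem hx (pow_mem (h.le hc) i)

omit hG in
theorem _root_.Cfsg.Agent.HG.Gr.stepV (h : Gr Δ) [hp : Fact p.Prime] (hV : IsElementaryAbelian p V)
    (h1 : Δ ≤ V.prod V) (he : e ∈ V) (he' : e' ∈ V) (h2 : e ∉ dom Δ) (h3 : e' ∉ ran Δ) :
    Gr (Δ ⊔ zpowers (e, e')) ∧ Δ ⊔ zpowers (e, e') ≤ V.prod V :=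
  ⟨h.stepp hp.out (cent_le_norm _ (mem_cent_iff.2 fun q hq => Prod.ext
    (ab_iff.1 hV.1 _ (h1 hq).1 _ he) (ab_iff.1 hV.1 _ (h1 hq).2 _ he')))
    (by rw [hV.2 e he, hV.2 e' he']; exact one_mem _) h2 h3, sup_le h1 (zpowers_le.2 ⟨he, he'⟩)⟩

theorem extV [Fact p.Prime] (hV : IsElementaryAbelian p V) (h : Gr Δ) (h1 : Δ ≤ V.prod V) :
    ∃ α : G ≃* G, Pres α V ∧ ∀ q ∈ Δ, α q.1 = q.2 := by
  obtain ⟨Γ, hle, hm⟩ := Finite.exists_le_maximal (p := fun Γ : Subgroup (G × G) =>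
    Gr Γ ∧ Γ ≤ V.prod V) ⟨h, h1⟩
  obtain ⟨α, hα⟩ := hG Γ hm.1.1
  refine ⟨α, pres_of fun x hx => ?_, fun q hq => hα q (hle hq)⟩
  by_cases h2 : x ∈ dom Γ
  · obtain ⟨q, hq, rfl⟩ := h2
    exact hα q hq ▸ (hm.1.2 hq).2
  have h3 : dom Γ ≤ V := map_le_iff_le_comap.2 fun q hq => (hm.1.2 hq).1
  obtain ⟨y, hy, h4⟩ : ∃ y ∈ V, y ∉ ran Γ := SetLike.not_le_iff_exists.1 fun e => h2 (by
    have h5 : ran Γ ≤ (dom Γ).map α.toMonoidHom :=
      map_le_iff_le_comap.2 fun q hq => ⟨_, ⟨q, hq, rfl⟩, hα q hq⟩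
    exact (eq_of_le_of_card_le h3 ((card_le (e.trans h5)).trans
      (card_map_of_injective α.injective).le)).ge hx)
  exact absurd ⟨_, hm.2 (hm.1.1.stepV hV hm.1.2 hx hy h2 h4) le_sup_left
    (mem_sup_right (mem_zpowers _)), rfl⟩ h2

theorem lin1 [Fact p.Prime] (hV : IsElementaryAbelian p V) (hW : W ≤ V) (hu : u ∈ V) (hv : v ∈ V)
    (h1 : u ∉ W) (h2 : v ∉ W) : ∃ α : G ≃* G, Pres α V ∧ Fix α W ∧ α u = v := by
  obtain ⟨h3, h4⟩ := (gr_diag W).stepV hV (fun q hq => ⟨hW (mem_diag.1 hq).1,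
    (mem_diag.1 hq).2 ▸ hW (mem_diag.1 hq).1⟩) hu hv (by rwa [dom_diag]) (by rwa [ran_diag])
  obtain ⟨α, h5, hα⟩ := hG.extV hV h3 h4
  exact ⟨α, h5, fun x hx => hα (x, x) (mem_sup_left (mem_diag.2 ⟨hx, rfl⟩)),
    hα _ (mem_sup_right (mem_zpowers _))⟩

theorem lin2 [Fact p.Prime] (hV : IsElementaryAbelian p V) (hW : W ≤ V) (ha : a ∈ V) (hb : b ∈ V)
    (hu : u ∈ V) (hv : v ∈ V) (h1 : a ∉ W) (h2 : b ∉ W) (h1' : u ∉ W ⊔ zpowers a)
    (h2' : v ∉ W ⊔ zpowers b) : ∃ α : G ≃* G, Pres α V ∧ Fix α W ∧ α a = b ∧ α u = v := by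
  obtain ⟨h3, h4⟩ := (gr_diag W).stepV hV (fun q hq => ⟨hW (mem_diag.1 hq).1,
    (mem_diag.1 hq).2 ▸ hW (mem_diag.1 hq).1⟩) ha hb (by rwa [dom_diag]) (by rwa [ran_diag])
  obtain ⟨h5, h6⟩ := h3.stepV hV h4 hu hv (by rwa [dom_sup, dom_diag]) (by rwa [ran_sup, ran_diag])
  obtain ⟨α, h7, hα⟩ := hG.extV hV h5 h6
  exact ⟨α, h7, fun x hx => hα (x, x) (mem_sup_left (mem_sup_left (mem_diag.2 ⟨hx, rfl⟩))),
    hα _ (mem_sup_left (mem_sup_right (mem_zpowers _))), hα _ (mem_sup_right (mem_zpowers _))⟩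

theorem lin2' [Fact p.Prime] (hV : IsElementaryAbelian p V) (ha : a ∈ V) (hb : b ∈ V)
    (hu : u ∈ V) (hv : v ∈ V) (h1 : a ≠ 1) (h2 : b ≠ 1) (h1' : u ∉ zpowers a)
    (h2' : v ∉ zpowers b) : ∃ α : G ≃* G, Pres α V ∧ α a = b ∧ α u = v :=
  (hG.lin2 hV bot_le ha hb hu hv h1 h2 (by rwa [bot_sup_eq]) (by rwa [bot_sup_eq])).imp
    fun _ h => ⟨h.1, h.2.2⟩

/-- the inversion of an abelian subgroup -/
theorem inv (hA : Ab A) : ∃ α : G ≃* G, ∀ a ∈ A, α a = a⁻¹ := by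
  let _ : CommGroup A := { (inferInstance : Group A) with mul_comm := hA.is_comm.comm }
  obtain ⟨α, hα⟩ := hG.iso A A (MulEquiv.inv A)
  exact ⟨α, fun a ha => hα ⟨a, ha⟩⟩

theorem of_char_z (hz : z ∈ Zc M) (z2 : z * z = 1) (hu : ∀ t ∈ M, t * t = 1 → t = 1 ∨ t = z)
    (hM : ∀ α : G ≃* G, α z = z → Pres α M) : Hom M := fun Δ hΔ => by
  have h1 : Gr (Δ.map (M.subtype.prodMap M.subtype)) := by
    rintro _ ⟨q, hq, rfl⟩
    simpa using hΔ q hq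
  have h2 : ∀ q ∈ Δ.map (M.subtype.prodMap M.subtype), q.1 ∈ M ∧ q.2 ∈ M := by
    rintro _ ⟨q, -, rfl⟩
    exact ⟨q.1.2, q.2.2⟩
  obtain ⟨α, hα⟩ := hG _ (Gr.step (e := z) (e' := z) (cent_le_norm _ (mem_cent_iff.2 fun q hq =>
    Prod.ext ((mem_Zc.1 hz).2 _ (h2 q hq).1) ((mem_Zc.1 hz).2 _ (h2 q hq).2))) fun i q hq => by
      rcases i.even_or_odd' with ⟨j, rfl | rfl⟩
      · simpa [pow_mul, sq, z2] using h1 q hq
      rw [pow_succ, pow_mul, sq, z2, one_pow, one_mul, mul_eq_one_iff_eq_inv, mul_eq_one_iff_eq_inv,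
        inv_eq_of_mul_eq_one_right z2]
      by_cases z1 : z = 1
      · exact z1 ▸ h1 q hq
      have h3 := h1 _ (mul_mem hq hq)
      exact ⟨fun e => (hu _ (h2 q hq).2 (h3.1 (e ▸ z2 : q.1 * q.1 = 1))).resolve_left
          fun e' => z1 (e ▸ (h1 q hq).2 e'),
        fun e => (hu _ (h2 q hq).1 (h3.2 (e ▸ z2 : q.2 * q.2 = 1))).resolve_left
          fun e' => z1 (e ▸ (h1 q hq).1 e')⟩)
  exact ⟨(hM α (hα (z, z) (mem_sup_right (mem_zpowers _)))).res,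
    fun q hq => Subtype.ext (hα _ (mem_sup_left ⟨q, hq, rfl⟩))⟩

end Hom

end

end Cfsg.Agent.HG
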