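import Cfsg.Agent.Lib.HG.Basic
import Cfsg.Agent.Lib.PGrp.ClassTwo

/-!
# Homogeneous finite groups: transvections
-/

set_option autoImplicit false
set_option linter.unusedSectionVars false

namespace Cfsg.Agent.HG

open Subgroup Cfsg.Agent.OO Cfsg.Agent.Coprime
open scoped commutatorElement Pointwise

universe u

variable {G : Type u} [Group G] [Finite G] {A E H K M N P Q R V W : Subgroup G}
  {a b c e g k n u v w x y z : G} {p : ℕ} [hp : Fact p.Prime] {α β : G ≃* G}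

theorem zp_eq (hu : u ^ p = 1) (hb : b ∈ zpowers u) (b1 : b ≠ 1) : zpowers b = zpowers u :=
  eq_zpowers_of_prime (by
    rw [Nat.card_zpowers, orderOf_eq_prime hu fun e => b1 (by simpa [e] using hb)]
    exact hp.out) hb b1

omit [Finite G] hp in
theorem cj_pow (g x : G) (i : ℕ) : (g⁻¹ * x * g) ^ i = g⁻¹ * x ^ i * g := by
  simpa using conj_pow (a := g⁻¹) (b := x) (i := i)

omit hp in
theorem inv_of_sq_cent (hn : u ∈ 𝐍(Q)) (h : u * u ∈ 𝐂(Q)) (h0 : Q ⊓ 𝐂[u] = ⊥) (hx : x ∈ Q) :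
    u * x * u⁻¹ = x⁻¹ := by
  have h1 : Function.Injective fun y : Q =>
      (⟨(y : G)⁻¹ * (u * y * u⁻¹), mul_mem (inv_mem y.2) (conj_mem_of_norm hn y.2)⟩ : Q) :=
    fun y z e => Subtype.ext (mul_inv_eq_one.1 (mem_bot.1 (h0.le ⟨Q.mul_mem y.2 (Q.inv_mem z.2),
      mem_cent1_comm.1 (mem_cent1_iff_conj.2 (by
        have e1 : (y : G)⁻¹ * (u * y * u⁻¹) = (z : G)⁻¹ * (u * z * u⁻¹) := congrArg Subtype.val e
        calc _ = y * ((y : G)⁻¹ * (u * y * u⁻¹)) * (u * z * u⁻¹)⁻¹ := by group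
          _ = _ := by rw [e1]; group))⟩)))
  obtain ⟨y, hy⟩ := Finite.surjective_of_injective h1 ⟨x, hx⟩
  obtain rfl : (y : G)⁻¹ * (u * y * u⁻¹) = x := congrArg Subtype.val hy
  calc _ = u * (y : G)⁻¹ * u⁻¹ * (u * u * y * (u * u)⁻¹) := by group
    _ = _ := by rw [mem_cent_iff_conj.1 h y y.2]; group

omit [Finite G] hp in
theorem ab_of_inv (h : ∀ x ∈ Q, u * x * u⁻¹ = x⁻¹) : Ab Q := ab_iff.2 fun a ha b hb =>
  inv_injective (by rw [← h _ (mul_mem ha hb), ← conj_mul, h a ha, h b hb, _root_.mul_inv_rev])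

theorem eq_one_of_inv (h2 : p ≠ 2) (hx : x ^ p = 1) (h : x = x⁻¹) : x = 1 := by_contra fun x1 =>
  h2 ((orderOf_eq_prime hx x1).symm.trans
    (orderOf_eq_prime ((sq x).trans (mul_eq_one_iff_eq_inv.2 h)) x1))

theorem odd_of_pgroup (h2 : p ≠ 2) (hQ : IsPGroup p Q) : Odd ♯Q := by
  obtain ⟨n, hn⟩ := hQ.exists_card_eq
  exact hn ▸ (hp.out.odd_of_ne_two h2).pow

theorem ab_of_inv_Ohm (h2 : p ≠ 2) (hQ : IsPGroup p Q) (hn : n ∈ 𝐍(Q))
    (h : ∀ x ∈ Q, x ^ p = 1 → n * x * n⁻¹ = x⁻¹) : Ab Q := by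
  have h1 : n ^ 2 ∈ 𝐂(Ohm p Q) := le_cent1_iff.1 (Ohm_le_iff.2 fun x hx e =>
    mem_cent1_comm.1 (mem_cent1_iff_conj.2 (by
      calc _ = n * (n * x * n⁻¹) * n⁻¹ := by rw [sq]; group
        _ = _ := by rw [h x hx e, ← conj_inv, h x hx e, inv_inv])))
  have ho := odd_of_pgroup h2 hQ
  have h3 := constt_mem {2} hn
  have h4 : constt {2} (n ^ 2) ∈ 𝐂(Q) := zpowers_le.1 (coprime_odd_faithful_Ohm1 hQ
    (zpowers_le.2 (constt_mem _ (pow_mem hn 2))) (W4.cop ho (isPGroup_zpowers_iff.2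
      (piElt_constt _ _))) ho (zpowers_le.2 (constt_mem _ h1)))
  rw [constt_pow, sq] at h4
  refine ab_of_inv fun x => inv_of_sq_cent h3 h4 (by_contra fun e => ?_)
  obtain ⟨y, hy, y1⟩ := cauchy hp.out (dvd_card_of_isPGroup (hQ.to_le inf_le_left) e)
  have y2 : y ^ p = 1 := y1 ▸ pow_orderOf_eq_one y
  exact hp.out.ne_one (by
    rw [← y1, eq_one_of_inv h2 y2 (by
      rw [← h y hy.1 y2, ← pp_conj Nat.prime_two h1 (mem_Ohm hy.1 y2),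
        mem_cent1_iff_conj.1 (mem_cent1_comm.1 hy.2)]), orderOf_one])

theorem ab_of_aut (h2 : p ≠ 2) (hQ : IsPGroup p Q) (hα : Pres α Q)
    (h : ∀ x ∈ Q, x ^ p = 1 → α x = x⁻¹) : Ab Q := by
  let φ : MulAut G →* MulAut G := MonoidHom.id _
  have := ab_of_inv_Ohm (Q := Q.map (SemidirectProduct.inl : G →* G ⋊[φ] MulAut G))
    (n := SemidirectProduct.inr α) h2 (hQ.map _) (mem_norm_of_conj_mem (by
      rintro _ ⟨x, hx, rfl⟩
      exact ⟨_, (hα x).2 hx, (inr_mul_inl_mul φ α x).symm⟩)) (by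
      rintro _ ⟨x, hx, rfl⟩ e
      rw [inr_mul_inl_mul, ← map_inv]
      exact congrArg _ (h x hx (SemidirectProduct.inl_injective (by rwa [map_pow, map_one]))))
  exact ab_iff.2 fun a ha b hb => SemidirectProduct.inl_injective (φ := φ) (by
    rw [map_mul, map_mul]; exact ab_iff.1 this _ ⟨a, ha, rfl⟩ _ ⟨b, hb, rfl⟩)

omit [Finite G] in
theorem syl_map (h : Syl p Q M) (hα : Pres α M) : Syl p (Q.map α.toMonoidHom) M := by
  simpa only [hα.map_eq] using (isSylowIn_map_iff_of_injective (f := α.toMonoidHom) α.injective).2 h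

/-- the Frattini argument for automorphisms -/
theorem exists_pres (h : Syl p Q M) (hα : Pres α M) :
    ∃ c ∈ M, Pres (α.trans (MulAut.conj c)) Q := by
  obtain ⟨c, hc, e⟩ := (syl_map h hα).exists_conj' h
  exact ⟨c, hc, pres_of fun x hx => e.ge (conj_mem_conj ⟨x, hx, rfl⟩)⟩

/-- `x` is a transvection on `V` with axis `H` and centre `b` -/
structure Tr (p : ℕ) (V H : Subgroup G) (x e b : G) : Prop extends Hy p V H e where
  cent : x ∈ 𝐂(H)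
  act : x * e * x⁻¹ = b * e
  bH : b ∈ H
  b1 : b ≠ 1

namespace Tr

variable (hV : IsElementaryAbelian p V) (h : Tr p V H x e b)
include hV h

theorem act' (hv : v ∈ V) : x * v * x⁻¹ * v⁻¹ ∈ zpowers b := by
  obtain ⟨y, hy, i, rfl⟩ := h.rep v hv
  have h1 : Commute b e := ab_iff.1 hV.1 _ (h.le h.bH) _ h.mem
  have h2 : Commute y (b ^ i) := ab_iff.1 hV.1 _ (h.le hy) _ (pow_mem (h.le h.bH) i)
  rw [← conj_mul, mem_cent_iff_conj.1 h.cent y hy, ← conj_pow, h.act, h1.mul_pow, ← mul_assoc, h2.eq,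
    mul_assoc (b ^ i), mul_inv_cancel_right]
  exact pow_mem (mem_zpowers b) i

theorem normV : x ∈ 𝐍(V) := mem_norm_of_conj_mem fun _ hv =>
  (mul_mem_cancel_right (inv_mem hv)).1 (zpowers_le.2 (h.le h.bH) (h.act' hV hv))

theorem pow_mem_cent : x ^ p ∈ 𝐂(V) :=
  pow_cent (cent_anti (zpowers_le.2 h.bH) h.cent)
    (fun _ hy => hV.2 _ (zpowers_le.2 (h.le h.bH) hy)) fun _ => h.act' hV

theorem move : x * e * x⁻¹ ∉ zpowers e := fun e1 => by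
  rw [h.act, mul_mem_cancel_right (mem_zpowers e)] at e1
  exact h.nmem (zpowers_le.2 h.bH ((zp_eq (hV.2 e h.mem) e1 h.b1).ge (mem_zpowers e)))

end Tr

theorem exists_tr (hV : IsElementaryAbelian p V) (h1 : k ∉ 𝐂(V)) (hu : u ∈ V)
    (h2 : k * u * k⁻¹ = u) (h3 : ∀ v ∈ V, k * v * k⁻¹ * v⁻¹ ∈ zpowers u) :
    ∃ H x e b, PiElt {p} x ∧ Tr p V H x e b := by
  have h4 : ∀ v ∈ V, constt {p} k * v * (constt {p} k)⁻¹ = k * v * k⁻¹ := fun v =>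
    pp_conj hp.out (pow_cent (cent_zpowers u ▸ mem_cent1_iff_conj.2 h2)
      (fun _ hy => hV.2 _ (zpowers_le.2 hu hy)) h3)
  obtain ⟨e, he, h5⟩ : ∃ e ∈ V, k * e * k⁻¹ ≠ e := by
    by_contra! h
    exact h1 (mem_cent_iff_conj.2 h)
  have h6 : ∀ v ∈ V, v ∈ V ⊓ 𝐂[constt {p} k] ↔ k * v * k⁻¹ = v := fun v hv => by
    rw [mem_inf, mem_cent1_comm, mem_cent1_iff_conj, h4 v hv, and_iff_right hv]
  have b1 : k * e * k⁻¹ * e⁻¹ ≠ 1 := fun e => h5 (mul_inv_eq_one.1 e)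
  have h7 : zpowers u ≤ 𝐂[k] := zpowers_le.2 (mem_cent1_comm.1 (mem_cent1_iff_conj.2 h2))
  have hb := zpowers_le.2 hu (h3 e he)
  refine ⟨V ⊓ 𝐂[constt {p} k], _, e, k * e * k⁻¹ * e⁻¹, piElt_constt _ k, ⟨inf_le_left,
    le_norm_of_ab hV.1 inf_le_left, he, (h6 e he).not.2 h5, fun x hx => hV.2 x hx ▸ one_mem _,
    fun v hv => ?_⟩, le_cent1_iff.1 inf_le_right, by rw [h4 e he]; group,
    (h6 _ hb).2 (mem_cent1_iff_conj.1 (mem_cent1_comm.1 (h7 (h3 e he)))), b1⟩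
  obtain ⟨i, hi⟩ := zp_nat ((zp_eq (hV.2 u hu) (h3 e he) b1).ge (h3 v hv))
  have h8 := mul_mem hv (inv_mem (pow_mem he i))
  refine ⟨v * (e ^ i)⁻¹, (h6 _ h8).2 ?_, i, by group⟩
  have c1 : Commute (k * e * k⁻¹ * e⁻¹) e := ab_iff.1 hV.1 _ hb _ he
  calc _ = k * v * k⁻¹ * v⁻¹ * (v * (e ^ i)⁻¹) * ((k * e * k⁻¹ * e⁻¹ * e) ^ i * (e ^ i)⁻¹)⁻¹ := by
        rw [inv_mul_cancel_right, conj_pow]; group
    _ = _ := by
      rw [c1.mul_pow, mul_inv_cancel_right, ← hi, ab_iff.1 hV.1 _ (pow_mem hb i) _ h8,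
        mul_inv_cancel_right]

namespace Hom

variable (hG : Hom G)
include hG

theorem tv {h : G} (hV : IsElementaryAbelian p V) (hh : h ∈ 𝐍(V)) (h1 : h ∉ 𝐂(V)) (hu : u ∈ V) (u1 : u ≠ 1)
    (h2 : h * u * h⁻¹ = u) : ∃ H x e b, PiElt {p} x ∧ Tr p V H x e b := by
  by_cases h3 : ∀ v ∈ V, h * v * h⁻¹ * v⁻¹ ∈ zpowers u
  · exact exists_tr hV h1 hu h2 h3
  push Not at h3
  obtain ⟨v, hv, h3⟩ := h3
  obtain ⟨H, hH, hle⟩ := exists_hy' hV (zpowers_le.2 hu)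
    (mul_mem (conj_mem_of_norm hh hv) (inv_mem hv)) h3
  obtain ⟨α, f1, f2, f3, f4⟩ := hG.pert hp.out hH (hle (mem_zpowers u)) (abelem_le_cent hV hu)
    (hV.2 u hu)
  have h4 : ∀ x ∈ V, ∃ i : ℕ, α x = x * u ^ i := fun x hx => by
    obtain ⟨y, hy, i, rfl⟩ := hH.rep x hx
    exact ⟨i, f4 y hy i⟩
  have h5 : α u = u := f1 u (hle (mem_zpowers u))
  have h6 : ∀ i : ℕ, h⁻¹ * u ^ i * h = u ^ i := fun i => by
    conv_lhs => rw [← h2, conj_pow]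
    group
  refine exists_tr (k := h⁻¹ * α h) hV (fun e => u1 ?_) hu ?_ fun x hx => ?_
  · obtain ⟨i, hi⟩ := h4 v hv
    have h7 := mem_cent_iff_conj.1 e _ ((f3 v).2 hv)
    rw [← mul_right_inj (h * v * h⁻¹ * v⁻¹), ← f2, map_mul, map_cj, map_inv]
    calc _ = h * (h⁻¹ * α h * α v * (h⁻¹ * α h)⁻¹) * h⁻¹ * (α v)⁻¹ := by group
      _ = h * v * (h⁻¹ * u ^ i * h) * h⁻¹ * (u ^ i)⁻¹ * v⁻¹ := by rw [h7, hi, h6]; group
      _ = _ := by group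
  · calc _ = h⁻¹ * α (h * u * h⁻¹) * h := by rw [map_cj, h5]; group
      _ = _ := by rw [h2, h5]; simpa using h6 1
  · obtain ⟨y, hy, rfl⟩ := f3.exists hx
    obtain ⟨i, hi⟩ := h4 y hy
    obtain ⟨j, hj⟩ := h4 _ (conj_mem_of_norm hh hy)
    have : h⁻¹ * α h * α y * (h⁻¹ * α h)⁻¹ * (α y)⁻¹ = y * (u ^ j * (u ^ i)⁻¹) * y⁻¹ := by
      calc _ = h⁻¹ * α (h * y * h⁻¹) * h * (α y)⁻¹ := by rw [map_cj]; group
        _ = y * (h⁻¹ * u ^ j * h) * (u ^ i)⁻¹ * y⁻¹ := by rw [hj, hi]; group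
        _ = _ := by rw [h6]; group
    rw [this]
    exact conj_mem_of_norm (le_norm_of_ab hV.1 (zpowers_le.2 hu) hy)
      (mul_mem (pow_mem (mem_zpowers u) j) (inv_mem (pow_mem (mem_zpowers u) i)))

omit hG in
theorem _root_.Cfsg.Agent.HG.le_Zc_of_syl (hE : IsElementaryAbelian p E) (hQ : Syl p Q 𝐂(E)) :
    E ≤ Zc Q :=
  le_inf (hQ.le_of_norm (abelem_le_cent hE) (abelem_isPGroup hE) (.inl (hQ.le.trans (cent_le_norm E))))
    (le_cent_symm hQ.le)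

theorem one (hE : IsElementaryAbelian p E) (hQ : Syl p Q 𝐂(E)) (hg : g ∈ 𝐍(E)) (hc : c ∈ E)
    (h1 : g * c * g⁻¹ ∉ zpowers c) : Zc Q = E := by
  have h2 := le_Zc_of_syl hE hQ
  by_contra hne
  obtain ⟨m, hm, n, hn, rfl⟩ := (hQ.frattini ⟨cent_le_norm E, norm_le_norm_cent E⟩).mem_iff.1 hg
  obtain ⟨H, e, hH, hle⟩ := exists_hy (hQ.isPGroup.to_le (Zc_le Q)) (h2.lt_of_ne' hne)
  obtain ⟨α, f1, f2, f3, f4⟩ := hG.pert hp.out hH (hle hc) ((Zc_ab Q).le_cent (h2 hc)) (hE.2 c hc)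
  have h4 : ∀ x ∈ Zc Q, ∃ i : ℕ, α x = x * c ^ i := fun x hx => by
    obtain ⟨y, hy, i, rfl⟩ := hH.rep x hx
    exact ⟨i, f4 y hy i⟩
  have h5 := norm_le_norm_Zc Q hn.2
  have hk : n⁻¹ * α n ∈ 𝐂(E) := (f1.mono hle).cent hn.1
  have hk' : n⁻¹ * α n ∈ 𝐍(Zc Q) := mul_mem (inv_mem h5) ((f3.norm n).2 h5)
  have h6 : (n⁻¹ * α n) ^ p ∈ 𝐂(Zc Q) := pow_cent hk hE.2 fun x hx => by
    obtain ⟨y, hy, rfl⟩ := f3.exists hx
    obtain ⟨i, hi⟩ := h4 y hy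
    obtain ⟨j, hj⟩ := h4 _ (conj_mem_of_norm h5 hy)
    have : n⁻¹ * α n * α y * (n⁻¹ * α n)⁻¹ * (α y)⁻¹ = y * (n⁻¹ * c ^ j * n * (c ^ i)⁻¹) * y⁻¹ := by
      calc _ = n⁻¹ * α (n * y * n⁻¹) * n * (α y)⁻¹ := by rw [map_cj]; group
        _ = _ := by rw [hj, hi]; group
    rw [this]
    exact conj_mem_of_norm (le_norm_of_ab (Zc_ab Q) h2 hy)
      (mul_mem (conj_mem_of_norm' hn.1 (pow_mem hc j)) (inv_mem (pow_mem hc i)))
  have h7 : n⁻¹ * α n ∈ 𝐂(Zc Q) := mem_of_constt_mem (mem_of_syl_le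
    (hQ.mono (le_inf hQ.le (Zc_normal Q).norm) inf_le_left) (le_cent_Zc Q)
    (inf_le_right.trans (norm_le_norm_cent _)) (constt_mem _ ⟨hk, hk'⟩) (piElt_constt _ _))
    (pp hp.out h6)
  obtain ⟨j, hj⟩ := h4 _ (conj_mem_of_norm h5 hH.mem)
  have h8 := mem_cent_iff_conj.1 h7 _ ((f3 e).2 hH.mem)
  refine h1 ?_
  have : n * c * n⁻¹ = c ^ j := by
    rw [← mul_right_inj (n * e * n⁻¹), ← hj, map_cj]
    calc _ = n * (e * c) * n⁻¹ := by group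
      _ = n * (n⁻¹ * α n * α e * (n⁻¹ * α n)⁻¹) * n⁻¹ := by rw [h8, f2]
      _ = _ := by group
  rw [show m * n * c * (m * n)⁻¹ = m * (n * c * n⁻¹) * m⁻¹ by group, this,
    mem_cent_iff_conj.1 hm _ (pow_mem hc j)]
  exact pow_mem (mem_zpowers c) j

theorem g1 (hV : IsElementaryAbelian p V) (h : Tr p V H x e b) (ha : a ∈ H) (h1 : a ∉ zpowers b) :
    ∃ g ∈ 𝐍(V) ⊓ 𝐍(H), g * b * g⁻¹ ∉ zpowers b := by
  have a1 : a ≠ 1 := fun e => h1 (e ▸ one_mem _)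
  obtain ⟨α, f1, f2, f3⟩ := hG.lin2' hV (h.le h.bH) (h.le ha) h.mem (h.le h.bH) h.b1 a1
    (fun e => h.nmem (zpowers_le.2 h.bH e))
    fun e => h1 ((zp_eq (hV.2 a (h.le ha)) e h.b1).ge (mem_zpowers a))
  refine ⟨α x, ⟨(f1.norm x).2 (h.normV hV), mem_norm_of_conj_mem fun y hy => ?_⟩, ?_⟩
  · obtain ⟨v, hv, rfl⟩ := f1.exists (h.le hy)
    obtain ⟨i, hi⟩ := zp_nat (h.act' hV hv)
    rw [← mul_mem_cancel_right (inv_mem hy), ← map_cj, ← map_inv, ← map_mul, ← hi, map_pow, f2]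
    exact pow_mem ha i
  · have := map_cj α x e
    rw [h.act, map_mul, f2, f3] at this
    rwa [← this, mul_mem_cancel_right (mem_zpowers b)]

theorem r3 (hE : IsElementaryAbelian p E) (h : Tr p E H x e b) (hx : PiElt {p} x) :
    H = zpowers b := by
  refine le_antisymm (fun a ha => by_contra fun a1 => ?_) (zpowers_le.2 h.bH)
  have hc : ∀ m, m ∈ 𝐂(H) → m * e * m⁻¹ * e⁻¹ ∈ H → m ∈ 𝐂(H) ⊓ W4.CM H E := fun m h1 h2 =>
    ⟨h1, cent_le_norm H h1, fun v hv => by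
      obtain ⟨y, hy, i, rfl⟩ := h.rep v hv
      have c1 : Commute (m * e * m⁻¹ * e⁻¹) e := ab_iff.1 hE.1 _ (h.le h2) _ h.mem
      rw [commutatorElement_def, ← conj_mul, mem_cent_iff_conj.1 h1 y hy, ← conj_pow,
        ← inv_mul_cancel_right (m * e * m⁻¹) e, c1.mul_pow, _root_.mul_inv_rev, mul_assoc, mul_assoc,
        mul_inv_cancel_left]
      exact mul_mem hy (mul_mem (pow_mem h2 i) (inv_mem hy))⟩
  have hM : 𝐂(H) ⊓ W4.CM H E ⊴ 𝐍(E) ⊓ 𝐍(H) := ⟨fun m hm => ⟨mem_norm_of_conj_mem fun v hv =>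
    (mul_mem_cancel_right (inv_mem hv)).1 (h.le (hm.2.2 v hv)), hm.2.1⟩,
    le_norm_inf (le_norm_cent inf_le_right) (W4.le_norm_CM inf_le_right inf_le_left)⟩
  have hC : 𝐂(E) ⊴ 𝐂(H) ⊓ W4.CM H E := ⟨le_inf (cent_anti h.le) (W4.le_CM_of_cent le_rfl
    ((cent_anti h.le).trans (cent_le_norm H))), (hM.le.trans inf_le_left).trans (norm_le_norm_cent E)⟩
  obtain ⟨P, hP, hxP⟩ := exists_syl_ge (zpowers_le.2 (hc x h.cent (by
    rw [h.act, mul_inv_cancel_right]; exact h.bH))) (isPGroup_zpowers_iff.2 hx)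
  have hT := hP.inf_normal hC
  have hZ := hG.one hE hT (h.normV hE) h.mem (h.move hE)
  obtain ⟨P1, y, hH, hle⟩ := exists_hy hP.isPGroup (inf_lt_left.2 fun e1 : P ≤ 𝐂(E) => h.b1 (by
    simpa using h.act.symm.trans (mem_cent_iff_conj.1 (e1 (hxP (mem_zpowers x))) e h.mem)))
  have hy := hP.le hH.mem
  have hET : E ≤ P ⊓ 𝐂(E) := hZ.ge.trans (Zc_le _)
  have h' : Tr p E H y e (y * e * y⁻¹ * e⁻¹) := ⟨h.toHy, hy.1, by group, hy.2.2 e h.mem, fun e1 =>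
    hH.nmem (hle ⟨hH.mem, mem_cent_iff_conj.2 fun v hv => by
      obtain ⟨w, hw, i, rfl⟩ := h.rep v hv
      rw [← conj_mul, mem_cent_iff_conj.1 hy.1 w hw, ← conj_pow, mul_inv_eq_one.1 e1]⟩)⟩
  generalize y * e * y⁻¹ * e⁻¹ = b' at h'
  obtain ⟨a', ha', a1'⟩ : ∃ a' ∈ H, a' ∉ zpowers b' := by
    by_contra! e1
    exact a1 ((zp_eq (hE.2 _ (h.le h'.bH)) (e1 b h.bH) h.b1).ge (e1 a ha))
  obtain ⟨g, hg, g1⟩ := hG.g1 hE h' ha' a1'
  obtain ⟨m, hm, n, hn, rfl⟩ := (hP.frattini hM).mem_iff.1 hg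
  obtain ⟨w, hw, i, hi⟩ := hH.rep _ (conj_mem_of_norm hn.2 hH.mem)
  have key : ∀ c ∈ H, n⁻¹ * c ^ i * n * c⁻¹ ∈ zpowers b' := fun c hc => by
    have c1 : c ∈ 𝐂(P) := le_cent_symm (hP.le.trans inf_le_left) hc
    obtain ⟨α, f1, f2, f3, f4⟩ := hG.pert hp.out hH (hle (hET (h.le hc))) c1 (hE.2 c (h.le hc))
    have hk : n⁻¹ * α n ∈ 𝐂(P ⊓ 𝐂(E)) :=
      (f1.mono hle).cent (mem_norm_inf hn.2 (norm_le_norm_cent E hn.1.1))
    have hk' := cent_anti hET hk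
    have h1 : n⁻¹ * α n * y * (n⁻¹ * α n)⁻¹ = y * (n⁻¹ * c ^ i * n * c⁻¹) := by
      calc _ = n⁻¹ * (α n * (y * c) * (α n)⁻¹) * n * (n⁻¹ * α n * c * (n⁻¹ * α n)⁻¹)⁻¹ := by group
        _ = _ := by
          rw [← f2, ← map_cj, hi, f4 w hw, ← hi, mem_cent_iff_conj.1 hk' c (h.le hc)]; group
    have h2 : n⁻¹ * c ^ i * n * c⁻¹ ∈ H :=
      mul_mem (conj_mem_of_norm' hn.1.2 (pow_mem hc i)) (inv_mem hc)
    have h3 : (n⁻¹ * α n) ^ p ∈ 𝐂(zpowers y) :=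
      pow_cent1 hk' hE.2 (h1 ▸ conj_mem_of_norm (h'.normV hE) (h.le h2))
    have h4 : constt {p} (n⁻¹ * α n) ∈ E := hZ.le ⟨hT.mem_of_mem_norm (constt_mem _ hk')
      (cent_le_norm _ (constt_mem _ hk)) (piElt_constt _ _), constt_mem _ hk⟩
    have h5 := pp_conj hp.out h3 (mem_zpowers y)
    have h6 := inv_mem (h'.act' hE (conj_mem_of_norm' (h'.normV hE) h4))
    rwa [show ∀ z : G, (y * (y⁻¹ * z * y) * y⁻¹ * (y⁻¹ * z * y)⁻¹)⁻¹ = y⁻¹ * (z * y * z⁻¹) by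
      intro; group, h5, h1, inv_mul_cancel_left] at h6
  by_cases hi' : p ∣ i
  · obtain ⟨j, rfl⟩ := hi'
    simpa [pow_mul, hE.2 a' (h.le ha'), a1'] using key a' ha'
  have h7 := key b' h'.bH
  rw [mul_mem_cancel_right (inv_mem (mem_zpowers b'))] at h7
  have h8 : n⁻¹ * b' * n ∈ zpowers b' := by_contra fun e1 => hi' (dvd_of_pow_mem hp.out e1
    (by rw [hE.2 _ (conj_mem_of_norm' hn.1.1 (h.le h'.bH))]; exact one_mem _)
    (by rwa [cj_pow]))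
  have h9 : n ∈ 𝐍(zpowers b') := inv_mem_iff.1 (mem_norm_of_conj_le (by
    rw [conj_zpowers, zpowers_le, inv_inv]; exact h8))
  refine g1 ?_
  rw [show m * n * b' * (m * n)⁻¹ = m * (n * b' * n⁻¹) * m⁻¹ by group,
    mem_cent_iff_conj.1 hm.1 _ (conj_mem_of_norm hn.1.2 h'.bH)]
  exact conj_mem_of_norm h9 (mem_zpowers b')

theorem ab_syl (h2 : p ≠ 2) (hE : IsMaxEp p E ⊤) (hQ : Syl p Q 𝐂(E)) : Ab Q := by
  obtain ⟨α, hα⟩ := hG.inv hE.ab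
  obtain ⟨c, hc, h1⟩ := exists_pres hQ (pres_of fun x hx => hα x hx ▸ E.inv_mem hx).cent
  refine ab_of_aut h2 hQ.isPGroup h1 fun x hx e => ?_
  have := hE.mem_of_cent trivial (hQ.le hx) e
  rw [MulEquiv.trans_apply, hα x this]
  exact mem_cent_iff_conj.1 hc _ (inv_mem this)

theorem tr_false (h2 : p ≠ 2) (hE : IsElementaryAbelian p E) (hQ : Syl p E 𝐂(E))
    (h : Tr p E H x e b) (hx : PiElt {p} x) : False := by
  obtain rfl := hG.r3 hE h hx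
  have hb := h.le h.bH
  have he := h.mem
  have e1 : e ≠ 1 := fun e1 => h.nmem (e1 ▸ one_mem _)
  have hm : ∀ y ∈ 𝐂(E), PiElt {p} y → y ∈ E := fun y hy =>
    hQ.mem_of_mem_norm hy (cent_le_norm E hy)
  obtain ⟨α, f1, f2, f3⟩ := hG.lin2' hE hb he he (inv_mem hb) h.b1 e1 h.nmem fun e2 =>
    h.nmem (zpowers_le.2 h.bH ((zp_eq (hE.2 e he) (inv_mem_iff.1 e2) h.b1).ge (mem_zpowers e)))
  have c1 : b * e = e * b := ab_iff.1 hE.1 b hb e he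
  have x1 : x * b * x⁻¹ = b := mem_cent_iff_conj.1 h.cent b h.bH
  have y1 : α x * e * (α x)⁻¹ = e := by rw [← f2, ← map_cj, x1]
  have y2 : α x * b * (α x)⁻¹ = b * e⁻¹ := by
    have := map_cj α x e
    rw [h.act, map_mul, f2, f3, ← conj_inv] at this
    rw [← inv_inv (α x * b * (α x)⁻¹), ← this]
    group
  have w1 : x * α x * x * b * (x * α x * x)⁻¹ = e⁻¹ := by
    calc _ = x * (α x * (x * b * x⁻¹) * (α x)⁻¹) * x⁻¹ := by group
      _ = _ := by rw [x1, y2, ← conj_mul, x1, ← conj_inv, h.act, c1]; group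
  have w2 : x * α x * x * e * (x * α x * x)⁻¹ = b := by
    calc _ = x * (α x * (x * e * x⁻¹) * (α x)⁻¹) * x⁻¹ := by group
      _ = _ := by rw [h.act, ← conj_mul (a := b), y1, y2, inv_mul_cancel_right, x1]
  obtain ⟨w, hw⟩ : ∃ w : G, ∀ v ∈ E, w * v * w⁻¹ = v⁻¹ := by
    generalize x * α x * x = w at w1 w2
    refine ⟨w * w, fun v hv => ?_⟩
    obtain ⟨y, hy, j, rfl⟩ := h.rep v hv
    obtain ⟨i, rfl⟩ := zp_nat hy
    have w3 : w * w * b * (w * w)⁻¹ = b⁻¹ := by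
      calc _ = w * (w * b * w⁻¹) * w⁻¹ := by group
        _ = _ := by rw [w1, ← conj_inv, w2]
    have w4 : w * w * e * (w * w)⁻¹ = e⁻¹ := by
      calc _ = w * (w * e * w⁻¹) * w⁻¹ := by group
        _ = _ := by rw [w2, w1]
    rw [← conj_mul, ← conj_pow, ← conj_pow, w3, w4, inv_pow, inv_pow, ← _root_.mul_inv_rev,
      (Commute.pow_pow c1 i j).eq]
  have hx' := h.normV hE
  have hwE : w ∈ 𝐍(E) := mem_norm_of_conj_mem fun v hv => hw v hv ▸ inv_mem hv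
  have hc : ∀ w ∈ 𝐍(E), (∀ v ∈ E, w * v * w⁻¹ = v⁻¹) → x⁻¹ * (w * x * w⁻¹) ∈ 𝐂(E) := fun w h0 hw =>
    mem_cent_iff_conj.2 fun v hv => by
      obtain ⟨u, hu, rfl⟩ : ∃ u ∈ E, v = w * u * w⁻¹ := ⟨_, conj_mem_of_norm' h0 hv, by group⟩
      calc _ = x⁻¹ * (w * (x * u * x⁻¹) * w⁻¹) * x := by group
        _ = _ := by rw [hw _ (conj_mem_of_norm hx' hu), hw u hu]; group
  have hn := zpowers_le.2 (norm_le_norm_cent E hx')
  obtain ⟨R, hR, hxR⟩ := exists_syl_ge (le_sup_right (a := 𝐂(E))) (isPGroup_zpowers_iff.2 hx)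
  have hwD : w ∈ 𝐍(𝐂(E) ⊔ zpowers x) := mem_norm_of_conj_le (by
    rw [conj_sup, conj_eq_of_mem_norm (norm_le_norm_cent E hwE), conj_zpowers]
    exact sup_le le_sup_left (zpowers_le.2 ((mul_mem_cancel_left (inv_mem (mem_sup_right
      (mem_zpowers x)))).1 (mem_sup_left (hc w hwE hw)))))
  obtain ⟨d, hd, e2⟩ := hR.exists_conj' (hR.conj_of_norm hwD)
  obtain ⟨c, hc', r, hr, rfl⟩ := (mem_sup_norm_left hn).1 hd
  rw [← conj_conj, conj_eq_of_mem (hxR hr), ← conj_inj (g := c⁻¹), inv_conj_conj, conj_conj,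
    conj_eq_self_iff] at e2
  have hw' : ∀ v ∈ E, c⁻¹ * w * v * (c⁻¹ * w)⁻¹ = v⁻¹ := fun v hv => by
    rw [← mem_cent_iff_conj.1 (inv_mem hc') _ (inv_mem hv), ← hw v hv]; group
  have hn' : c⁻¹ * w ∈ 𝐍(E) := mul_mem (inv_mem (cent_le_norm E hc')) hwE
  generalize c⁻¹ * w = n at e2 hw' hn'
  have hxR' := hxR (mem_zpowers x)
  have hf := hm _ (hc n hn' hw') (hR.piGrp.piElt (mul_mem (inv_mem hxR') (conj_mem_of_norm e2 hxR')))
  have c2 : ⁅e, x⁆ = b⁻¹ := by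
    rw [commutatorElement_def, mul_assoc e, mul_assoc e, ← conj_inv, h.act]; group
  obtain ⟨φ, g1, g2⟩ := hG.extp hp.out hx' (e' := x * e) (by simpa using abelem_le_cent hE he)
    (hm _ (h.pow_mem_cent hE) (hx.pow p)) (by
      rw [PGrp.mul_pow_of_odd (hp.out.odd_of_ne_two h2) (c2 ▸ Commute.inv_left
        (mul_inv_eq_iff_eq_mul.1 x1).symm) (c2 ▸ Commute.inv_left c1)
        (by rw [c2, inv_pow, hE.2 b hb, inv_one]), hE.2 e he, mul_one])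
    (fun e => h.b1 (by simpa using h.act.symm.trans (mem_cent_iff_conj.1 (abelem_le_cent hE e) _ he)))
    fun e => h.b1 (by simpa using h.act.symm.trans (mem_cent_iff_conj.1 (abelem_le_cent hE
      ((mul_mem_cancel_right he).1 e)) _ he))
  have hk := g1.cent hn'
  have k1 : n⁻¹ * φ n * x * (n⁻¹ * φ n)⁻¹ = x * (e * e)⁻¹ := by
    have h3 : φ n * (x * e) * (φ n)⁻¹ = x * e * (x⁻¹ * (n * x * n⁻¹)) := by
      rw [← g2, ← map_cj, ← g1 _ hf, ← map_mul, mul_inv_cancel_left]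
    have h4 : n⁻¹ * e * n = e⁻¹ := by
      conv_lhs => rw [← inv_inv e, ← hw' _ (inv_mem he)]
      group
    calc _ = n⁻¹ * (φ n * (x * e) * (φ n)⁻¹) * n * (n⁻¹ * φ n * e * (n⁻¹ * φ n)⁻¹)⁻¹ := by group
      _ = x * (n⁻¹ * e * n) * e⁻¹ := by
        rw [h3, mem_cent_iff_conj.1 hk e he, mul_assoc x, ab_iff.1 hE.1 e he _ hf]; group
      _ = _ := by rw [h4]; group
  have h5 := pp_conj hp.out (pow_cent1 hk hE.2
    (k1 ▸ conj_mem_of_norm hx' (inv_mem (mul_mem he he)))) (mem_zpowers x)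
  have h6 := h.act' hE (hm _ (constt_mem {p} hk) (piElt_constt _ _))
  rw [show ∀ z : G, x * z * x⁻¹ * z⁻¹ = x * (z * x * z⁻¹)⁻¹ by intro; group, h5, k1,
    show x * (x * (e * e)⁻¹)⁻¹ = (x * e * x⁻¹) ^ 2 by rw [conj_pow, sq]; simp [mul_assoc], h.act, Commute.mul_pow c1,
    mul_mem_cancel_left (pow_mem (mem_zpowers b) 2)] at h6
  exact h2 ((Nat.prime_dvd_prime_iff_eq hp.out Nat.prime_two).1
    (dvd_of_pow_mem hp.out h.nmem (h.pow e he) h6))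

/-- subgroups of odd prime power order are abelian -/
theorem ab_odd (h2 : p ≠ 2) (hP : IsPGroup p P) : Ab P := by
  obtain ⟨E, hE, -⟩ := exists_isMaxEp_ge (H := (⊤ : Subgroup G)) bot_le (abelem_bot p)
  obtain ⟨Q, hQ⟩ := exists_syl p 𝐂(E)
  have ha := hG.ab_syl h2 hE hQ
  obtain ⟨R, hR, hle⟩ := exists_syl_ge le_top hQ.isPGroup
  obtain ⟨g, -, hg⟩ := hR.exists_conj_le le_top hP
  refine ab_conj.1 (ab_of_le (by_contra fun hn => ?_) hg)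
  obtain ⟨y, hy, y1⟩ := SetLike.exists_of_lt
    (lt_inf_norm_of_nil hR.nil (hle.lt_of_ne fun e => hn (e ▸ ha)))
  have h1 := le_Zc_of_syl hE.abelem hQ
  have h3 : Ohm p Q = E := le_antisymm (Ohm_le_iff.2 fun x hx e =>
    hE.mem_of_cent trivial (hQ.le hx) e) (le_Ohm (h1.trans (Zc_le Q)) hE.abelem)
  have h4 : y ∈ 𝐍(E) := h3 ▸ norm_le_norm_Ohm p Q hy.2
  have h5 := hR.piGrp.piElt hy.1
  have h6 : y ∉ 𝐂(E) := fun e => y1 (hQ.mem_of_mem_norm e hy.2 h5)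
  obtain ⟨u, hu, u1⟩ := exists_mem_ne_one (inf_cent_ne_bot_of_isPGroup (isPGroup_zpowers_iff.2 h5)
    hE.isPGroup (zpowers_le.2 h4) fun e => h6 (by rw [e, cent_bot]; trivial))
  obtain ⟨H, x, e, b, hx, h⟩ := hG.tv hE.abelem h4 h6 hu.1 u1
    (mem_cent1_iff_conj.1 (mem_cent1_comm.1 (cent_zpowers y ▸ hu.2)))
  have h7 := hG.one hE.abelem hQ (h.normV hE.abelem) h.mem (h.move hE.abelem)
  rw [Zc_eq_self ha] at h7
  exact hG.tr_false h2 hE.abelem (h7 ▸ hQ) h hx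

end Hom

end Cfsg.Agent.HG
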