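import Cfsg.Agent.Lib.HG.Suz
import Cfsg.Agent.Lib.GW.Main

/-!
# Simple homogeneous groups with dihedral Sylow 2-subgroups
-/

set_option autoImplicit false
set_option linter.unusedSectionVars false

namespace Cfsg.Agent.HG

open Subgroup Cfsg.Agent.OO Cfsg.Agent.Coprime GW ZG
open scoped commutatorElement Pointwise

universe u

variable {G : Type u} [Group G] [Finite G] {A D E H K L M N P Q R S T V W : Subgroup G}
  {a b c d e g j k n s t u v w x y z ρ τ : G} {m p : ℕ} {α β : G ≃* G}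

theorem pnil_dh (h : Tw a s z) (hA : Alm G) (hd : s * a * s⁻¹ = a⁻¹) : PNil 2 𝐂[z] :=
  pnil_two fun R hR h2 g hg hn ho => mem_cent_iff_conj.2 fun x hx => by
  by_contra e
  have hx' := conj_mem_of_norm hn hx
  by_cases x2 : x * x = 1
  · have x1 : x ≠ 1 := by rintro rfl; simp at e
    have sq : ∀ y ∈ R, y * y = 1 := fun y hy => by_contra fun y2 => e (mem_cent_iff_conj.1
      (hA.cent_of_odd h2 hn ho hy y2 hx' (conj_ne_one.2 x1) (conj_sq x2 g) hx x1 x2 e) x hx)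
    have cm : ∀ y ∈ R, ∀ w ∈ R, y * w = w * y := fun y hy w hw => by
      rw [← inv_eq (sq _ (mul_mem hy hw)), mul_inv_rev, inv_eq (sq _ hy), inv_eq (sq _ hw)]
    have p := pair_mk x1 (conj_ne_one.2 x1) (Ne.symm e) x2 (conj_sq x2 g) (cm _ hx _ hx')
    have hg' : g ∈ 𝐍(S4 x (g * x * g⁻¹)) := mem_norm_S4 (s_mem_S4 _ _)
      (h.mem_four p (two_zp h2 (conj_mem_of_norm hn hx')) (cm _ (conj_mem_of_norm hn hx') _ hx)
        (cm _ (conj_mem_of_norm hn hx') _ hx'))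
    have gz := mem_cent1_iff_conj.1 hg
    rcases p.mem_S4.1 (h.mem_four p (two_elt h.z2) (mem_cent1.1 (hR hx)).symm
      (mem_cent1.1 (hR hx')).symm) with e1 | e1 | e1 | e1
    · exact h.z1 e1
    · exact e (e1 ▸ gz)
    · exact e (by rw [← mul_left_cancel (mul_right_cancel (gz.trans e1)), gz])
    · exact e (mul_inv_eq_iff_eq_mul.2 (comm_of_odd p.mul.symm (by rwa [S4_comm, S4_mul])
        (e1 ▸ mem_cent1.1 hg) ho))
  · obtain ⟨k, hk⟩ := h.exists_conj_le h2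
    have key : ∀ y ∈ R, y * y ≠ 1 → k * y * k⁻¹ ∈ zpowers a := fun y hy y2 => by_contra fun e =>
      y2 (by simpa using h.out_sq hd (hk (conj_mem_conj hy)) e)
    have := zp_eq_of_orderOf (key _ hx' (by simpa using x2)) (key _ hx x2)
      (by simp only [orderOf_conj])
    rw [← conj_zpowers k, ← conj_zpowers k, conj_inj] at this
    exact e (mul_inv_eq_iff_eq_mul.2 (comm_of_two (two_zp h2 hx) ho (this ▸ mem_zpowers _)))

theorem hyp_of (h : Tw a s z) (hd : s * a * s⁻¹ = a⁻¹) (h1 : OneCl G)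
    (hp : PNil 2 𝐂[z]) (hs : ∀ x ∈ O 𝐂[z], s * x * s⁻¹ = x⁻¹) (ha : a ∈ 𝐂(O 𝐂[z]))
    (uz : ∀ y ∈ O 𝐂[z], y ≠ 1 → ∀ j ∈ 𝐂[y], j ≠ 1 → j * j = 1 → j = z) :
    ODD.Hyp (O 𝐂[z] ⊔ zpowers a) z s := by
  have hn := (Opi_normal ({2} : Set ℕ)ᶜ 𝐂[z]).norm
  have hsd := hp.sdprod (h.syl.hall.mono h.le_cent le_top).syl
  have aH := Tw.le.trans h.le_cent
  have sH := h.le_cent (s_mem_S4 a s)
  have mem : ∀ {x}, x ∈ O 𝐂[z] ⊔ zpowers a ↔ ∃ o ∈ O 𝐂[z], ∃ b ∈ zpowers a, o * b = x :=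
    mem_sup_norm_left (aH.trans hn)
  have KH : O 𝐂[z] ⊔ zpowers a ≤ 𝐂[z] := sup_le (Opi_le _ _) aH
  have two : ∀ x ∈ O 𝐂[z] ⊔ zpowers a, x * x = 1 → x ∈ zpowers a := fun x hx x2 => by
    obtain ⟨o, ho, b, hb, rfl⟩ := mem.1 hx
    have e := mem_cent_iff.1 (zpowers_le.2 ha hb) o ho
    rw [mul_assoc, ← mul_assoc b, ← e, mul_assoc, ← mul_assoc] at x2
    have : o * o ∈ O 𝐂[z] ⊓ S4 a s :=
      mem_inf.2 ⟨mul_mem ho ho, eq_inv_of_mul_eq_one_left x2 ▸ inv_mem (Tw.le (mul_mem hb hb))⟩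
    rw [eq_one_of_odd_of_sq (odd_of_mem (odd_O _) ho) (mem_bot.1 (hsd.inf_eq ▸ this)), one_mul]
    exact hb
  refine ⟨le_sup_right (a := O 𝐂[z]) h.z_mem, h.z1, h.z2, fun e => h.sa (two s e h.s2), h.s2,
    fun x hx => ?_, fun g => ⟨fun e => ?_, fun e => mem_cent1.1 (e.elim (@KH g)
      fun e => (mul_mem_cancel_right sH).1 (KH e))⟩, fun x hx x1 g hg => ?_, h1⟩
  · obtain ⟨o, ho, b, hb, rfl⟩ := mem.1 hx
    rw [← conj_mul, hs o ho, inv_of_mem hd hb, ← mul_inv_rev,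
      mem_cent_iff.1 (zpowers_le.2 ha hb) o ho]
  · obtain ⟨o, ho, b, hb, rfl⟩ := hsd.mem_iff.1 (mem_cent1.2 e)
    exact (h.mem.1 hb).imp (fun e => mem.2 ⟨o, ho, b, e, rfl⟩)
      fun e => mem.2 ⟨o, ho, _, e, (mul_assoc _ _ _).symm⟩
  obtain ⟨y, hy, hq⟩ := exists_prime_mem x1
  replace hg : g * y * g⁻¹ ∈ O 𝐂[z] ⊔ zpowers a :=
    (zpowers_le.2 hg) (conj_zpowers g x ▸ conj_mem_conj hy)
  replace hy := zpowers_le.2 hx hy
  have y1 := Dh.y1 hq
  by_cases y2 : y * y = 1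
  · have e := h.eq_z (two _ hg (conj_sq y2 g)) (conj_ne_one.2 y1) (conj_sq y2 g)
    rw [h.eq_z (two _ hy y2) y1 y2] at e
    exact mul_inv_eq_iff_eq_mul.1 e
  exact mul_inv_eq_iff_eq_mul.1 (uz _ ((mem_O hp).2 ⟨KH hg, (orderOf_conj g y).symm ▸ odd_of_prime hq y2⟩)
    (conj_ne_one.2 y1) _ (cent1_conj g y ▸ conj_mem_conj (mem_cent1_comm.1 (KH hy)))
    (conj_ne_one.2 h.z1) (conj_sq h.z2 g))

theorem Hom.hyp [hs : IsSimpleGroup G] (hG : Hom G) (hna : ¬ IsMulCommutative G) (h : Tw a s z)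
    (h1 : OneCl G) (hd : s * a * s⁻¹ = a⁻¹) : ODD.Hyp (O 𝐂[z] ⊔ zpowers a) z s := by
  have hA := hG.alm hna
  have hn := (Opi_normal ({2} : Set ℕ)ᶜ 𝐂[z]).norm
  have sH := h.le_cent (s_mem_S4 a s)
  by_cases ha : a * a = 1
  · obtain rfl : a = z := h.eq_z (mem_zpowers a) (fun e => h.z1 (by simpa [e] using h.z_mem)) ha
    have p := pair_of_syl h.pair h.syl
    obtain ⟨F, _, _, -, h8, ⟨e⟩⟩ := R1.gw4 G hs hna (card_top (G := G) ▸ p.not_dvd)
    have hg := good_of_equiv (Nat.odd_iff.2 (by omega)) (topEquiv.trans e) smp_top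
      fun e => not_sol' hna (sol_of_ab e)
    have p' := p.mono' p.le_cent le_top
    have uz : ∀ y ∈ O 𝐂[a], y ≠ 1 → ∀ j ∈ 𝐂[y], j ≠ 1 → j * j = 1 → j = a := fun y hy y1 j hj j1 j2 =>
      hg.ui y (mem_top y) (odd_of_mem (odd_O _) hy) y1 j ⟨mem_top j, hj⟩ a
        ⟨mem_top a, mem_cent1_comm.1 (Opi_le _ _ hy)⟩ j1 j2 h.z1 ha
    exact hyp_of h hd h1 (pnil_of_sdprod (p'.sdprod_of_cent le_rfl) (Opi_piGrp _ _) h.syl.isPGroup)
      (fun x => conj_eq_inv h.s2 (hn sH) (eq_bot_iff.2 fun y hy => by_contra fun y1 =>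
        p.ne (uz y hy.1 y1 s (mem_cent1_comm.1 hy.2) h.s1 h.s2).symm)) (le_cent1_iff.1 (Opi_le _ _)) uz
  have hp := pnil_dh h hA hd
  have as : a * s ∈ S4 a s := mul_mem (t_mem_S4 a s) (s_mem_S4 a s)
  have as' : a * s ∉ zpowers a := by rw [mul_mem_cancel_left (mem_zpowers a)]; exact h.sa
  have hz := zpowers_le.2 h.z_mem
  obtain ⟨α, f1, f2⟩ := hG.extp Nat.prime_two (H := zpowers z) (e := s) (e' := a * s)
    (cent_le_norm _ (cent_zpowers z ▸ sH)) (cent_zpowers z ▸ mul_mem (inv_mem sH) (h.le_cent as))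
    (by rw [sq, h.s2]; exact one_mem _) (by rw [sq, sq, h.s2, h.out_sq hd as as'])
    (fun e => h.sa (hz e)) fun e => as' (hz e)
  have aC : a ∈ 𝐂(O 𝐂[z]) := by
    have := hG.ss' (odd_O _) h.syl.isPGroup (h.le_cent.trans hn) (s_mem_S4 a s) (f2 ▸ as)
      (h.s2 ▸ one_mem _) (pres_Opi _ (pres_cent1 (f1 z (mem_zpowers z))))
    rwa [f2, ← mul_assoc, show s * a * s = a⁻¹ by rw [← hd, inv_eq h.s2], inv_mem_iff] at this
  have hs : ∀ x ∈ O 𝐂[z], s * x * s⁻¹ = x⁻¹ := fun x => conj_eq_inv h.s2 (hn sH)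
    (eq_bot_iff.2 fun y hy => h.eq_one_of_odd hA (hG.nb hna) ha (odd_of_mem (odd_O _) hy.1)
      (mem_cent_iff.1 aC y hy.1) (mem_cent1.1 hy.2))
  refine hyp_of h hd h1 hp hs aC fun y hy y1 j hj j1 j2 => ?_
  have ay := cent_le_cent1 hy aC
  have hN : S4 a s ≤ 𝐍(zpowers y) := S4_le.2 ⟨(cent_normal y).le ay,
    mem_norm_zp (hs y hy ▸ inv_mem (mem_zpowers y))⟩
  have hS := (h.syl.hall.mono hN le_top).syl.inf_normal (cent_normal y)
  rw [h.inf_cent ay (not_cent_of_inv (odd_of_mem (odd_O _) hy) y1 (hs y hy))] at hS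
  have zY : z ∈ 𝐂(O 𝐂[y]) := by
    have := hG.dz' (odd_O _) h.syl.isPGroup (hN.trans ((cent_normal y).Opi _).norm) (s_mem_S4 a s)
      (h.s2 ▸ one_mem _) (t_mem_S4 a s)
    rw [show a * s * a⁻¹ * s⁻¹ = a * (s * a * s⁻¹)⁻¹ by group, hd, inv_inv] at this
    exact zpowers_le.2 this (h.z_mem_zp (mul_mem (mem_zpowers a) (mem_zpowers a)) ha)
  have hz : 𝐂[y] ≤ 𝐂[z] := ((pnil_of_cyc hS).sdprod hS).sup_eq.ge.trans
    (sup_le (le_cent1_iff.2 zY) (Tw.le.trans h.le_cent))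
  obtain ⟨c, hc, e⟩ := hS.exists_conj_le (zpowers_le.2 hj) (two_elt j2)
  have e1 := h.eq_z (e (conj_mem_conj (mem_zpowers _))) (conj_ne_one.2 j1) (conj_sq j2 c)
  rw [← mem_cent1_iff_conj.1 (hz hc)] at e1
  exact mul_left_cancel (mul_right_cancel e1)

theorem exists_unit (h5 : 5 ≤ m) (h6 : m ≠ 6) :
    ∃ k : ℕ, k.Coprime m ∧ 2 ≤ k ∧ k + 2 ≤ m := by
  obtain ⟨n, rfl | rfl⟩ := m.even_or_odd'
  · obtain ⟨l, rfl | rfl⟩ := n.even_or_odd'
    · exact ⟨2 * l + 1, Nat.Coprime.mul_right (by simp) (by simp), by omega, by omega⟩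
    · refine ⟨2 * l + 1 + 2, Nat.Coprime.mul_right (Nat.coprime_two_right.2 ⟨l + 1, by ring⟩) ?_,
        by omega, by omega⟩
      rw [Nat.coprime_self_add_left]
      exact Nat.coprime_two_left.2 ⟨l, rfl⟩
  · exact ⟨2, Nat.coprime_two_left.2 ⟨n, rfl⟩, le_rfl, by omega⟩

theorem Hom.res0 [IsSimpleGroup G] (hG : Hom G) (hna : ¬ IsMulCommutative G) (h : ODD.Hyp K t s) :
    ∃ x w m, Res K x w m ∧ (m = 2 ∨ m = 3 ∨ m = 6) := by
  have h0 := O_eq_bot hna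
  have h2 := Op_eq_bot hna
  rw [O, Op'_top] at h0
  rw [Op_top] at h2
  have h1 := h.two_dvd
  have h3 : 0 < Nat.card K := Nat.card_pos
  obtain ⟨m, P, hP, hm, hK⟩ : ∃ m, ∃ P : Subgroup G, ODD.Data P m ∧ 2 ≤ m ∧
      (Nat.card K = m ∨ Nat.card K = m + 1) := by
    by_cases hk : Nat.card K = 2
    · obtain ⟨P, hP⟩ := h.data_of_two hk h0 h2
      exact ⟨2, P, hP, le_rfl, Or.inl hk⟩
    rcases h.unip (by omega) with hu | ⟨m, hm, hu⟩ <;> obtain ⟨P, hP⟩ := hu.exists_data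
    · exact ⟨_, P, hP, by omega, Or.inl rfl⟩
    · exact ⟨_, P, hP, by omega, Or.inr hm⟩
  obtain ⟨w, w2, hw⟩ := hP.exists_inv_not_mem h0 h.t1 h.t2
  have hZ := hP.zas w2 hw h
    (hK.imp (fun (e : Nat.card K = m) => even_iff_two_dvd.2 (e ▸ h1)) fun e => by simp [e])
  generalize BSW.Kt P w = T at hZ
  obtain ⟨y, hy, y1⟩ := hP.exists_ne_one
  obtain ⟨x, hx, hp⟩ := exists_prime_mem y1
  replace hx := zpowers_le.2 hy hx
  have := Fact.mk hp
  have x1 := Dh.y1 hp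
  have hab : Ab P := ab_iff.2 fun _ h _ => hP.ab h
  have hV : IsElementaryAbelian (orderOf x) P := (hZ.irred (Ohm_le _ P) (le_norm_Ohm _ hZ.T_le)).resolve_left
    (fun e => x1 (mem_bot.1 (e.le (mem_Ohm hx (pow_orderOf_eq_one x))))) ▸ Ohm_abelem _ hab
  obtain rfl := (hZ.irred (zpowers_le.2 hx) fun τ hτ => mem_norm_zp (hG.ab
    (fun e => x1 (hP.eq_one_of_mul_self hx (by rw [← sq, ← e, pow_orderOf_eq_one]))) hV (hZ.T_le hτ)
    (fun g hg => by
      obtain ⟨b, hb, σ, hσ, rfl⟩ := hZ.decomp g hg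
      rw [show τ * (b * σ) * τ⁻¹ * (b * σ)⁻¹ = τ * b * τ⁻¹ * (τ * σ * (σ * τ)⁻¹) * b⁻¹ by group,
        hZ.T_comm hτ hσ]
      simpa using hab.le_cent (mul_mem (conj_mem_of_norm (hZ.T_le hτ) hb) (inv_mem hb))) hx)).resolve_left
    (by simpa using x1)
  have ho := (Nat.card_zpowers x).symm.trans hP.cardP
  have hc : 𝐂[x] = zpowers x := Subgroup.ext fun g => mem_cent1.trans (hP.cc x hx x1 g)
  refine ⟨x, w, m, ⟨hm, hK, ho ▸ hp, hP.card, ho, hc, (hP.cosets w2 hw).1, hw, (hP.cosets w2 hw).2,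
    hZ.main⟩, by_contra fun hne => ?_⟩
  have m4 : m ≠ 4 := fun e => by rw [ho, e] at hp; exact absurd hp (by decide)
  obtain ⟨k, k1, k2, k3⟩ := exists_unit (m := m) (by omega) (by omega)
  have hT : IsCyclic T := by
    have := isCyclic_of_prime_card (Nat.card_zpowers x)
    have := ZMod.isCyclic_units_prime hp
    have e0 := IsCyclic.mulAutMulEquiv (zpowers x)
    rw [Nat.card_zpowers] at e0
    have := e0.isCyclic.mpr inferInstance
    refine isCyclic_of_injective ((zpowers x).normalizerMonoidHom.comp (inclusion hZ.T_le))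
      ((injective_iff_map_eq_one _).2 fun τ e => Subtype.ext ((hZ.fpf τ τ.2 x hx ?_).resolve_right x1))
    have : inclusion hZ.T_le τ ∈ (zpowers x).normalizerMonoidHom.ker := e
    rw [normalizerMonoidHom_ker] at this
    exact (this x hx).symm
  obtain ⟨τ, rfl⟩ := exists_zpowers_eq hT
  have oτ := (Nat.card_zpowers τ).symm.trans hZ.cardT
  have hτ := mem_zpowers τ
  have τ1 : τ ≠ 1 := fun e => by rw [e, orderOf_one] at oτ; omega
  have key : ∀ (α : G ≃* G) (σ : G), σ ∈ zpowers τ → α τ = σ → α x ∈ zpowers x → σ = τ :=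
    fun α σ hσ e1 e2 => by
      obtain ⟨i, hi⟩ := zp_nat (conj_mem_of_norm (hZ.T_le hτ) hx)
      have e3 := map_cj α τ x
      have e4 : τ * α x * τ⁻¹ = α x ^ i := by
        obtain ⟨j, hj⟩ := zp_nat e2
        rw [← hj, ← conj_pow, ← hi, ← pow_mul, ← pow_mul, mul_comm]
      rw [← hi, map_pow, e1, ← e4] at e3
      refine (inv_mul_eq_one.1 ((hZ.fpf _ (mul_mem (inv_mem hτ) hσ) _ e2 ?_).resolve_right
        (by simpa using x1))).symm
      rw [← mul_inv_eq_iff_eq_mul, cj_mul, ← e3]; group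
  obtain ⟨α, hα⟩ := hG.cyc ((oτ ▸ k1).symm.orderOf_pow).symm
  have hS : Syl (orderOf x) (zpowers x) ⊤ := ⟨le_top, abelem_isPGroup hV, by
    rw [relIndex_top_right, show (zpowers x).index = m * (2 * m + 2) from Nat.eq_of_mul_eq_mul_left
      hp.pos (by rw [← Nat.card_zpowers, card_mul_index, hP.card, Nat.card_zpowers, ho]), ho]
    exact (ho ▸ hp).coprime_iff_not_dvd.1 ODD.Unip.coprime⟩
  obtain ⟨g, -, hg⟩ := hS.exists_conj' (syl_map hS fun _ => Iff.rfl)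
  rw [MonoidHom.map_zpowers, MulEquiv.coe_toMonoidHom] at hg
  have hn : τ ∈ 𝐍(zpowers (α x)) := by
    refine zpowers_le.2 (?_ : τ ^ k ∈ _) (mem_zp_pow (oτ ▸ k1))
    obtain ⟨i, hi⟩ := zp_nat (conj_mem_of_norm (hZ.T_le hτ) hx)
    refine mem_norm_zp ?_
    rw [← hα, ← map_cj, ← hi, map_pow]
    exact pow_mem (mem_zpowers _) i
  have hd : ∀ i, i < m → τ ^ i = 1 → i = 0 := fun i h1 e =>
    Nat.eq_zero_of_dvd_of_lt (oτ ▸ orderOf_dvd_of_pow_eq_one e) h1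
  by_cases e : g ∈ 𝐍(zpowers x)
  · have := key α _ (pow_mem hτ k) hα (by rw [← conj_eq_of_mem_norm e, ← hg]; exact mem_zpowers _)
    obtain ⟨k, rfl⟩ : ∃ l, k = l + 1 := ⟨k - 1, by omega⟩
    have := hd k (by omega) (by simpa [pow_succ] using this)
    omega
  obtain ⟨y, hy, σ, hσ, y', hy', rfl⟩ := hZ.bruhat g e
  rw [← conj_conj, conj_eq_of_mem hy', ← conj_conj, conj_eq_of_mem_norm (hZ.T_le hσ)] at hg
  have w1 := inv_eq hZ.w2
  obtain rfl : y = 1 := by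
    rw [hg, norm_conj, mem_conj] at hn
    have e1 := hZ.uniq _ (mul_mem (inv_mem hy) (conj_mem_of_norm (hZ.T_le hτ) hy)) (by
      have := mul_mem hn (hZ.T_le hτ)
      rwa [show (y * w)⁻¹ * τ * (y * w) * τ = w⁻¹ * (y⁻¹ * (τ * y * τ⁻¹)) * (τ * w * τ) by group,
        hZ.w_inv τ hτ, inv_mul_cancel_right, w1] at this)
    exact (hZ.fpf τ hτ y hy (mul_inv_eq_iff_eq_mul.1 (inv_mul_eq_one.1 e1).symm)).resolve_left τ1
  have := key (α.trans (MulAut.conj w)) _ (inv_mem (pow_mem hτ k)) (by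
    rw [MulEquiv.trans_apply, hα, MulAut.conj_apply, w1, mul_assoc, hZ.w_inv _ (pow_mem hτ k),
      ← mul_assoc, hZ.w2, one_mul]) (by
    have := hg.le (mem_zpowers _)
    rw [one_mul, mem_conj, w1] at this
    rwa [MulEquiv.trans_apply, MulAut.conj_apply, w1])
  have := hd (k + 1) (by omega) (by rw [pow_succ]; exact mul_eq_one_iff_inv_eq.2 this)
  omega

omit [Finite G] in
theorem hyp_congr {G' : Type*} [Group G'] (h : ODD.Hyp K t s) (e : G ≃* G') :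
    ODD.Hyp (K.map e.toMonoidHom) (e t) (e s) where
  tK := mem_map_of_mem _ h.tK
  t1 := by simpa using h.t1
  t2 := by rw [← map_mul, h.t2, map_one]
  sK := by simpa using h.sK
  s2 := by rw [← map_mul, h.s2, map_one]
  inv := by
    rintro _ ⟨x, hx, rfl⟩
    simpa using congrArg e (h.inv x hx)
  cent g := by
    obtain ⟨g, rfl⟩ := e.surjective g
    simp only [← map_mul, e.injective.eq_iff, h.cent, mem_map_equiv, MulEquiv.symm_apply_apply]
  ti := by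
    rintro _ ⟨x, hx, rfl⟩ x1 g hg
    obtain ⟨g, rfl⟩ := e.surjective g
    have : g * x * g⁻¹ ∈ K := by simpa using mem_map_equiv.1 hg
    simpa using congrArg e (h.ti x hx (by simpa using x1) g this)
  one_class a b a1 a2 b1 b2 := by
    obtain ⟨a, rfl⟩ := e.surjective a
    obtain ⟨b, rfl⟩ := e.surjective b
    exact e.toMonoidHom.map_isConj (h.one_class a b (by simpa using a1) (e.injective (by simpa using a2))
      (by simpa using b1) (e.injective (by simpa using b2)))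

theorem Hom.sq_inner [IsSimpleGroup G] (hG : Hom G) (hna : ¬ IsMulCommutative G) (h : ODD.Hyp K t s)
    (α : MulAut G) : ∃ g, ∀ y, α (α y) = g * y * g⁻¹ := by
  have hi : Function.Injective (MulAut.conj : G →* MulAut G) := (injective_iff_map_eq_one _).2
    fun z e => by_contra fun z1 => cent1_ne_top hna z1 (eq_top_iff.2 fun g _ =>
      mem_cent1_comm.1 (mem_cent1_iff_conj.2 (DFunLike.congr_fun e g)))
  let e := MonoidHom.ofInjective hi
  have := e.symm.isSimpleGroup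
  have hN : (MulAut.conj : G →* MulAut G).range ⊴ ⊤ := ⟨le_top, fun β _ => mem_norm_of_conj_mem (by
    rintro _ ⟨g, rfl⟩
    exact ⟨β g, by ext; simp⟩)⟩
  obtain ⟨x, w, m, hr, -⟩ := (hG.congr e).res0 (fun e' => hna ⟨⟨fun a b => e.injective (by
    rw [map_mul, map_mul, e'.is_comm.comm])⟩⟩) (hyp_congr h e)
  have hM := normalIn_top.1 (hN.sup (top_inf_eq 𝐂((MulAut.conj : G →* MulAut G).range) ▸ hN.cent))
  obtain ⟨i, hi'⟩ := hr.index_dvd hN
  have := pow_mem (@Subgroup.pow_index_mem _ _ _ hM α) i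
  rw [← pow_mul, ← hi'] at this
  obtain ⟨_, ⟨g, rfl⟩, c, hc, e1⟩ := (mem_sup_norm_left (le_top.trans hN.norm)).1 this
  refine ⟨g, fun y => ?_⟩
  have e2 : c y = y := hi (by
    rw [← mem_cent_iff_conj.1 hc _ ⟨y, rfl⟩]; ext; simp)
  simpa [e2, sq] using (DFunLike.congr_fun e1 y).symm

/-- the groups `PSL(2, 5)` and `PSL(2, 7)` -/
structure Gd (G : Type u) [Group G] [Finite G] : Prop where
  smp : IsSimpleGroup G
  nab : ¬ IsMulCommutative G
  alm : Alm G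
  res : ∃ (K : Subgroup G) (t s x w : G) (m : ℕ), ODD.Hyp K t s ∧ Res K x w m ∧ (m = 2 ∨ m = 3)

theorem Gd.c2 (h : Gd G) (t1 : t ≠ 1) (t2 : t * t = 1) : IsPGroup 2 𝐂[t] := by
  obtain ⟨K, t', s, x, w, m, h1, h2, hm⟩ := h.res
  obtain ⟨g, rfl⟩ := isConj_iff.1 (h1.one_class t' t h1.t1 h1.t2 t1 t2)
  have e : ♯𝐂[g * t' * g⁻¹] = 2 * ♯K := by rw [cent1_conj, card_conj, h1.card_cent]
  have := h1.two_dvd
  have := h2.cardK
  rcases (by omega : ♯K = 2 ∨ ♯K = 4) with e' | e' <;> rw [e'] at e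
  exacts [IsPGroup.of_card (n := 2) e, IsPGroup.of_card (n := 3) e]

theorem Hom.gd [hs : IsSimpleGroup G] (hG : Hom G) (hna : ¬ IsMulCommutative G) (h : Tw a s z)
    (h1 : OneCl G) (hd : s * a * s⁻¹ = a⁻¹) : Gd G := by
  have hH := hG.hyp hna h h1 hd
  obtain ⟨x, w, m, hr, hm⟩ := hG.res0 hna hH
  refine ⟨hs, hna, hG.alm hna, _, _, _, x, w, m, hH, hr, (or_assoc.2 hm).resolve_right ?_⟩
  rintro rfl
  have hc : Nat.card G = 1092 := hr.card
  have : Fact (Nat.Prime 7) := ⟨by norm_num⟩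
  obtain ⟨y, hy⟩ := exists_prime_orderOf_dvd_card' (G := G) 7 (hc ▸ by norm_num)
  obtain ⟨α, hα⟩ := hG.cyc ((hy ▸ by norm_num : (orderOf y).Coprime 2).orderOf_pow).symm
  obtain ⟨g, hg⟩ := hG.sq_inner hna hH α
  have e := hg y
  rw [hα, map_pow, hα, ← pow_mul] at e
  have hn := mem_norm_zp (e ▸ pow_mem (mem_zpowers y) _)
  have h7 : ♯(zpowers y) = 7 := by rw [Nat.card_zpowers, hy]
  have h2 : (zpowers y).relIndex 𝐍(zpowers y) = 2 := by
    have := card_mul_relIndex (le_norm_self (zpowers y))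
    rw [Ord1092.card_norm7 hc h7, h7] at this
    omega
  have := (normalIn_norm (zpowers y)).subgroupOf
  have h3 : g ^ 2 ∈ zpowers y := h2 ▸ ((zpowers y).subgroupOf _).pow_index_mem ⟨g, hn⟩
  have h4 := mem_cent1_iff_conj.1 (zpowers_le.2 (mem_cent1_self y) h3)
  rw [sq, cj_mul, ← e, ← conj_pow, ← e, ← pow_mul] at h4
  nth_rewrite 2 [← pow_one y] at h4
  rw [pow_eq_pow_iff_modEq, hy] at h4
  exact absurd h4 (by decide)

end Cfsg.Agent.HG
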