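import Cfsg.Agent.Lib.HG.Main
import Cfsg.Prelude.Def_CaseTheorems

/-!
# The quasisimple factor of a homogeneous group
-/

set_option autoImplicit false
set_option linter.unusedSectionVars false

namespace Cfsg.Agent.HG

open Subgroup Cfsg.Agent.OO Cfsg.Agent.Coprime GW ZG
open scoped commutatorElement Pointwise MatrixGroups

universe u

variable {G : Type u} [Group G] [Finite G] {K N : Subgroup G}

theorem Ns.qs (h : Ns N K) : IsQuasisimple N := by
  obtain ⟨L, _, _, f, hf, hL, h1, -⟩ := h.quo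
  have := hL.smp
  have e : center N = f.ker := le_antisymm (fun x hx => by_contra fun e =>
    cent1_ne_top hL.nab (z := f x) e (top_le_iff.1 fun g _ => mem_cent1.2 (by
      obtain ⟨g, rfl⟩ := hf g
      rw [← map_mul, ← map_mul, mem_center_iff.1 hx]))) h1
  exact ⟨isPerfect_iff.2 h.perf, ((QuotientGroup.quotientMulEquivOfEq e).trans
    (QuotientGroup.quotientKerEquivOfSurjective f hf)).isSimpleGroup⟩

theorem Dp.top (h : Dp N K) (hp : der (⊤ : Subgroup G) = ⊤) : N = ⊤ := by
  have := normalIn_top.1 h.nN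
  have e := sol_map (sol_of_odd h.odd) (QuotientGroup.mk' N)
  rw [← bot_sup_eq (K.map _), ← (map_eq_bot_iff N).2 (QuotientGroup.ker_mk' N).ge, ← Subgroup.map_sup, h.sup] at e
  exact top_le_iff.1 (((Subgroup.map_eq_bot_iff _).1 (by_contra fun e' => (der_lt e e').ne
    (by rw [← map_der, hp]))).trans (QuotientGroup.ker_mk' N).le)

theorem Gd.psl (h : Gd G) : ∃ (F : Type) (_ : Field F) (_ : Fintype F),
    (Fintype.card F = 5 ∨ Fintype.card F = 7) ∧
      Nonempty (G ≃* Matrix.ProjectiveSpecialLinearGroup (Fin 2) F) := by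
  obtain ⟨K, t, s, x, w, m, -, h, hm⟩ := h.res
  obtain ⟨F, _, _, hF, e⟩ := h.equiv
  exact ⟨F, _, _, by omega, e⟩

theorem Hom.qs (hG : Hom G) (hq : IsQuasisimple G) : ∃ K : Subgroup G, Ns ⊤ K := by
  have := hq.1
  have := hq.2.toNontrivial
  have := (QuotientGroup.mk'_surjective (center G)).nontrivial
  obtain ⟨N, K, h⟩ := hG.cl.resolve_left (Group.IsPerfect.not_isSolvable _)
  exact ⟨K, h.top hq.1.1 ▸ h⟩

end Cfsg.Agent.HG
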