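import Cfsg.Agent.Lib.HG.Core
import Cfsg.Agent.Lib.ZG.Syl2

/-!
# Homogeneous finite groups: normalizers of subgroups of odd prime power order
-/

set_option autoImplicit false
set_option linter.unusedSectionVars false

namespace Cfsg.Agent.HG

open Subgroup Cfsg.Agent.OO Cfsg.Agent.Coprime
open scoped commutatorElement Pointwise

universe u

variable {G : Type u} [Group G] [Finite G] {A D E H K L M N P Q R V W : Subgroup G}
  {a b c d e g h k n s t u v w x y z : G} {p : ℕ} {α β : G ≃* G}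

omit [Finite G] in
theorem cj_mul (g k x : G) : g * k * x * (g * k)⁻¹ = g * (k * x * k⁻¹) * g⁻¹ := by group

omit [Finite G] in
theorem twist (α : G ≃* G) (n x : G) :
    n⁻¹ * α n * α x * (n⁻¹ * α n)⁻¹ = n⁻¹ * α (n * x * n⁻¹) * n := by rw [map_cj]; group

theorem pres_Opi (π : Set ℕ) (h : Pres α H) : Pres α (Opi π H) :=
  pres_of_map (by rw [map_Opi α.injective, h.map_eq])

omit [Finite G] in
theorem card_inf_cent1 (h : Pres α K) (x : G) : ♯(K ⊓ 𝐂[α x]) = ♯(K ⊓ 𝐂[x]) := by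
  rw [← card_map_of_injective (f := α.toMonoidHom) (K := K ⊓ 𝐂[x]) α.injective]
  congr 2
  ext y
  obtain ⟨y, rfl⟩ := α.surjective y
  refine Iff.trans ?_ (mem_map_iff_mem α.injective).symm
  rw [mem_inf, mem_inf, h, mem_cent1, mem_cent1, ← map_mul, ← map_mul, α.injective.eq_iff]

theorem odd_cop (hK : Odd ♯K) (hD : IsPGroup 2 D) : (♯D).Coprime ♯K :=
  (W4.cop hK hD).symm

theorem pow_eq_of_indep [hp : Fact p.Prime] (hd : d ^ p = 1) (h : d ∉ zpowers c)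
    {i j i' j' : ℕ} (e : c ^ i * d ^ j = c ^ i' * d ^ j') : c ^ i = c ^ i' ∧ d ^ j = d ^ j' := by
  have h1 : d ^ j * (d ^ j')⁻¹ = 1 := by_contra fun e1 => h ?_
  · rw [mul_inv_eq_one] at h1
    exact ⟨mul_right_cancel (h1 ▸ e), h1⟩
  refine zpowers_le.2 ?_ ((zp_eq hd (mul_mem (pow_mem (mem_zpowers d) j)
    (inv_mem (pow_mem (mem_zpowers d) j'))) e1).ge (mem_zpowers d))
  rw [show d ^ j * (d ^ j')⁻¹ = (c ^ i)⁻¹ * (c ^ i * d ^ j) * (d ^ j')⁻¹ by group, e,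
    mul_assoc, mul_inv_cancel_right]
  exact mul_mem (inv_mem (pow_mem (mem_zpowers c) i)) (pow_mem (mem_zpowers c) i')

namespace Hom

variable (hG : Hom G)
include hG

section

variable [hp : Fact p.Prime]

theorem abelem_Ohm (h2 : p ≠ 2) (hR : IsPGroup p R) : IsElementaryAbelian p (Ohm p R) :=
  Ohm_abelem p (hG.ab_odd h2 hR)

theorem cent_of_pelt (h2 : p ≠ 2) (hR : IsPGroup p R) (hg : g ∈ 𝐍(R)) (h : PiElt {p} g) :
    g ∈ 𝐂(R) :=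
  cent_anti le_sup_left ((hG.ab_odd h2 (isPGroup_sup hR (isPGroup_zpowers_iff.2 h)
    (.inr (zpowers_le.2 hg)))).le_cent (mem_sup_right (mem_zpowers g)))

/-- normalizers of odd `p`-groups act semiregularly modulo the centralizer -/
theorem sr (h2 : p ≠ 2) (hR : IsPGroup p R) (hg : g ∈ 𝐍(R)) (hu : u ∈ R) (u1 : u ≠ 1)
    (h : g * u * g⁻¹ = u) : g ∈ 𝐂(R) := by
  have hV := hG.abelem_Ohm h2 hR
  obtain ⟨v, hv, v1⟩ := cauchy hp.out (dvd_card_of_isPGroup (hR.to_le (zpowers_le.2 hu))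
    (by simpa using u1))
  have h1 : g ∈ 𝐂(Ohm p R) := by_contra fun e => by
    obtain ⟨H, x, e', b, hx, ht⟩ := hG.tv hV (norm_le_norm_Ohm p R hg) e
      (mem_Ohm (zpowers_le.2 hu hv) (v1 ▸ pow_orderOf_eq_one v))
      (fun e => hp.out.ne_one (by rw [← v1, e, orderOf_one]))
      (mul_inv_eq_iff_eq_mul.2 (ZG.comm_of_mem (mul_inv_eq_iff_eq_mul.1 h) hv))
    refine ht.move hV ?_
    rw [mem_cent_iff_conj.1 (hG.cent_of_pelt h2 (abelem_isPGroup hV) (ht.normV hV) hx) _ ht.mem]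
    exact mem_zpowers _
  exact mem_of_constt_mem (hG.cent_of_pelt h2 hR (constt_mem {p} hg) (piElt_constt _ _))
    (zpowers_le.1 (coprime_odd_faithful_Ohm1 hR (zpowers_le.2 (constt_mem _ hg))
      (coprime_of_isPGroup hR (piGrp_zpowers.2 (piElt_constt _ _))) (odd_of_pgroup h2 hR)
      (zpowers_le.2 (constt_mem _ h1))))

theorem inv_or (h2 : p ≠ 2) (hR : IsPGroup p R) (hs : s ∈ 𝐍(R)) (h : s * s ∈ 𝐂(R)) :
    s ∈ 𝐂(R) ∨ ∀ x ∈ R, s * x * s⁻¹ = x⁻¹ := by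
  by_cases h0 : R ⊓ 𝐂[s] = ⊥
  · exact .inr fun x => inv_of_sq_cent hs h h0
  · obtain ⟨u, hu, u1⟩ := exists_mem_ne_one h0
    exact .inl (hG.sr h2 hR hs hu.1 u1 (mem_cent1_iff_conj.1 (mem_cent1_comm.1 hu.2)))

theorem dz (h2 : p ≠ 2) (hR : IsPGroup p R) (hs : s ∈ 𝐍(R)) (h : s * s ∈ 𝐂(R)) (hg : g ∈ 𝐍(R)) :
    g * s * g⁻¹ * s⁻¹ ∈ 𝐂(R) := by
  rcases hG.inv_or h2 hR hs h with e | e
  · exact mul_mem (conj_mem_of_norm (norm_le_norm_cent R hg) e) (inv_mem e)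
  refine mem_cent_iff_conj.2 fun x hx => ?_
  have e' : s⁻¹ * x * s = x⁻¹ := by
    conv_lhs => rw [← inv_inv x, ← e _ (inv_mem hx)]
    group
  calc _ = g * (s * (g⁻¹ * (s⁻¹ * x * s) * g) * s⁻¹) * g⁻¹ := by group
    _ = _ := by rw [e', e _ (conj_mem_of_norm' hg (inv_mem hx))]; group

theorem pnil (h2 : p ≠ 2) (hu : PiElt {p} u) (u1 : u ≠ 1) : PNil p 𝐂[u] := by
  obtain ⟨R, hR, hle⟩ := exists_syl_ge (zpowers_le.2 (mem_cent1_self u)) (isPGroup_zpowers_iff.2 hu)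
  exact pnil_of_sdprod (Burnside_normal_complement hR fun g hg => hG.sr h2 hR.isPGroup hg.2
    (hle (mem_zpowers u)) u1 (mem_cent1_iff_conj.1 hg.1)) (Op'_piGrp _ _) hR.isPGroup

theorem r2 (hV : IsElementaryAbelian p V) (hn : n ∈ 𝐍(V)) (hc : c ∈ V)
    (hd : n * c * n⁻¹ ∉ zpowers c) : (∃ h ∈ 𝐍(V), h ∉ 𝐂(V) ∧ ∃ u ∈ V, u ≠ 1 ∧ h * u * h⁻¹ = u) ∨
      Hy p V (zpowers c) (n * c * n⁻¹) := by
  obtain ⟨H, hH, hle⟩ := exists_hy' hV (zpowers_le.2 hc) (conj_mem_of_norm hn hc) hd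
  have cH := hle (mem_zpowers c)
  obtain ⟨τ, f1, f2, f3, -⟩ := hG.pert hp.out hH cH (abelem_le_cent hV hc) (hV.2 c hc)
  by_cases h0 : ∃ w ∈ H, w ≠ 1 ∧ n * w * n⁻¹ ∈ H
  · obtain ⟨w, hw, w1, hw'⟩ := h0
    refine .inl ⟨n⁻¹ * τ n, mul_mem (inv_mem hn) ((f3.norm n).2 hn), fun e => hd ?_, w, hH.le hw, w1, ?_⟩
    · have := twist τ n c
      rw [f1 c cH, mem_cent_iff_conj.1 e c hc, f2,
        show n⁻¹ * (n * c * n⁻¹ * c) * n = c * (n⁻¹ * c * n) by group, left_eq_mul] at this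
      rw [show c = 1 from by_contra fun e => conj_ne_one'.2 e this]
      simp
    · have := twist τ n w
      rw [f1 w hw, f1 _ hw'] at this
      rw [this]; group
  push Not at h0
  refine .inr (le_antisymm (fun w hw => ?_) hle ▸ hH)
  obtain ⟨y, hy, i, e⟩ := hH.rep _ (conj_mem_of_norm hn (hH.le hw))
  have : w * (c ^ i)⁻¹ = 1 := by_contra fun e1 => h0 _ (mul_mem hw (inv_mem (pow_mem cH i))) e1 (by
    rw [← conj_mul, e, ← conj_inv, ← conj_pow, mul_inv_cancel_right]; exact hy)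
  rw [mul_inv_eq_one.1 this]
  exact pow_mem (mem_zpowers c) i

theorem r2' (h2 : p ≠ 2) (hV : IsElementaryAbelian p V) (hn : n ∈ 𝐍(V)) (hc : c ∈ V)
    (hd : n * c * n⁻¹ ∉ zpowers c) : Hy p V (zpowers c) (n * c * n⁻¹) :=
  (hG.r2 hV hn hc hd).resolve_left fun ⟨_, h1, h3, _, hu, u1, e⟩ =>
    h3 (hG.sr h2 (abelem_isPGroup hV) h1 hu u1 e)

theorem sc (h2 : p ≠ 2) (hV : IsElementaryAbelian p V) (hn : n ∈ 𝐍(V)) (hc : c ∈ V)
    (hd : n * c * n⁻¹ ∉ zpowers c) : p = 3 ∧ n * n * c * (n * n)⁻¹ ∈ zpowers c := by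
  have hH := hG.r2' h2 hV hn hc hd
  have hV' := abelem_isPGroup hV
  rw [cj_mul]
  have hn' : ∀ i : ℕ, n * c ^ i * n⁻¹ = (n * c * n⁻¹) ^ i := fun i => (conj_pow ..).symm
  have hn0 : ∀ α : G ≃* G, α c = c → n⁻¹ * α n * c * (n⁻¹ * α n)⁻¹ = n⁻¹ * α (n * c * n⁻¹) * n :=
    fun α e => by rw [← twist, e]
  generalize n * c * n⁻¹ = d at hH hd hn' hn0 ⊢
  have hd' := hH.mem
  have cp := hV.2 c hc
  have dp := hV.2 d hd'
  have cd : Commute c d := ab_iff.1 hV.1 c hc d hd'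
  have c1 : c ≠ 1 := fun e => hd (by simpa [e] using (hn' 1).symm)
  have d1 : d ≠ 1 := fun e => hd (e ▸ one_mem _)
  have rep : ∀ x ∈ V, ∃ i j : ℕ, x = c ^ i * d ^ j := fun x hx => by
    obtain ⟨y, hy, j, rfl⟩ := hH.rep x hx
    obtain ⟨i, rfl⟩ := zp_nat hy
    exact ⟨i, j, rfl⟩
  obtain ⟨α, f1, f2, f3⟩ := hG.lin1 hV (zpowers_le.2 hc) hd' (pow_mem hd' 2) hd fun e =>
    h2 ((Nat.prime_dvd_prime_iff_eq hp.out Nat.prime_two).1
      (dvd_of_pow_mem hp.out hd (hH.pow d hd') e))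
  replace f2 := f2 c (mem_zpowers c)
  obtain ⟨τ, g1, g2, g3, -⟩ := hG.pert hp.out hH (mem_zpowers c) (abelem_le_cent hV hc) cp
  replace g1 := g1 c (mem_zpowers c)
  have hh : n⁻¹ * α n ∈ 𝐍(V) := mul_mem (inv_mem hn) ((f1.norm n).2 hn)
  have h1 : n⁻¹ * α n * c * (n⁻¹ * α n)⁻¹ = c ^ 2 := by rw [hn0 α f2, f3, ← hn']; group
  have h0 : α n = n * (n⁻¹ * α n) := by group
  generalize n⁻¹ * α n = h at hh h1 h0
  have hk : h⁻¹ * τ h ∈ 𝐂(V) := hG.sr h2 hV' (mul_mem (inv_mem hh) ((g3.norm h).2 hh)) hc c1 (by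
    have := twist τ h c
    rw [g1, h1, map_pow, g1, ← h1] at this
    rw [this]; group)
  obtain ⟨j, l, e1⟩ := rep _ (conj_mem_of_norm hh hd')
  obtain ⟨a, i, e2⟩ := rep _ (conj_mem_of_norm hn hd')
  have hpow : ∀ g x : G, ∀ i : ℕ, g * x ^ i * g⁻¹ = (g * x * g⁻¹) ^ i := fun g x i => (conj_pow ..).symm
  have e3 : c ^ l = c ^ 2 := by
    have := twist τ h d
    rw [mem_cent_iff_conj.1 hk _ ((g3 d).2 hd'), e1, map_mul, map_pow, map_pow, g1, g2,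
      cd.symm.mul_pow, ← mul_assoc (c ^ j), ← e1] at this
    rw [← h1, ← mul_right_inj (h * d * h⁻¹), conj_mul, this]
    group
  have e4 : d ^ l = d ^ 2 := by rw [← hn', e3, hn']
  rw [e4] at e1
  have e5 : c ^ a * d ^ (2 * i) = c ^ (4 * a) * d ^ (2 * j + 4 * i) := by
    have := map_cj α n d
    rw [e2, map_mul, map_pow, map_pow, f2, f3, h0, cj_mul, hpow h, e1, (cd.pow_pow j 2).mul_pow,
      ← pow_mul, ← pow_mul, ← pow_mul, ← conj_mul, hn', hpow n, e2, (cd.pow_pow a i).mul_pow,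
      ← pow_mul, ← pow_mul, ← mul_assoc, (cd.pow_pow (a * (2 * 2)) (j * 2)).symm.eq, mul_assoc,
      ← pow_add] at this
    rw [this]
    congr 2 <;> ring
  obtain ⟨e6, e7⟩ := pow_eq_of_indep dp hd e5
  have oc := orderOf_eq_prime cp c1
  have od := orderOf_eq_prime dp d1
  have a0 : ¬ p ∣ a := fun e => hd <| by
    rw [orderOf_dvd_iff_pow_eq_one.1 (oc ▸ e), one_mul, ← hn', mul_left_inj, mul_right_inj] at e2
    exact e2 ▸ pow_mem (mem_zpowers c) i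
  rw [pow_eq_pow_iff_modEq, oc] at e6
  rw [pow_eq_pow_iff_modEq, od] at e7
  obtain rfl : p = 3 := (Nat.prime_dvd_prime_iff_eq hp.out Nat.prime_three).1
    ((hp.out.dvd_mul.1 (by simpa [show 4 * a - a = 3 * a by omega] using
      (Nat.modEq_iff_dvd' (by omega)).1 e6)).resolve_right a0)
  refine ⟨rfl, ?_⟩
  have e8 := mem_cent_iff_conj.1 (hG.sr h2 hV' (mul_mem hh hh) hc c1 (by
    rw [cj_mul, h1, hpow, h1, ← pow_mul, show 2 * 2 = 3 + 1 by rfl, pow_succ, cp, one_mul])) d hd'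
  rw [cj_mul, e1, ← conj_mul, hpow, hpow, h1, e1, (cd.pow_pow j 2).mul_pow, ← pow_mul, ← pow_mul,
    ← pow_mul, ← mul_assoc, ← pow_add] at e8
  have e9 := (pow_eq_of_indep (i' := 0) (j' := 1) dp hd (by simpa using e8)).1
  rw [pow_eq_pow_iff_modEq, oc] at e9
  rw [e2, orderOf_dvd_iff_pow_eq_one.1 (od ▸ (by unfold Nat.ModEq at e7 e9; omega) : _ ∣ i), mul_one]
  exact pow_mem (mem_zpowers c) a

theorem nb1 (h2 : p ≠ 2) (hV : IsElementaryAbelian p V) (hn : n ∈ 𝐍(V)) (hc : c ∈ V)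
    (hd : n * c * n⁻¹ ∉ zpowers c) : ∃ h : G, h * c * h⁻¹ = c ^ 2 := by
  have hd' := conj_mem_of_norm hn hc
  obtain ⟨α, -, f2, f3⟩ := hG.lin1 hV (zpowers_le.2 hc) hd' (pow_mem hd' 2) hd fun e =>
    h2 ((Nat.prime_dvd_prime_iff_eq hp.out Nat.prime_two).1
      (dvd_of_pow_mem hp.out hd (hV.2 _ hd' ▸ one_mem _) e))
  have := twist α n c
  rw [f2 c (mem_zpowers c), f3, conj_pow] at this
  exact ⟨_, this.trans (by group)⟩

/-- for `p ≥ 5` the normalizer acts by scalars -/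
theorem scal (h2 : p ≠ 2) (h3 : p ≠ 3) (hR : IsPGroup p R) (hn : n ∈ 𝐍(R)) (hc : c ∈ R)
    (cp : c ^ p = 1) : n * c * n⁻¹ ∈ zpowers c := by_contra fun e =>
  h3 (hG.sc h2 (hG.abelem_Ohm h2 hR) (norm_le_norm_Ohm p R hn) (mem_Ohm hc cp) e).1

theorem ab (h2 : p ≠ 2) (hV : IsElementaryAbelian p V) (hy : y ∈ 𝐍(V))
    (h : ∀ g ∈ 𝐍(V), y * g * y⁻¹ * g⁻¹ ∈ 𝐂(V)) (hc : c ∈ V) : y * c * y⁻¹ ∈ zpowers c := by
  by_contra hd
  have hH := hG.r2' h2 hV hy hc hd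
  have h1 := (hG.sc h2 hV hy hc hd).2
  obtain ⟨τ, g1, g2, g3, -⟩ := hG.pert hp.out hH (mem_zpowers c) (abelem_le_cent hV hc) (hV.2 c hc)
  have hg := (g3.norm y).2 hy
  have e1 := map_cj τ y c
  have e2 := map_cj τ y (y * c * y⁻¹)
  rw [g2, g1 c (mem_zpowers c)] at e1
  rw [← cj_mul, g1 _ h1, g2] at e2
  have e3 := mem_cent_iff_conj.1 (h _ hg) _ (conj_mem_of_norm hg (conj_mem_of_norm hy hc))
  refine h2 ((Nat.prime_dvd_prime_iff_eq hp.out Nat.prime_two).1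
    (dvd_of_pow_mem hp.out hd (hH.pow _ hH.mem) ?_))
  rw [show y * τ y * y⁻¹ * (τ y)⁻¹ * (τ y * (y * c * y⁻¹) * (τ y)⁻¹) * (y * τ y * y⁻¹ * (τ y)⁻¹)⁻¹ =
    y * (τ y * c * (τ y)⁻¹) * y⁻¹ by group, ← e1, ← conj_mul, ← cj_mul] at e3
  rw [← conj_mul, ← e3, ← e1] at e2
  generalize y * c * y⁻¹ = d at e2
  rw [mul_assoc _ d, left_eq_mul, ← mul_assoc, mul_eq_one_iff_eq_inv, ← sq] at e2
  exact e2 ▸ inv_mem (mem_zpowers c)

end

theorem pow_four (hR : IsPGroup 3 R) (hn : n ∈ 𝐍(R)) : n ^ 4 ∈ 𝐂(R) := by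
  classical
  have := Fact.mk Nat.prime_three
  by_cases h0 : R = ⊥
  · rw [h0, cent_bot]; trivial
  obtain ⟨c, hc, oc⟩ := cauchy Nat.prime_three (dvd_card_of_isPGroup hR h0)
  have c1 : c ≠ 1 := fun e => by simp [e] at oc
  have h1 : n * n * c * (n * n)⁻¹ ∈ zpowers c := by
    by_cases e : n * c * n⁻¹ ∈ zpowers c
    · exact cj_mul n n c ▸ ZG.conj_mem_zp e e
    exact (hG.sc (by decide) (hG.abelem_Ohm (by decide) hR) (norm_le_norm_Ohm 3 R hn)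
      (mem_Ohm hc (oc ▸ pow_orderOf_eq_one c)) e).2
  refine hG.sr (by decide) hR (pow_mem hn 4) hc c1 ?_
  rw [show n ^ 4 = n * n * (n * n) by simp [pow_succ, mul_assoc], cj_mul]
  generalize n * n = m at h1
  rw [mem_zpowers_iff_mem_range_orderOf, oc] at h1
  obtain ⟨i, hi, e⟩ := Finset.mem_image.1 h1
  have c3 : c ^ 3 = 1 := oc ▸ pow_orderOf_eq_one c
  rw [Finset.mem_range] at hi
  interval_cases i
  · exact absurd (by simpa using e.symm) c1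
  · rw [← e, pow_one, ← e, pow_one]
  · rw [← e, ← conj_pow, ← e, ← pow_mul, show 2 * 2 = 3 + 1 by rfl, pow_succ, c3, one_mul]

theorem cent3 (hR : IsPGroup 3 R) (hn : n ∈ 𝐍(R)) (ho : Odd (orderOf n)) : n ∈ 𝐂(R) :=
  zpowers_le.2 (hG.pow_four hR hn) (ZG.mem_zp_pow
    (Nat.Coprime.pow_left 2 (Nat.coprime_two_left.2 ho)))

theorem der_cent [hp : Fact p.Prime] (h2 : p ≠ 2) (h3 : p ≠ 3) (hR : IsPGroup p R) (hL : L ≤ 𝐍(R)) :
    der L ≤ 𝐂(R) := by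
  by_cases h0 : R = ⊥
  · rw [h0, cent_bot]; exact le_top
  obtain ⟨c, hc, oc⟩ := cauchy hp.out (dvd_card_of_isPGroup hR h0)
  exact fun g hg => hG.sr h2 hR (hL (der_le L hg)) hc (fun e => hp.out.ne_one (by simpa [e] using oc.symm))
    (mem_cent_iff_conj.1 (ZG.der_le_cent inferInstance (fun n hn => ZG.mem_norm_zp
      (hG.scal h2 h3 hR (hL hn) hc (oc ▸ pow_orderOf_eq_one c))) hg) c (mem_zpowers c))

/-- perfect subgroups centralize the odd `p`-groups they normalize -/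
theorem pf [hp : Fact p.Prime] (h2 : p ≠ 2) (hR : IsPGroup p R) (hL : L ≤ 𝐍(R)) (hd : der L = L) :
    L ≤ 𝐂(R) := by
  by_cases h3 : p = 3
  · subst h3
    have := Fact.mk Nat.prime_two
    have hn := hL.trans (norm_le_norm_cent R)
    have h1 : IsPGroup 2 (L ⁒ 𝐂(R)) := by
      rintro ⟨_, hx⟩
      obtain ⟨x, hx', rfl⟩ := (mem_quo_of_le hn).1 hx
      refine ⟨2, Subtype.ext ?_⟩
      change coset _ x ^ 4 = 1
      rw [← coset_pow (hn hx'), coset_eq_one (hG.pow_four hR (hL hx'))]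
    exact (quo_eq_bot_iff hn).1 (by_contra fun e => (der_lt (sol_of_isPGroup h1) e).ne
      (by rw [← quo_der hn, hd]))
  exact hd.ge.trans (hG.der_cent h2 h3 hR hL)

omit hG in
theorem _root_.Cfsg.Agent.HG.cs (hK : Odd ♯K) (hD : IsPGroup 2 D) (hn : D ≤ 𝐍(K))
    (h : ∀ (q : ℕ) (_ : Fact q.Prime), q ≠ 2 → ∀ R, Syl q R K → D ≤ 𝐍(R) → y ∈ 𝐂(R)) : y ∈ 𝐂(K) := by
  have := Fact.mk Nat.prime_two
  refine le_cent1_iff.1 (le_of_forall_syl fun q hq hd => ?_)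
  have := Fact.mk hq
  obtain ⟨R, hR, hn'⟩ := exists_invariant_sylow q hn (odd_cop hK hD) (.inl (sol_of_isPGroup hD))
  exact ⟨R, hR, le_cent1_iff.2 (h q this (fun e => hK.not_two_dvd_nat (e ▸ hd)) R hR hn')⟩

theorem dz' (hK : Odd ♯K) (hD : IsPGroup 2 D) (hn : D ≤ 𝐍(K)) (hs : s ∈ D) (h : s * s ∈ 𝐂(K))
    (hg : g ∈ D) : g * s * g⁻¹ * s⁻¹ ∈ 𝐂(K) :=
  cs hK hD hn fun _ _ h2 _ hR hn' => hG.dz h2 hR.isPGroup (hn' hs) (cent_anti hR.le h) (hn' hg)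

theorem cent_syl [hp : Fact p.Prime] (h2 : p ≠ 2) (hK : Odd ♯K) (hs : PiElt {2} s) (hn : s ∈ 𝐍(K))
    (hR : Syl p R K) (hn' : s ∈ 𝐍(R)) (h : p ∣ ♯(K ⊓ 𝐂[s])) : s ∈ 𝐂(R) := by
  have := Fact.mk Nat.prime_two
  obtain ⟨u, hu, ou⟩ := cauchy hp.out h
  have hD := isPGroup_zpowers_iff.2 hs
  obtain ⟨c, hc, e⟩ := exists_le_invariant_sylow_conj (zpowers_le.2 hn) (odd_cop hK hD)
    (.inl (sol_of_nil (nil_of_isPGroup hD))) hR (zpowers_le.2 hn') (zpowers_le.2 hu.1)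
    (isPGroup_of_card_prime_pow (n := 1) (by rw [Nat.card_zpowers, ou, pow_one]))
    (le_norm_of_le_cent (zpowers_le.2 (cent_zpowers u ▸ mem_cent1_comm.1 hu.2)))
  obtain ⟨v, hv, rfl⟩ := e (mem_zpowers u)
  refine hG.sr h2 hR.isPGroup hn' hv (fun e => hp.out.ne_one (by simpa [e] using ou.symm)) ?_
  have h1 : c ∈ 𝐂[s] := cent_zpowers s ▸ hc.2
  refine mem_cent1_iff_conj.1 (mem_cent1_comm.1 ?_)
  have := mul_mem (mul_mem (inv_mem h1) hu.2) h1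
  simpa [mul_assoc] using this

theorem ss (hK : Odd ♯K) (hD : IsPGroup 2 D) (hn : D ≤ 𝐍(K)) (hs : s ∈ D) (ht : t ∈ D)
    (s2 : s * s ∈ 𝐂(K)) (t2 : t * t ∈ 𝐂(K)) (h : ♯(K ⊓ 𝐂[t]) = ♯(K ⊓ 𝐂[s])) : s * t ∈ 𝐂(K) := by
  have := Fact.mk Nat.prime_two
  refine cs hK hD hn fun q hq h2 R hR hn' => ?_
  by_cases h0 : q ∣ ♯(K ⊓ 𝐂[s])
  · exact mul_mem (hG.cent_syl h2 hK ((piGrp_singleton hD).piElt hs) (hn hs) hR (hn' hs) h0)
      (hG.cent_syl h2 hK ((piGrp_singleton hD).piElt ht) (hn ht) hR (hn' ht) (h ▸ h0))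
  have key : ∀ s ∈ D, s * s ∈ 𝐂(K) → ¬ q ∣ ♯(K ⊓ 𝐂[s]) → ∀ x ∈ R, s * x * s⁻¹ = x⁻¹ :=
    fun s hs s2 h0 x => inv_of_sq_cent (hn' hs) (cent_anti hR.le s2) (by_contra fun e =>
      h0 ((dvd_card_of_isPGroup (hR.isPGroup.to_le inf_le_left) e).trans
        (card_dvd (inf_le_inf_right _ hR.le))))
  exact mem_cent_iff_conj.2 fun x hx => by
    rw [cj_mul, key t ht t2 (h ▸ h0) x hx, key s hs s2 h0 _ (inv_mem hx), inv_inv]

theorem ss' (hK : Odd ♯K) (hD : IsPGroup 2 D) (hn : D ≤ 𝐍(K)) (hs : s ∈ D) (ht : α s ∈ D)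
    (s2 : s * s ∈ 𝐂(K)) (hα : Pres α K) : s * α s ∈ 𝐂(K) :=
  hG.ss hK hD hn hs ht s2 (map_mul α s s ▸ (hα.cent _).2 s2) (card_inf_cent1 hα s)

theorem nb [IsSimpleGroup G] (hna : ¬ IsMulCommutative G) : ZG.NB G := fun y hq h2 => by
  have := Fact.mk hq
  have hy : IsPGroup (orderOf y) (zpowers y) :=
    isPGroup_of_card_prime_pow (n := 1) (by rw [Nat.card_zpowers, pow_one])
  obtain ⟨R, hR, hle⟩ := exists_syl_ge le_top hy
  have y1 : y ≠ 1 := fun e => hq.ne_one (by rw [e, orderOf_one])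
  obtain ⟨n, hn, hn'⟩ : ∃ n ∈ 𝐍(R), n ∉ 𝐂(R) := SetLike.not_le_iff_exists.1 fun e =>
    ZG.not_pnil hna (orderOf_dvd_natCard y) (pnil_of_sdprod (Burnside_normal_complement hR
      (inf_le_right.trans e)) (Op'_piGrp _ _) hR.isPGroup)
  have hy' := hle (mem_zpowers y)
  by_cases e : n * y * n⁻¹ ∈ zpowers y
  · exact ⟨n, e, fun e' => hn' (hG.sr h2 hR.isPGroup hn hy' y1 (mem_cent1_iff_conj.1 e'))⟩
  obtain ⟨h, e⟩ := hG.nb1 h2 (hG.abelem_Ohm h2 hR.isPGroup) (norm_le_norm_Ohm _ R hn)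
    (mem_Ohm hy' (pow_orderOf_eq_one y)) e
  refine ⟨h, e ▸ pow_mem (mem_zpowers y) 2, fun e' => y1 ?_⟩
  rw [mem_cent1_iff_conj.1 e', sq, left_eq_mul] at e
  exact e

end Hom

end Cfsg.Agent.HG
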