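import Cfsg.Agent.Lib.HG.SdA
import Cfsg.Agent.Lib.PGrp.RankOne
import Cfsg.Agent.Lib.Pyr.Kern
import Cfsg.Agent.Lib.Lin.SL2

/-!
# Homogeneous groups whose involutions generate an abelian group
-/

set_option autoImplicit false
set_option linter.unusedSectionVars false

namespace Cfsg.Agent.HG

open Subgroup Cfsg.Agent.OO Cfsg.Agent.Coprime GW ZG
open scoped commutatorElement Pointwise MatrixGroups

universe u

variable {G : Type u} [Group G] [Finite G] {E : Subgroup G} {Γ T : Subgroup (G × G)} {z : G}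

section

variable (z1 : z ≠ 1) (z2 : z * z = 1) (hu : ∀ t, t ≠ 1 → t * t = 1 → t = z)
  (hΓ : ∀ q ∈ Γ, q.1 ∈ zpowers z ↔ q.2 ∈ zpowers z)
include z1 z2 hu hΓ

omit z1 hu in
theorem gr_of (h : T ≤ Γ) (h1 : (z, 1) ∉ T) (h2 : (1, z) ∉ T) : Gr T := fun q hq =>
  ⟨fun e => ((mem_zp z2).1 ((hΓ q (h hq)).1 (e ▸ one_mem _))).resolve_right
      fun e' => h2 (by rwa [← e, ← e']),
    fun e => ((mem_zp z2).1 ((hΓ q (h hq)).2 (e ▸ one_mem _))).resolve_right
      fun e' => h1 (by rwa [← e, ← e'])⟩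

omit z1 hΓ in
theorem sqz {y : G} (h1 : y ∉ zpowers z) (h2 : y * y ∈ zpowers z) : y * y = z :=
  ((mem_zp z2).1 h2).resolve_left fun e => h1 (hu y (fun e => h1 (e ▸ one_mem _)) e ▸ mem_zpowers z)

omit hu in
theorem gr_cyc {q : G × G} (hq : q ∈ Γ) (h : (z, z) ∈ zpowers q) : Gr (zpowers q) :=
  gr_of z2 hΓ (zpowers_le.2 hq)
    (fun e => z1 (congrArg Prod.snd (invol_eq h e (by simp [z1]) (by simp [z2]) (by simp [z1]) (by simp [z2]))))
    fun e => z1 (congrArg Prod.fst (invol_eq h e (by simp [z1]) (by simp [z2]) (by simp [z1]) (by simp [z2])))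

theorem d_mem [(zpowers z).Normal] {q : G × G} (hq : q ∈ Γ) (h2 : IsPGroup 2 (zpowers q))
    (h : q.1 ∉ zpowers z) : (z, z) ∈ zpowers q := by
  let π := (QuotientGroup.mk' (zpowers z)).comp (MonoidHom.fst G G)
  obtain ⟨_, ⟨k, rfl⟩, h3, h4⟩ := exists_invol (not_odd (h2.map π) (mem_map_of_mem π (mem_zpowers q))
    fun e => h ((QuotientGroup.eq_one_iff _).1 e))
  simp only [← map_zpow, ← map_mul] at h3 h4
  have h5 := zpow_mem hq k
  have h6 : (q ^ k).1 ∉ zpowers z := fun e => h3 ((QuotientGroup.eq_one_iff _).2 e)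
  have h7 : (q ^ k * q ^ k).1 ∈ zpowers z := (QuotientGroup.eq_one_iff _).1 h4
  rw [← show q ^ k * q ^ k = (z, z) from
    Prod.ext (sqz z2 hu h6 h7) (sqz z2 hu (mt (hΓ _ h5).2 h6) ((hΓ _ (mul_mem h5 h5)).1 h7))]
  exact mul_mem (zpow_mem_zpowers q k) (zpow_mem_zpowers q k)

theorem exists_gr [(zpowers z).Normal] (hT : T ≤ Γ) (h2 : IsPGroup 2 T) (hd : (z, z) ∈ T) :
    ∃ S ≤ T, Gr S ∧ (z, z) ∈ S ∧ dom T ≤ dom S := by
  by_cases h0 : dom T ≤ zpowers z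
  · exact ⟨_, zpowers_le.2 hd, gr_cyc z1 z2 hΓ (hT hd) (mem_zpowers _), mem_zpowers _,
      h0.trans (MonoidHom.map_zpowers (MonoidHom.fst G G) (z, z)).ge⟩
  have cyc : ∀ q ∈ T, q.1 ∉ zpowers z → Gr (zpowers q) ∧ (z, z) ∈ zpowers q := fun q hq e =>
    have := d_mem z1 z2 hu hΓ (hT hq) (two_zp h2 hq) e
    ⟨gr_cyc z1 z2 hΓ (hT hq) this, this⟩
  rcases PGrp.isCyclic_or_quaternion_gens_of_rank_le_one (h2.map (MonoidHom.fst G G))
    (PGrp.rank_le_one_of_unique fun x y hx hy => by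
      have key : ∀ x : dom T, orderOf x = 2 → x.1 = z := fun x hx => hu x
        (fun e => by simp [show x = 1 from Subtype.ext e] at hx)
        (by rw [← coe_mul, ← sq, ← hx, pow_orderOf_eq_one, coe_one])
      exact Subtype.ext ((key x hx).trans (key y hy).symm) ▸ mem_zpowers x) with
    h | ⟨-, n, ⟨_, q, hq, rfl⟩, ⟨_, r, hr, rfl⟩, hn, c1, c2, c3, c4, c5⟩
  · obtain ⟨a, ha⟩ := exists_zpowers_eq h
    obtain ⟨q, hq, rfl⟩ := ha.le (mem_zpowers a)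
    obtain ⟨h3, h4⟩ := cyc q hq fun e => h0 (ha.ge.trans (zpowers_le.2 e))
    exact ⟨_, zpowers_le.2 hq, h3, h4, ha.ge.trans (MonoidHom.map_zpowers _ q).ge⟩
  have hi := PGrp.index_zpowers_eq_two (c1.trans (by rw [c2, pow_succ']))
  have mem : ∀ y : dom T, y ∈ zpowers ⟨q.1, q, hq, rfl⟩ ↔ y.1 ∈ zpowers q.1 := fun y => by
    rw [← mem_map_iff_mem (subtype_injective _), MonoidHom.map_zpowers]; rfl
  obtain ⟨h3, h4⟩ := cyc q hq fun e => by
    have : orderOf q.1 ≤ 2 := orderOf_eq_two z2 z1 ▸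
      Nat.le_of_dvd (orderOf_pos z) (orderOf_dvd_of_mem_zpowers e)
    have e1 : orderOf q.1 = 2 ^ n := c2 ▸ (orderOf_mk _ _).symm
    have := Nat.pow_le_pow_right two_pos hn
    omega
  have hZ : zpowers z ≤ zpowers q.1 :=
    zpowers_le.2 (MonoidHom.map_zpowers (MonoidHom.fst G G) q ▸ mem_map_of_mem _ h4)
  have d3 : r.1 ∉ zpowers q.1 := mt (mem ⟨r.1, r, hr, rfl⟩).2 c3
  have d4 : r.1 * q.1 * r.1⁻¹ = q.1⁻¹ := congrArg Subtype.val c4
  have d5 : r.1 * r.1 ∈ zpowers z := by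
    have h5 := (mem _).1 (mul_self_mem_of_index_two hi ⟨r.1, r, hr, rfl⟩)
    have h6 := inv_of_mem d4 h5
    refine (mem_zp z2).2 (or_iff_not_imp_left.2 fun e => hu _ e ?_)
    exact mul_eq_one_iff_eq_inv.2 ((show r.1 * r.1 = r.1 * (r.1 * r.1) * r.1⁻¹ by group).trans h6)
  have d6 := sqz z2 hu (mt (@hZ _) d3) d5
  have d7 := sqz z2 hu (mt (hΓ r (hT hr)).2 (mt (@hZ _) d3)) ((hΓ _ (hT (mul_mem hr hr))).1 d5)
  have d8 : (q * r).1 ∉ zpowers z := fun e => d3 ((mul_mem_cancel_left (mem_zpowers _)).1 (hZ e))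
  have d9 := sqz z2 hu (mt (hΓ _ (hT (mul_mem hq hr))).2 d8) ((hΓ _ (hT (mul_mem (mul_mem hq hr)
    (mul_mem hq hr)))).1 (by
      rwa [show (q * r * (q * r)).1 = q.1 * (r.1 * q.1 * r.1⁻¹) * (r.1 * r.1) by simp [mul_assoc], d4,
        mul_inv_cancel, one_mul]))
  refine ⟨zpowers q ⊔ zpowers (r.1, r.2), sup_le (zpowers_le.2 hq) (zpowers_le.2 hr), h3.stepp
    Nat.prime_two (mem_norm_zp ((Prod.ext d4 ?_ : r * q * r⁻¹ = q⁻¹) ▸ inv_mem (mem_zpowers q)))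
    (by rwa [sq, sq, d6, d7]) (by rwa [dom, MonoidHom.map_zpowers]) ?_, mem_sup_left h4,
    fun y hy => ?_⟩
  · rw [← d7, Prod.snd_mul] at d9
    calc r.2 * q.2 * r.2⁻¹ = q.2⁻¹ * (q.2 * r.2 * (q.2 * r.2)) * (r.2 * r.2)⁻¹ := by group
      _ = _ := by rw [d9, mul_inv_cancel_right]; rfl
  · rintro ⟨w, hw, e⟩
    have := (hΓ _ (hT (mul_mem hr (inv_mem (zpowers_le.2 hq hw))))).2
      (by simp [show w.2 = r.2 from e])
    exact d3 ((mul_mem_cancel_right (inv_mem (MonoidHom.map_zpowers (MonoidHom.fst G G) q ▸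
      mem_map_of_mem _ hw))).1 (hZ this))
  · rw [dom_sup, dom, MonoidHom.map_zpowers]
    by_cases e : y ∈ zpowers q.1
    · exact mem_sup_left e
    · exact (mul_mem_cancel_right (mem_sup_right (mem_zpowers r.1))).1 (mem_sup_left ((mem _).1
        ((mul_mem_iff_of_index_two hi (a := ⟨y, hy⟩)).2 (iff_of_false (mt (mem _).1 e) c3))))

end

/-- the quotient by a unique involution -/
theorem Hom.quo (hG : Hom G) [(zpowers z).Normal] (z1 : z ≠ 1) (z2 : z * z = 1)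
    (hu : ∀ t, t ≠ 1 → t * t = 1 → t = z) : Hom (G ⧸ zpowers z) := fun Δ hΔ => by
  classical
  let π := QuotientGroup.mk' (zpowers z)
  let Γ := Δ.comap (π.prodMap π)
  have hΓ : ∀ q ∈ Γ, q.1 ∈ zpowers z ↔ q.2 ∈ zpowers z := fun q hq => by
    rw [← QuotientGroup.eq_one_iff, ← QuotientGroup.eq_one_iff]
    exact hΔ _ hq
  have πz : π z = 1 := (QuotientGroup.eq_one_iff _).2 (mem_zpowers z)
  have zc : ∀ g, g * z = z * g := fun g =>
    mul_inv_eq_iff_eq_mul.1 (hu _ (conj_ne_one.2 z1) (conj_sq z2 g))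
  obtain ⟨T, hT⟩ := exists_syl 2 Γ
  have key : ∀ c : G × G, π.prodMap π c = 1 → (∀ g, g * c = c * g) → c * c = 1 → c ∈ T :=
    fun c h1 h2 h3 => hT.mem_of_mem_norm (mem_comap.2 (h1 ▸ one_mem _))
      (cent_le_norm _ (mem_cent_iff.2 fun g _ => h2 g)) (isPGroup_zpowers_iff.1 (two_elt h3))
  have u1 := key (z, 1) (by simp [πz]) (by simp [zc]) (by simp [z2])
  have u2 := key (1, z) (by simp [πz]) (by simp [zc]) (by simp [z2])
  obtain ⟨S, h1, h2, h3, h4⟩ := exists_gr z1 z2 hu hΓ hT.le hT.isPGroup (by simpa using mul_mem u1 u2)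
  have n1 : (z, 1) ∉ S := fun e => z1 ((h2 _ e).2 rfl)
  have n2 : (1, z) ∉ S := fun e => z1 ((h2 _ e).1 rfl)
  have hi : S.relIndex T = 2 := relIndex_eq_two_iff_exists_notMem_and.2 ⟨_, u2, n2, fun q hq => by
    obtain ⟨w, hw, e⟩ := h4 (mem_map_of_mem _ hq)
    have e1 : (w⁻¹ * q).1 = 1 := inv_mul_eq_one.2 e
    rcases (mem_zp z2).1 ((hΓ _ (hT.le (mul_mem (inv_mem (h1 hw)) hq))).1 (e1 ▸ one_mem _)) with e2 | e2
    · exact .inr (inv_mul_eq_one.1 (Prod.ext e1 e2) ▸ hw)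
    · refine .inl ?_
      rwa [← mul_inv_cancel_left w q, show w⁻¹ * q = (1, z) from Prod.ext e1 e2, mul_assoc,
        show ((1, z) * (1, z) : G × G) = 1 by simp [z2], mul_one]⟩
  let φ : T.subgroupOf Γ →* ℤˣ := MonoidHom.mk' (fun x => if x.1.1 ∈ S then 1 else -1) fun x y => by
    have : x.1.1 * y.1.1 ∈ S ↔ (x.1.1 ∈ S ↔ y.1.1 ∈ S) :=
      mul_mem_iff_of_index_two (H := S.subgroupOf T) hi (a := ⟨_, x.2⟩) (b := ⟨_, y.2⟩)
    by_cases e : x.1.1 ∈ S <;> by_cases e' : y.1.1 ∈ S <;> simp [this, e, e']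
  have hV : ∀ c (h : c ∈ T), (∀ g, g * c = c * g) → c * c = 1 → c ∉ S →
      MonoidHom.transfer φ ⟨c, hT.le h⟩ = -1 := fun c h e1 e2 e3 => by
    rw [MonoidHom.transfer_eq_pow φ _ fun k g _ => Subtype.ext (by
      simp [mul_assoc, ← (Commute.pow_right (e1 g) k).eq])]
    obtain ⟨k, hk⟩ := Nat.odd_iff.2 (Nat.two_dvd_ne_zero.1 hT.not_dvd)
    have : c ^ (T.subgroupOf Γ).index = c := by
      rw [show (T.subgroupOf Γ).index = 2 * k + 1 from hk, pow_succ, pow_mul, sq, e2, one_pow, one_mul]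
    simp [φ, this, e3]
  have v1 := hV _ u1 (by simp [zc]) (by simp [z2]) n1
  have v2 := hV _ u2 (by simp [zc]) (by simp [z2]) n2
  obtain ⟨α, hα⟩ := hG ((MonoidHom.transfer φ).ker.map Γ.subtype) (gr_of z2 hΓ (map_subtype_le _)
    (fun e => by simpa [v1] using (mem_map_iff_mem Γ.subtype_injective (x := ⟨_, hT.le u1⟩)).1 e)
    fun e => by simpa [v2] using (mem_map_iff_mem Γ.subtype_injective (x := ⟨_, hT.le u2⟩)).1 e)
  have αz : α z = z := hu _ (by simpa using z1) (by rw [← map_mul, z2, map_one])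
  refine ⟨QuotientGroup.congr _ _ α (by simp [αz]), fun q hq => ?_⟩
  obtain ⟨a, ha⟩ := QuotientGroup.mk'_surjective _ q.1
  obtain ⟨b, hb⟩ := QuotientGroup.mk'_surjective _ q.2
  have h5 : (a, b) ∈ Γ := mem_comap.2 (by rwa [show π.prodMap π (a, b) = q from Prod.ext ha hb])
  rw [← ha, ← hb, QuotientGroup.congr_mk']
  rcases Int.units_eq_one_or (MonoidHom.transfer φ ⟨_, h5⟩) with e | e
  · exact congrArg π (hα _ ⟨_, e, rfl⟩)
  · have := hα _ ⟨⟨_, h5⟩ * ⟨_, hT.le u2⟩, by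
      rw [SetLike.mem_coe, MonoidHom.mem_ker, map_mul, e, v2]; simp, rfl⟩
    simpa [π, show ((z : G) : G ⧸ zpowers z) = 1 from πz] using congrArg π this

/-- the Singer cycle -/
theorem Hom.sol_cent (hG : Hom G) (hsq : ∀ x, x * x = 1 ↔ x ∈ E) (hab : Ab E) {n : ℕ} (hn : 2 ≤ n)
    (hc : ♯E = 2 ^ n) : Sol 𝐂(E) := by
  let F := GaloisField 2 n
  obtain ⟨e⟩ := PGrp.nonempty_mulEquiv_of_card_eq (p := 2) (E' := Multiplicative F) hab
    (fun x => Subtype.ext ((sq x.1).trans ((hsq _).2 x.2))) inferInstance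
    (fun x => by rw [sq]; exact CharTwo.add_self_eq_zero x.toAdd)
    (hc.trans (GaloisField.card 2 n (by omega)).symm)
  obtain ⟨ω, hω⟩ := IsCyclic.exists_monoid_generator (α := Fˣ)
  obtain ⟨α, hα⟩ := hG.iso E E ((e.trans (AddEquiv.toMultiplicative (DistribMulAction.toAddEquiv F ω))).trans e.symm)
  have pw : ∀ (i : ℕ) (v : E), ((α : MulAut G) ^ i) v = e.symm (.ofAdd ((ω ^ i : Fˣ) * (e v).toAdd)) :=
    fun i v => by
      induction i with
      | zero => simp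
      | succ i ih => rw [pow_succ', MulAut.mul_apply, ih, hα]; simp [pow_succ', mul_assoc, Units.smul_def]
  obtain ⟨k, m, ho, hk⟩ := Nat.exists_eq_two_pow_mul_odd (orderOf_pos (α : MulAut G)).ne'
  let B := zpowers ((α : MulAut G) ^ 2 ^ k)
  have hB : Odd ♯B := ho.of_dvd_nat (by
    rw [Nat.card_zpowers, orderOf_dvd_iff_pow_eq_one, ← pow_mul, ← hk, pow_orderOf_eq_one])
  have : Finite (G ⋊[B.subtype] B) := Finite.of_equiv _ SemidirectProduct.equivProd.symm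
  have hsq' : ∀ x : G ⋊[B.subtype] B, x * x = 1 ↔ x ∈ E.map SemidirectProduct.inl := fun x => by
    refine ⟨fun h => ?_, by rintro ⟨x, hx, rfl⟩; rw [← map_mul, (hsq x).2 hx, map_one]⟩
    have h1 : x.right = 1 := Subtype.ext (eq_one_of_odd_of_sq (odd_of_mem hB x.right.2)
      (congrArg (fun y => y.right.1) h))
    rw [← x.inl_left_mul_inr_right, h1, map_one, mul_one] at h ⊢
    exact mem_map_of_mem _ ((hsq _).1 (SemidirectProduct.inl_injective (by rwa [map_mul, map_one])))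
  have : (E.map (SemidirectProduct.inl : G →* G ⋊[B.subtype] B)).Normal :=
    ⟨fun _ h g => (hsq' _).1 (conj_sq ((hsq' _).2 h) g)⟩
  refine Pyr.sol_of_map SemidirectProduct.inl (sol_of_le (Pyr.sol_cent
    (k := SemidirectProduct.inr ⟨_, mem_zpowers _⟩) hsq' hn
    ((card_map_of_injective SemidirectProduct.inl_injective).trans hc) ?_) (map_cent_le _ _)) (by
      rw [(MonoidHom.ker_eq_bot_iff _).2 SemidirectProduct.inl_injective, inf_bot_eq]; exact sol_bot)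
  rintro _ ⟨v, hv, rfl⟩ v1 _ ⟨w, hw, rfl⟩ w1
  have n0 : ∀ v (hv : v ∈ E), SemidirectProduct.inl (φ := B.subtype) v ≠ 1 → (e ⟨v, hv⟩).toAdd ≠ 0 :=
    fun v hv v1 h => v1 (by
      rw [show v = 1 from congrArg Subtype.val (e.map_eq_one_iff.1 h), map_one])
  have h2 : (2 ^ k).Coprime (orderOf ω) := by
    refine (Nat.coprime_two_left.2 ((?_ : Odd (Nat.card Fˣ)).of_dvd_nat (orderOf_dvd_natCard ω))).pow_left k
    rw [Nat.card_units, GaloisField.card 2 n (by omega)]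
    exact Nat.Even.sub_odd Nat.one_le_two_pow (Nat.even_pow.2 ⟨even_two, by omega⟩) odd_one
  obtain ⟨i, hi⟩ := zp_nat (zpowers_le.2 (mem_zp_pow h2) (mem_powers_iff_mem_zpowers.1
    (hω (Units.mk0 _ (n0 w hw w1) * (Units.mk0 _ (n0 v hv v1))⁻¹))))
  refine ⟨i, ?_⟩
  rw [← map_pow, ← map_inv, ← SemidirectProduct.inl_aut]
  have := pw (2 ^ k * i) ⟨v, hv⟩
  rw [pow_mul ω, hi, pow_mul] at this
  simpa [inv_mul_cancel_right₀ (n0 v hv v1)] using this

theorem sl27 : ∃ u v : SL(2, ZMod 7), (u * v) ^ 2 ^ 2 ≠ 1 ∧ (u * v) ^ 2 ^ (2 + 1) = 1 ∧ u ^ 7 = 1 ∧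
    v ^ 7 = 1 ∧ ((u * v) ^ 3).1.trace = 4 ∧ u ^ 5 * v * (u ^ 5 * v) = (u * v) ^ 4 ∧
    ((u * v) ^ 3) ^ 4 = -1 ∧ (5 : ZMod 7) * 4 - 4 * 2 ≠ 0 :=
  ⟨⟨!![1, 1; 0, 1], by simp⟩, ⟨!![1, 0; 1, 1], by simp⟩, by decide +kernel⟩

theorem not_hom_SL27 : ¬ Hom SL(2, ZMod 7) := fun hG => by
  have : Fact (Nat.Prime 7) := ⟨by norm_num⟩
  obtain ⟨u, v, c1, c2, c3, c4, c5, c6, c7, c8⟩ := sl27
  have h8 := orderOf_eq_prime_pow c1 c2
  obtain ⟨α, hα⟩ := hG.cyc ((h8 ▸ by decide : (orderOf (u * v)).Coprime 3).orderOf_pow).symm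
  have tr : ∀ x : SL(2, ZMod 7), x ^ 7 = 1 → (α x).1.trace = 2 := fun x hx => by
    have : IsNilpotent ((α x).1 - 1) := ⟨7, by
      rw [sub_pow_char_of_commute _ (Commute.one_right _), ← Matrix.SpecialLinearGroup.coe_pow,
        ← map_pow, hx, map_one, one_pow, Matrix.SpecialLinearGroup.coe_one, sub_self]⟩
    have := (Matrix.isNilpotent_trace_of_isNilpotent this).eq_zero
    rwa [Matrix.trace_sub, Matrix.trace_one, sub_eq_zero] at this
  have h1 := tr u c3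
  have h2 := tr v c4
  have h3 : (α u * α v).1.trace = 4 := by rw [← map_mul, hα, c5]
  have h4 : α u ^ 5 * α v * (α u ^ 5 * α v) = -1 := by
    rw [← map_pow, ← map_mul, ← map_mul, c6, map_pow, hα, c7]
  have h5 := Lin.SL2.mul_self (α u ^ 5 * α v)
  have h6 := Lin.SL2.mul_self (α u)
  rw [← Matrix.SpecialLinearGroup.coe_mul, h4, Matrix.SpecialLinearGroup.coe_neg,
    Matrix.SpecialLinearGroup.coe_one, eq_sub_iff_add_eq, neg_add_cancel, eq_comm, smul_eq_zero] at h5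
  have h7 : (α u ^ 5).1 = (5 : ZMod 7) • (α u).1 - (4 : ZMod 7) • 1 := by
    rw [h1] at h6
    rw [Matrix.SpecialLinearGroup.coe_pow]
    simp only [pow_succ, pow_zero, one_mul, h6, sub_mul, smul_mul_assoc]
    module
  have h9 := h5.resolve_right fun e => by
    have := (α u ^ 5 * α v).2
    rw [e] at this
    simp at this
  rw [Matrix.SpecialLinearGroup.coe_mul] at h3
  rw [Matrix.SpecialLinearGroup.coe_mul, h7, sub_mul, smul_mul_assoc, smul_mul_assoc, one_mul,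
    Matrix.trace_sub, Matrix.trace_smul, Matrix.trace_smul, h2, h3] at h9
  exact c8 h9

end Cfsg.Agent.HG
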