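import Cfsg.Agent.Lib.HG.SdC
import Cfsg.Agent.Lib.HG.Quo
import Cfsg.Agent.S4069

/-!
# The nonsolvable homogeneous groups
-/

set_option autoImplicit false
set_option linter.unusedSectionVars false

namespace Cfsg.Agent.HG

open Subgroup Cfsg.Agent.OO Cfsg.Agent.Coprime GW ZG
open scoped commutatorElement Pointwise MatrixGroups

universe u

variable {G : Type u} [Group G] [Finite G] {E K L M N P R : Subgroup G} {t v z : G} {p : ℕ}

omit [Finite G] in
theorem sol_map {G' : Type*} [Group G'] (h : Sol M) (f : G →* G') : Sol (M.map f) :=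
  Group.isSolvable_of_surjective (f.subgroupMap_surjective M)

theorem exists_invol_of_not_sol (h : ¬ Sol M) : ∃ t ∈ M, t ≠ 1 ∧ t * t = 1 := by
  by_contra! e
  exact h (sol_of_odd (odd_of_forall fun a ha a2 => by_contra fun a1 => e a ha a1 a2))

theorem exists_min (hs : ¬ Sol (⊤ : Subgroup G)) : ∃ L : Subgroup G, L ⊴ ⊤ ∧ ¬ Sol L ∧ der L = L ∧
    ∀ X : Subgroup G, X ⊴ ⊤ → ¬ Sol X → X ≤ L → L ≤ X := by
  obtain ⟨L, -, ⟨hL, hs⟩, hm⟩ := exists_minimal_le_of_wellFoundedLT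
    (fun L : Subgroup G => L ⊴ ⊤ ∧ ¬ Sol L) ⊤ ⟨normalIn_top.2 inferInstance, hs⟩
  exact ⟨L, hL, hs, le_antisymm (der_le L) (hm ⟨hL.der, fun e => hs (sol_of_normal_of_quo
    (der_normal L) e (sol_of_ab (ab_quo_of_der_le le_rfl)))⟩ (der_le L)), fun X h1 h2 => hm ⟨h1, h2⟩⟩

theorem Gd.cover {Q : Type u} [Group Q] [Finite Q] (hQ : Gd Q) (f : G →* Q) (hf : Function.Surjective f)
    (hp : der (⊤ : Subgroup G) = ⊤) (h1 : f.ker ≤ center G) (h2 : IsPGroup 2 f.ker) (h4 : f.ker ≠ ⊥) :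
    Nonempty (G ≃* SL(2, ZMod 5)) ∨ Nonempty (G ≃* SL(2, ZMod 7)) := by
  obtain ⟨K, t, s, x, w, m, -, h, hm⟩ := hQ.res
  suffices Nonempty (G ≃* SL(2, ZMod (2 * m + 1))) from
    hm.imp (fun e => by subst e; exact this) fun e => by subst e; exact this
  have := Fact.mk h.prime
  obtain ⟨F, _, _, hF, ⟨e⟩⟩ := h.equiv
  obtain ⟨e'⟩ := psl_congr (ZMod.ringEquivOfPrime F h.prime hF).symm
  have hk := MonoidHom.ker_comp_of_injective f (e.trans e').toMonoidHom (e.trans e').injective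
  have hf' : Function.Surjective ((e.trans e').toMonoidHom.comp f) := (e.trans e').surjective.comp hf
  have h5 := h.two_le
  have n : ∀ k : ℕ, k ≠ 0 → k < 5 → (k : ZMod (2 * m + 1)) ≠ 0 := fun k k0 k5 e =>
    absurd (Nat.le_of_dvd (Nat.pos_of_ne_zero k0) ((ZMod.natCast_eq_zero_iff _ _).1 e)) (by omega)
  have h6 := E8.card_center_SL2 (2 * m + 1) fun e => n 2 (by decide) (by decide) (by
    have : (-1 : ZMod (2 * m + 1)) = 1 := by simpa using congrArg (fun A : SL(2, ZMod _) => A.1 0 0) e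
    push_cast
    linear_combination -this)
  refine ZG.cover _ (QuotientGroup.mk' _) (hQ.alm.of_surjective (f := (e.trans e').toMonoidHom)
    (e.trans e').surjective) hf' (QuotientGroup.mk'_surjective _) hp
    (Matrix.SL2.commutator_eq_top (a := 2) (n 2 (by decide) (by decide)) fun e =>
      n 3 (by decide) (by decide) (by push_cast; linear_combination e))
    (hk ▸ h1) (QuotientGroup.ker_mk' _).le (hk ▸ h2) ?_ (hk ▸ h4) ?_ <;> rw [QuotientGroup.ker_mk']
  · exact IsPGroup.of_card (n := 1) h6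
  · exact fun e => by simp [e] at h6

theorem le_cent_four (p : Pair E t v) (hp : der L = L) (hL : L ≤ 𝐍(S4 t v)) : L ≤ 𝐂(S4 t v) := by
  have hD := normalIn_inf_cent hL
  have key : ∀ X ≤ L, ∀ y ∈ S4 t v, y ≠ 1 → ∀ q, q.Prime → q ∣ (𝐂[y]).relIndex X → q = 2 ∨ q = 3 :=
    fun X hX y hy y1 q hq hd => by
      have : (𝐂[y]).relIndex X ≤ 3 := by
        rw [← ncard_conj]
        refine (Set.ncard_le_ncard (t := {t, v, t * v}) ?_).trans ((Set.ncard_insert_le _ _).trans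
          (Nat.succ_le_succ ((Set.ncard_insert_le _ _).trans (by simp))))
        rintro _ ⟨g, hg, rfl⟩
        exact (p.mem_S4.1 (conj_mem_of_norm (hL (hX hg)) hy)).resolve_left (conj_ne_one.2 y1)
      have := Nat.le_of_dvd (relIndex_pos _ _) hd
      have := hq.two_le
      omega
  have : Sol (L ⁒ (L ⊓ 𝐂(S4 t v))) := Mix.sol_of_pi (p := 2) (q := 3) ((piGrp_quo_iff hD.norm).2
    fun q hq hd => by
      rw [inf_comm, inf_relIndex_right, cent_S4, inf_comm, ← relIndex_inf_mul_relIndex] at hd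
      exact (hq.dvd_mul.1 hd).elim (key _ inf_le_right _ (s_mem_S4 t v) p.s_ne q hq)
        (key _ le_rfl _ (t_mem_S4 t v) p.t_ne q hq))
  refine le_trans ((quo_eq_bot_iff hD.norm).1 (by_contra fun e => ?_)) inf_le_right
  exact (der_lt this e).ne (by rw [← quo_der hD.norm, hp])

theorem not_pnil_of_perfect [Fact p.Prime] (hp : der L = L) (hP : Syl p P L) (ha : Ab P)
    (hd : p ∣ ♯L) : ¬ PNil p L := fun e =>
  not_dvd_Op' L (hd.trans (card_dvd (hp.ge.trans ((e.sdprod hP).der_le_of_ab ha))))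

namespace Hom

variable (hG : Hom G)
include hG

theorem rigid (h0 : M ⊓ 𝐂(M) = ⊥) (hs : ¬ Sol M)
    (h : ∀ α : G ≃* G, Pres α M ∨ ∀ x ∈ M, α x ∈ 𝐂(M)) (α : G ≃* G) : Pres α M :=
  (h α).resolve_right fun e => by
    obtain ⟨t, ht, t1, t2⟩ := exists_invol_of_not_sol hs
    have n : ∀ x ∈ M, x ∈ 𝐂(M) → x = 1 := fun x h1 h2 => mem_bot.1 (h0 ▸ mem_inf.2 ⟨h1, h2⟩)
    have e1 := e t ht
    obtain ⟨β, hβ⟩ := hG.cyc ((orderOf_eq_two t2 t1).trans (orderOf_eq_two (t := t * α t) (by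
      rw [(Commute.symm (mem_cent_iff.1 e1 t ht)).mul_mul_mul_comm, ← map_mul, t2, map_one, mul_one])
      fun e => t1 (n t ht (eq_inv_of_mul_eq_one_left e ▸ inv_mem e1))).symm)
    rcases h β with e2 | e2
    · exact t1 (α.map_eq_one_iff.1 (n _ ((mul_mem_cancel_left ht).1 (hβ ▸ (e2 t).2 ht)) e1))
    · exact t1 (n t ht ((mul_mem_cancel_right e1).1 (hβ ▸ e2 t ht)))

theorem nosol (h2 : Op 2 (⊤ : Subgroup G) = ⊥) (hL : L ⊴ ⊤) (hp : der L = L) (hR : R ⊴ L)
    (hs : Sol R) : R = ⊥ := by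
  by_contra e
  obtain ⟨M, hM, hMR⟩ := exists_minNormalBy e hR.norm
  obtain ⟨p, hp', hV⟩ := hM.exists_abelem (sol_of_le hs hMR)
  have := Fact.mk hp'
  have hn : M ⊴ L := ⟨hMR.trans hR.le, hM.norm⟩
  by_cases e2 : p = 2
  · subst e2
    exact hM.ne_bot (le_bot_iff.1 (h2 ▸ (le_Op hn (abelem_isPGroup hV)).trans
      (le_Op (hL.Op 2) (Op_isPGroup _ _))))
  obtain ⟨y, hy, y1⟩ := (bot_or_exists_ne_one M).resolve_left hM.ne_bot
  have ho := orderOf_eq_prime (hV.2 y hy) y1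
  obtain ⟨P, hP⟩ := exists_syl p L
  exact not_pnil_of_perfect hp hP (hG.ab_odd e2 hP.isPGroup) (ho ▸ orderOf_dvd_card (hn.le hy))
    ((hG.pnil e2 (pelt_of_order ho) y1).of_le
      ((hG.pf e2 (abelem_isPGroup hV) hM.norm hp).trans (cent_le_cent1 hy)))

variable (hs : ¬ Sol (⊤ : Subgroup G))
  (ih : ∀ (H : Type u) [Group H] [Finite H], Nat.card H < Nat.card G → Hom H → Cl H)
include hs ih

theorem case_bot (h2 : Op 2 (⊤ : Subgroup G) = ⊥) : ∃ N K : Subgroup G, Ns N K := by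
  have := Fact.mk Nat.prime_three
  obtain ⟨L, hL, hs, hp, hm⟩ := exists_min hs
  have ns := fun R => hG.nosol (R := R) h2 hL hp
  have zc : ∀ M, M ⊴ L → M ⊓ 𝐂(M) = ⊥ := fun M hM => ns _ hM.Zc (sol_of_ab (Zc_ab M))
  have key : ∀ Y M : Subgroup G, (∀ α, Pres α Y) → M ⊴ Y → M ⊴ L → ¬ Sol M →
      (∀ X, X ⊴ Y → M ⊓ X = ⊥ ∨ M ≤ X) → ∀ α, Pres α M := fun Y M hY h1 h3 h4 h5 =>
    hG.rigid (zc M h3) h4 fun α => by
      have h6 : M.map α.toMonoidHom ⊴ Y :=
        (hY α).map_eq ▸ ⟨map_mono h1.le, map_le_norm _ h1.norm⟩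
      exact (h5 _ h6).symm.imp (fun e => pres_of_map (eq_of_le_of_card_le e
        (card_map_of_injective α.injective).le).symm) fun e x hx => le_cent_of_inf_eq_bot
          (h6.le.trans h1.norm) (h1.le.trans h6.norm) (inf_comm _ M ▸ e) (mem_map_of_mem _ hx)
  have hc := key ⊤ L (fun _ _ => Iff.rfl) hL ⟨le_rfl, le_normalizer⟩ hs fun X hX =>
    or_iff_not_imp_left.2 fun e => (hm _ (hL.inf hX)
      (mt (ns _ ((hL.inf hX).mono inf_le_left le_top)) e) inf_le_left).trans inf_le_right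
  obtain ⟨M, hM, hML⟩ := exists_minNormalBy (H := L) (fun e => hs (e.symm ▸ sol_bot)) (le_normalizer (H := L))
  have hn : M ⊴ L := ⟨hML, hM.norm⟩
  have hs' := mt (ns M hn) hM.ne_bot
  have hc' := key L M hc hn hn hs' fun X hX => hM.inf_eq_bot_or_le hX.norm
  obtain rfl : M = L := le_antisymm hML (hm M ⟨le_top, fun g _ =>
    mem_norm_of_conj_mem fun x hx => (hc' (MulAut.conj g) x).2 hx⟩ hs' hML)
  have := Smp.isSimpleGroup (fun X hX => hM.eq_bot_or_eq hX.le hX.norm) hM.ne_bot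
  have hd := (hG.of_char hc).simple (mt sol_of_ab hs) fun H e => ih H
    (((card_lt_of_lt (lt_top_iff_ne_top.2 e)).trans_eq card_top).trans_le (card_le_card_group M))
  have mem : ∀ y : G, ∀ w ∈ M, orderOf w = orderOf y → y ∈ M := fun y w hw e =>
    (hG.cyc e).elim fun α e => e ▸ (hc α w).2 hw
  have n : ∀ x ∈ M, x ∈ 𝐂(M) → x = 1 := fun x h1 h2 => mem_bot.1 (zc M hn ▸ mem_inf.2 ⟨h1, h2⟩)
  obtain ⟨t, ht, t1, t2⟩ := exists_invol_of_not_sol hs
  have inv : ∀ j, j ≠ 1 → j * j = 1 → j ∈ M := fun j j1 j2 =>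
    mem j t ht ((orderOf_eq_two t2 t1).trans (orderOf_eq_two j2 j1).symm)
  obtain ⟨K, _, _, x, w, m, -, hr, hm⟩ := hd.res
  refine ⟨M, 𝐂(M), ⟨hL, top_inf_eq 𝐂(M) ▸ hL.cent, index_eq_one.1 (((Nat.dvd_prime Nat.prime_two).1
    (hr.index_dvd hL)).resolve_right fun hi => ?_), odd_of_forall fun a ha a2 => by_contra fun a1 =>
      a1 (n a (inv a a1 a2) ha), Nat.coprime_of_dvd fun q hq d1 d2 => ?_⟩, hp, M, _, inferInstance,
    MonoidHom.id M, fun y => ⟨y, rfl⟩, hd, by simp, by rw [MonoidHom.ker_id]; exact IsPGroup.of_bot, .inl (by simp)⟩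
  swap
  · obtain ⟨y, hy, e⟩ := cauchy hq d1
    obtain ⟨w, hw, e'⟩ := cauchy hq d2
    exact hq.ne_one (by rw [← e, n y (mem y w hw (e'.trans e.symm)) hy, orderOf_one])
  have c1 : ♯M = 60 ∨ ♯M = 168 := hm.imp (fun e => by subst e; exact hr.card) fun e => by
    subst e; exact hr.card
  obtain ⟨y, hy, y3⟩ := cauchy (H := M) Nat.prime_three (by omega)
  have e := card_mul_relIndex (zpowers_le.2 hy)
  rw [Nat.card_zpowers, y3] at e
  have hP : Syl 3 (zpowers y) M := ⟨zpowers_le.2 hy, isPGroup_zpowers_iff.2 (pelt_of_order y3), by omega⟩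
  obtain ⟨c, hc, e⟩ : ∃ c ∈ 𝐂[y], c ∉ M ⊔ 𝐂(M) := by
    by_contra! h3
    refine not_pnil_of_perfect hp hP (ab_of_isCyclic inferInstance) (by omega) (Cyc.pnil_of hP
      inferInstance (mem_zpowers y) (σ1 y3) fun n h4 h5 => by_contra fun e => ?_)
    have : M ⊔ 𝐂(M) = ⊤ := top_le_iff.1 ((hP.frattini hL).sup_eq.ge.trans (sup_le le_sup_left
      fun r hr => by_contra fun e' => e' ((mul_mem_cancel_right (mem_sup_left h4)).1 (h3 _ (mul_mem_of_two
        (index_two (by rw [y3]; rfl) h5 e) hr.2 (fun e => e' (h3 r e)) h5 e)))))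
    simp [this] at hi
  obtain ⟨j, hj, j1, j2⟩ := exists_invol (not_odd (two_constt c) (mem_zpowers _) fun e' => e
    (mem_of_constt_mem (e' ▸ one_mem _) (cent_of_odd_sq (odd_constt c) (mul_self_mem_of_index_two hi _))))
  exact not_odd (hd.c2 (t := ⟨j, inv j j1 j2⟩) (by simpa using j1) (Subtype.ext j2)) (x := ⟨y, hy⟩)
    (mem_cent1.2 (Subtype.ext (mem_cent1.1 (zpowers_le.2 (constt_mem _ hc) hj)).symm))
    (by simpa using σ1 y3) (orderOf_mk y hy ▸ σ_odd y3)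

omit ih in
theorem lift_ns {Q : Type u} [Group Q] [Finite Q] (π : G →* Q) (hπ : Function.Surjective π)
    (hk : π.ker = zpowers z) (z1 : z ≠ 1) (z2 : z * z = 1) (hu : ∀ t, t ≠ 1 → t * t = 1 → t = z)
    (hQ : Cl Q) : ∃ N K : Subgroup G, Ns N K := by
  have zc : ∀ g, g * z * g⁻¹ = z := fun g => hu _ (conj_ne_one.2 z1) (conj_sq z2 g)
  have c0 : ♯(zpowers z) = 2 := by rw [Nat.card_zpowers, orderOf_eq_two z2 z1]
  have hs' : ¬ Sol (⊤ : Subgroup Q) := fun e => hs (Pyr.sol_of_map π (sol_of_le e le_top)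
    (sol_of_le (sol_of_isPGroup (two_elt z2)) (inf_le_right.trans hk.le)))
  obtain ⟨N, K, h⟩ := hQ.resolve_left hs'
  have le : ∀ X : Subgroup Q, zpowers z ≤ X.comap π := fun X => hk.ge.trans (ker_le_comap π X)
  have idx : ∀ X : Subgroup Q, (zpowers z).relIndex (X.comap π) = ♯X := fun X => by
    rw [← hk, relIndex_ker, map_comap_eq_self_of_surjective hπ]
  have hZ : Syl 2 (zpowers z) (K.comap π) := ⟨le K, two_elt z2, (idx K).symm ▸ h.odd.not_two_dvd_nat⟩
  have sd := (pnil_of_cyc hZ).sdprod hZ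
  have c1 : ♯(O (K.comap π)) = ♯K := by
    have : ♯(O (K.comap π)) * _ = _ := sd.card.trans (card_mul_relIndex (le K)).symm
    rw [idx, c0] at this
    omega
  have := normalIn_top.1 h.nN
  have := normalIn_top.1 h.nK
  have hd : Dp (N.comap π) (O (K.comap π)) := ⟨normalIn_top.2 inferInstance,
    (normalIn_top.2 inferInstance).Opi _, top_le_iff.1 (by
      rw [← comap_top π, ← h.sup, ← comap_sup_eq π _ _ hπ]
      exact sup_le le_sup_left (sd.sup_eq.ge.trans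
        (sup_le le_sup_right ((le N).trans le_sup_left)))), odd_O _, by
      rw [c1, ← card_mul_relIndex (le N), idx, c0]
      exact (Nat.coprime_two_right.2 h.odd).mul_right h.cop⟩
  have m1 : (der (N.comap π)).map π = N := by rw [map_der, map_comap_eq_self_of_surjective hπ, h.perf]
  have hp : der (N.comap π) = N.comap π := by
    obtain ⟨t, ht, t1, t2⟩ := exists_invol_of_not_sol fun e : Sol (der (N.comap π)) =>
      hs' (h.sup ▸ sol_sup (le_top.trans h.nK.norm) (m1 ▸ sol_map e π) (sol_of_odd h.odd))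
    nth_rewrite 2 [← m1]
    rw [comap_map_eq, hk, sup_of_le_left (zpowers_le.2 (hu t t1 t2 ▸ ht))]
  have hp' : der (⊤ : Subgroup (N.comap π)) = ⊤ :=
    map_injective (subtype_injective _) (by rw [map_der, map_subtype_top, hp])
  obtain ⟨Q', _, _, f, hf, hQ, h1, h2, -⟩ := h.quo
  have hf' := hf.comp (π.subgroupComap_surjective_of_surjective N hπ)
  have h3 : (f.comp (π.subgroupComap N)).ker ≤ center _ := fun x hx => mem_center_iff.2 fun g =>
    mem_cent_iff.1 (cent_of_comm hp' (commutator_le.2 fun x hx g _ => mem_cent_iff.2 fun w _ => by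
      have : (⁅x, g⁆ : N.comap π).1 ∈ zpowers z := hk.le (congrArg Subtype.val (show
        π.subgroupComap N ⁅x, g⁆ = 1 by
          rw [map_commutatorElement, commutatorElement_eq_one_iff_mul_comm, mem_center_iff.1 (h1 hx)]))
      exact Subtype.ext (comm_of_mem (mul_inv_eq_iff_eq_mul.1 (zc w)) this)) hx) g trivial
  have h4 : IsPGroup 2 (f.comp (π.subgroupComap N)).ker := h2.comap_of_ker_isPGroup _ fun x =>
    ⟨1, Subtype.ext (Subtype.ext (by
      have : x.1.1 ∈ zpowers z := hk.le (congrArg Subtype.val x.2)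
      rcases (mem_zp z2).1 this with e | e <;> simp [e, sq, z2]))⟩
  exact ⟨_, _, hd, hp, Q', _, _, _, hf', hQ, h3, h4, .inr ((hQ.cover _ hf' hp' h3 h4 fun e => z1
    (congrArg Subtype.val (mem_bot.1 (e.le (show (⟨z, le N (mem_zpowers z)⟩ : N.comap π) ∈ _ from
      (congrArg f (Subtype.ext (MonoidHom.mem_ker.1 (hk.ge (mem_zpowers z))))).trans (map_one f)))))).resolve_right
        fun ⟨e⟩ => not_hom_SL27 ((hG.of_char hd.pres).congr e))⟩

theorem case_one (z1 : z ≠ 1) (z2 : z * z = 1) (hu : ∀ t, t ≠ 1 → t * t = 1 → t = z) :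
    ∃ N K : Subgroup G, Ns N K := by
  have : (zpowers z).Normal := normalIn_top.1 ⟨le_top, fun g _ =>
    mem_norm_zp ((hu _ (conj_ne_one.2 z1) (conj_sq z2 g)).symm ▸ mem_zpowers z)⟩
  refine hG.lift_ns hs _ (QuotientGroup.mk'_surjective _) (QuotientGroup.ker_mk' _) z1 z2 hu
    (ih _ ?_ (hG.quo z1 z2 hu))
  rw [card_eq_card_quotient_mul_card_subgroup (zpowers z), Nat.card_zpowers, orderOf_eq_two z2 z1]
  exact lt_mul_of_one_lt_right Nat.card_pos one_lt_two

theorem main : ∃ N K : Subgroup G, Ns N K := by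
  have := Fact.mk Nat.prime_two
  by_cases h2 : Op 2 (⊤ : Subgroup G) = ⊥
  · exact hG.case_bot hs ih h2
  obtain ⟨y, hy, y1⟩ := (bot_or_exists_ne_one _).resolve_left
    (Zc_ne_bot (nil_of_isPGroup (Op_isPGroup 2 _)) h2)
  obtain ⟨z, hz, z1, z2⟩ := exists_invol (not_odd (Op_isPGroup 2 _) (Zc_le _ hy) y1)
  replace hz := zpowers_le.2 hy hz
  have hsq : ∀ x : G, x * x = 1 ↔ x ∈ Ohm 2 (Zc (Op 2 ⊤)) := fun x => by
    rw [mem_Ohm_iff_of_ab (Zc_ab _), sq]
    refine (and_iff_right_of_imp fun x2 => ?_).symm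
    by_cases x1 : x = 1
    · exact x1 ▸ one_mem _
    obtain ⟨α, rfl⟩ := hG.cyc ((orderOf_eq_two z2 z1).trans (orderOf_eq_two x2 x1).symm)
    have : Pres α (Op 2 ⊤) := pres_of_map (by rw [map_Op α.injective, map_top_of_surjective _ α.surjective])
    exact (this.inf this.cent z).2 hz
  have hV := Ohm_abelem 2 (Zc_ab (Op 2 (⊤ : Subgroup G)))
  generalize Ohm 2 (Zc (Op 2 (⊤ : Subgroup G))) = E at hsq hV
  obtain ⟨n, hn⟩ := IsPGroup.iff_card.1 (abelem_isPGroup hV)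
  refine hG.case_one hs ih z1 z2 fun t t1 t2 => by_contra fun e => ?_
  have p := pair_mk t1 z1 e t2 z2 (ab_iff.1 hV.1 _ ((hsq t).1 t2) _ ((hsq z).1 z2))
  have h4 := hG.sol_cent hsq hV.1 ((Nat.pow_le_pow_iff_right one_lt_two).1
    ((p.card.ge.trans (card_le (S4_le.2 ⟨(hsq t).1 t2, (hsq z).1 z2⟩))).trans_eq hn : 2 ^ 2 ≤ _)) hn
  have hN : ∀ g, g ∈ 𝐍(E) := fun g => mem_norm_of_conj_mem fun x hx => (hsq _).1 (conj_sq ((hsq x).2 hx) g)
  obtain ⟨g, -, hg⟩ := SetLike.not_le_iff_exists.1 (mt (sol_of_le h4) hs)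
  obtain ⟨Q, t, v, ρ, h⟩ := hG.exists_rt ⟨le_top, hV, fun B _ hB hle =>
    le_antisymm (fun x hx => (hsq x).1 (sq x ▸ hB.2 x hx)) hle⟩ (hN g) hg
  obtain ⟨L, -, h5, hp, -⟩ := exists_min hs
  exact h5 (sol_of_le h4 (h.eq ▸ le_cent_four h.pair hp fun g _ => h.eq.symm ▸ hN g))

end Hom

theorem cl (n : ℕ) : ∀ (G : Type u) [Group G] [Finite G], Nat.card G < n → Hom G → Cl G := by
  induction n with
  | zero => exact fun _ _ _ h => absurd h (Nat.not_lt_zero _)
  | succ n ih =>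
    intro G _ _ hn hG
    exact or_iff_not_imp_left.2 fun h0 => hG.main h0 fun H _ _ h => ih H (by omega)

theorem Hom.cl (hG : Hom G) : Cl G := HG.cl _ G (Nat.lt_succ_self _) hG

end Cfsg.Agent.HG
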