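import Cfsg.Agent.Lib.HG.Se

/-!
# Homogeneous simple groups with semidihedral Sylow 2-subgroups: elements of order 3
-/

set_option autoImplicit false
set_option linter.unusedSectionVars false

namespace Cfsg.Agent.HG

open Subgroup Cfsg.Agent.OO Cfsg.Agent.Coprime GW ZG
open scoped commutatorElement Pointwise

universe u

variable {G : Type u} [Group G] [Finite G] {H K M P X : Subgroup G}
  {a b c g j m r s t u v w x y z ρ : G} {α : G ≃* G} {p : ℕ}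

theorem pres_Oup (p : ℕ) (h : Pres α H) : Pres α (Oup p H) := pres_of fun _ hx =>
  (Oup_le_iff.2 fun y hy ho => mem_Oup ((h y).2 hy) ((α.orderOf_eq y).symm ▸ ho) :
    Oup p H ≤ (Oup p H).comap α.toMonoidHom) hx

theorem Hom.se [IsSimpleGroup G] (hG : Hom G) (hna : ¬ IsMulCommutative G) (h : Tw a s z)
    (h1 : OneCl G) (hi : s * a * s⁻¹ = a⁻¹ * z) : ∃ x, Se a s z x := by
  refine exists_se h hi (hG.alm hna) (hG.nb hna) (zpowers_le.2 ?_ (h.sq_mem_zp hi)) h1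
    (smp_top.perfect fun e => not_sol' hna (sol_of_ab e))
  have := hG.dz' (odd_O _) h.syl.isPGroup (h.le_cent.trans (Opi_normal _ _).norm) (s_mem_S4 a s)
    (h.s2 ▸ one_mem _) (t_mem_S4 a s)
  rwa [show a * s * a⁻¹ * s⁻¹ = a * (s * a * s⁻¹)⁻¹ by group, hi, mul_inv_rev, inv_inv, inv_eq h.z2,
    ← h.az, ← mul_assoc] at this

theorem two_constt (g : G) : IsPGroup 2 (zpowers (constt ({2} : Set ℕ) g)) :=
  isPGroup_zpowers_iff.2 (piElt_constt _ _)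

theorem pelt_of_order [hp : Fact p.Prime] (hu : orderOf u = p) : PiElt {p} u :=
  isPGroup_zpowers_iff.1 (Core.isPGroup_zpowers_of_orderOf (k := 1) (hu.trans (pow_one p).symm))

theorem not_dvd_of_two [hp : Fact p.Prime] (h2 : p ≠ 2) (hy : IsPGroup 2 (zpowers y)) :
    ¬ p ∣ orderOf y := fun e => by
  obtain ⟨n, hn⟩ := IsPGroup.iff_card.1 hy
  rw [← Nat.card_zpowers, hn] at e
  exact h2 ((Nat.prime_dvd_prime_iff_eq hp.out Nat.prime_two).1 (hp.out.dvd_of_dvd_pow e))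

namespace Se

variable (h : Se a s z x)
include h

theorem m_le : 2 * (outInv 𝐂[x] 𝐍(zpowers x)).ncard ≤ ♯𝐂[x] := by
  have h3 : (outInv 𝐂[x] 𝐍(zpowers x)).ncard ≤ ♯(H0 z ⊓ 𝐂[x]) :=
    Set.ncard_le_ncard_of_injOn (t := (H0 z ⊓ 𝐂[x] : Subgroup G)) (· * s) (fun j hj => mem_inf.2
      ⟨mul_mem_of_two h.index_H0 (h.N_le hj.1) (h.not_mem_H0 (h.N_le hj.1)
        (fun e => hj.2.1 (e ▸ one_mem _)) hj.2.2 fun e => hj.2.1 (e ▸ h.z_C)) h.sH h.s_not,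
        mul_mem_of_two h.ti.two hj.1 hj.2.1 h.s_N h.s_C⟩) fun _ _ _ _ => mul_right_cancel
  have h4 := two_mul_card_le (SetLike.lt_iff_le_and_exists.2 ⟨inf_le_right, a, h.a_C,
    fun e : a ∈ H0 z ⊓ 𝐂[x] => h.s_not ((mul_mem_cancel_left (mem_inf.1 e).1).1 (h.mem_H0' h.as_sq))⟩)
  omega

theorem eq_z0 (hj : j ∈ H0 z) (j1 : j ≠ 1) (j2 : j * j = 1) : j = z :=
  by_contra fun e => h.not_mem_H0 (Oup_le _ _ hj) j1 j2 e hj

theorem hom0 (hG : Hom G) : Hom (H0 z) :=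
  hG.of_char_z ⟨h.z_H0, le_cent1_iff.1 (Oup_le _ _)⟩ h.z2
    (fun _ ht t2 => or_iff_not_imp_left.2 fun e => h.eq_z0 ht e t2) fun _ e => pres_Oup 2 (pres_cent1 e)

theorem a_not : a ∉ zpowers (a * a) := fun e => by
  rw [← sq, mem_zpowers_pow_iff] at e
  exact not_odd h.two (mem_zpowers a) (fun e => h.ne (by simp [e])) (Nat.coprime_two_left.1 e)

theorem nf (h3 : ¬ 3 ∣ ♯(𝐂[z] ⊓ 𝐂[s])) (hu : orderOf u = 3) (ht : t ∈ 𝐂[u]) (hv : v ∈ 𝐂[u])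
    (t1 : t ≠ 1) (t2 : t * t = 1) (v1 : v ≠ 1) (v2 : v * v = 1) (hc : t * v = v * t) : t = v :=
  by_contra fun e => h3 <| by
    obtain ⟨g, rfl, rfl⟩ := h.pair_conj (pair_mk t1 v1 e t2 v2 hc)
    rw [← card_conj g, conj_inf, ← cent1_conj, ← cent1_conj, ← hu]
    exact orderOf_dvd_card (mem_inf.2 ⟨mem_cent1_comm.1 ht, mem_cent1_comm.1 hv⟩)

/-- if no four-group centralizes an element of order 3, its centralizer has a central involution -/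
theorem uniq3 (hG : Hom G) (h3 : ¬ 3 ∣ ♯(𝐂[z] ⊓ 𝐂[s])) (hu : orderOf u = 3) (hz : u ∈ 𝐂[z]) :
    𝐂[u] ≤ 𝐂[z] := by
  obtain ⟨w, ρ, w2, -, -, e, r3, r1, r2⟩ := h.exists_rot h.one h.ne h.pair
  have ρ1 : ρ ≠ 1 := fun e => h.sz_ne (by simpa [e] using r1.symm)
  have oρ : orderOf ρ = 3 := orderOf_eq_prime (by_contra fun e => by
    obtain ⟨y, hy, e⟩ := exists_order_mem Nat.prime_three
      (r3.to_le (zpowers_le.2 (pow_mem (mem_zpowers ρ) 3))) e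
    have r4 : ρ * (z * s) * ρ⁻¹ = z := by
      rw [← conj_mul, r1, r2, ← mul_assoc, h.sz, mul_assoc, h.s2, mul_one]
    refine h3 (e ▸ orderOf_dvd_card (zpowers_le.2 (mem_inf.2 ⟨?_, ?_⟩) hy)) <;>
      simp only [mem_cent1_iff_conj, pow_succ, pow_zero, one_mul, cj_mul, r1, r2, r4]) ρ1
  have wC := not_cent_of_inv (σ_odd oρ) ρ1 e
  have wN := mem_norm_zp (e ▸ inv_mem (mem_zpowers ρ))
  obtain ⟨β, hβ⟩ := hG.cyc (hu.trans oρ.symm)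
  have key : ∀ g ∈ 𝐂[u], β g ∈ 𝐂[ρ] := fun g hg => mem_cent1.2 (by
    rw [← hβ, ← map_mul, ← map_mul, mem_cent1.1 hg])
  have z0 := key z (mem_cent1_comm.1 hz)
  have z1 : β z ≠ 1 := by simpa using h.z1
  have z2 : β z * β z = 1 := by rw [← map_mul, h.z2, map_one]
  obtain ⟨T, hT, hw⟩ := exists_syl_ge (zpowers_le.2 wN) (two_elt w2)
  have hT0 := hT.inf_normal (cent_normal ρ)
  obtain ⟨j, hj, j2⟩ := cauchy Nat.prime_two (hT0.dvd_card_iff.2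
    (orderOf_eq_two z2 z1 ▸ orderOf_dvd_card z0))
  obtain ⟨y, hy, y1⟩ := (bot_or_exists_ne_one _).resolve_left (Zc_ne_bot hT0.nil fun e => by
    simp [mem_bot.1 (e ▸ hj)] at j2)
  obtain ⟨k, hk, k1, k2⟩ := exists_invol (not_odd hT0.isPGroup (Zc_le _ hy) y1)
  replace hk := zpowers_le.2 hy hk
  have kC : k ∈ 𝐂[ρ] := hk.1.2
  have hw := zpowers_le.1 hw
  have hk' : w * k * w⁻¹ ∈ T ⊓ 𝐂[ρ] :=
    mem_inf.2 ⟨mul_mem (mul_mem hw (mem_inf.1 hk.1).1) (inv_mem hw), (cent_normal ρ).conj_mem wN kC⟩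
  have wk := mul_inv_eq_iff_eq_mul.1 (h.nf h3 oρ hk'.2 kC (conj_ne_one.2 k1) (conj_sq k2 w) k1 k2
    (mem_cent_iff.1 hk.2 _ hk'))
  have hc := zpowers_le.2 (mem_cent1_self ρ)
  obtain ⟨α, f1, f2⟩ := hG.extp Nat.prime_two (H := zpowers ρ) (e := w) (e' := w * k) wN
    (by rwa [inv_mul_cancel_left, cent_zpowers]) (by rw [sq, w2]; exact one_mem _)
    (by rw [sq, sq, (Commute.symm wk).mul_mul_mul_comm, k2, mul_one]) (fun e => wC (hc e))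
    fun e => wC ((mul_mem_cancel_right kC).1 (hc e))
  have kO := hG.ss' (odd_O 𝐂[ρ]) hT.isPGroup (hT.le.trans ((cent_normal ρ).Opi _).norm) hw
    (f2 ▸ mul_mem hw hk.1.1) (w2 ▸ one_mem _) (pres_Opi _ (pres_cent1 (f1 ρ (mem_zpowers ρ))))
  rw [f2, ← mul_assoc, w2, one_mul] at kO
  have hle : 𝐂[ρ] ≤ 𝐂[k] := fun g hg => cent_of_zstar (odd_O _) k2 kO (zstar kC k2 (fun g hg e =>
    h.nf h3 oρ (mul_mem (mul_mem hg kC) (inv_mem hg)) kC (conj_ne_one.2 k1) (conj_sq k2 g) k1 k2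
      e.symm) hg)
  obtain rfl := h.nf h3 oρ z0 kC z1 z2 k1 k2 (mem_cent1.1 (hle z0))
  exact fun g hg => mem_cent1.2 (β.injective (by
    rw [map_mul, map_mul, mem_cent1.1 (hle (key g hg))]))

/-- a four-group centralizes an element of order 3 -/
theorem rot3 (hG : Hom G) (h3 : 3 ∣ ♯(𝐂[z] ⊓ 𝐂[s])) : ∃ u, orderOf u = 3 ∧ u ∈ 𝐂[z] ∧
    (𝐂[z]).relIndex 𝐂[u] = 3 ∧ ∀ y ∈ 𝐂[u], Odd (orderOf y) → ¬ 3 ∣ orderOf y → y ∈ 𝐂[s] := by
  have := Fact.mk Nat.prime_three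
  obtain ⟨-, ρ, -, -, -, -, r3, r1, r2⟩ := h.exists_rot h.one h.ne h.pair
  have p := h.pair
  have zs := mul_mem (t_mem_S4 z s) (s_mem_S4 z s)
  have n1 : ρ ∈ 𝐍(S4 z s) := mem_norm_S4 (r1 ▸ s_mem_S4 z s) (r2 ▸ zs)
  have hV : (𝐂[z] ⊓ 𝐂[s]) ⊴ 𝐍(S4 z s) := cent_S4 z s ▸ ⟨cent_le_norm _, norm_le_norm_cent _⟩
  obtain ⟨P, hP, ρP⟩ := exists_syl_ge (zpowers_le.2 n1) r3
  obtain ⟨u, ⟨uP, uz, us⟩, hu⟩ := cauchy Nat.prime_three ((hP.inf_normal hV).dvd_card_iff.2 h3)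
  have hρ : ρ ∈ 𝐂[u] := mem_cent1.2 (ab_iff.1 (hG.ab_odd (by decide) hP.isPGroup) _ (zpowers_le.1 ρP) _ uP)
  have hp3 := hG.pnil (by decide) (pelt_of_order hu) (σ1 hu)
  have hW := Opi_normal ({3} : Set ℕ)ᶜ 𝐂[u]
  have hp := h.alm.pnil (not_dvd_Op' (p := 3) 𝐂[u])
  have hVW : S4 z s ≤ Op' 3 𝐂[u] := S4_le.2
    ⟨(mem_Op' hp3).2 ⟨mem_cent1_comm.1 uz, not_dvd_of_two (by decide) (two_elt h.z2)⟩,
      (mem_Op' hp3).2 ⟨mem_cent1_comm.1 us, not_dvd_of_two (by decide) (two_elt h.s2)⟩⟩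
  have hn := (hW.Opi ({2} : Set ℕ)ᶜ).norm hρ
  have k1 := hG.ss (odd_O _) p.isEp.isPGroup (hVW.trans (Opi_normal _ _).norm) (t_mem_S4 z s)
    (s_mem_S4 z s) (h.z2 ▸ one_mem _) (h.s2 ▸ one_mem _) (r1 ▸ card_inf_cent1 (pres_conj hn) z)
  have k2 := conj_mem_of_norm (norm_le_norm_cent _ hn) k1
  rw [← conj_mul, r1, r2, ← mul_assoc, h.sz, mul_assoc, h.s2, mul_one] at k2
  have key : O (Op' 3 𝐂[u]) ≤ 𝐂(S4 z s) :=
    le_cent_symm (S4_le.2 ⟨k2, (mul_mem_cancel_left k2).1 k1⟩)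
  obtain ⟨T, hT⟩ := exists_syl 2 (Op' 3 𝐂[u])
  obtain ⟨T, hT, hn, hV⟩ := coprime_Hall_subset (π := {2}) ((zpowers_le.2 hρ).trans hW.norm)
    (Core.coprime_card_of_isPGroup r3 ((Nat.Prime.coprime_iff_not_dvd Nat.prime_three).2
      (not_dvd_Op' _)).symm).symm ((hp.sdprod hT).sol (sol_of_odd (odd_O _)) hT.sol)
    hVW (piGrp_singleton p.isEp.isPGroup) (zpowers_le.2 n1)
  replace hT := hT.syl
  obtain ⟨-, c, c2, H⟩ := h.alm.aut hT.isPGroup (zpowers_le.1 hn)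
    (ZG.odd_of_pgroup Nat.prime_three (by decide) r3) fun e =>
      p.ne ((mem_cent_iff_conj.1 e z (hV (t_mem_S4 z s))).symm.trans r1)
  obtain rfl : c = 1 := by_contra fun c1 => p.ne (invol_eq
    ((H z (hV (t_mem_S4 z s))).resolve_right (p.t_sq ▸ Ne.symm c1))
    ((H s (hV (s_mem_S4 z s))).resolve_right (p.s_sq ▸ Ne.symm c1)) p.t_ne p.t_sq p.s_ne p.s_sq)
  have sq : ∀ y ∈ T, y * y = 1 := fun y hy => (H y hy).elim
    (fun e => by rw [zpowers_one_eq_bot, mem_bot] at e; rw [e, mul_one]) id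
  have cm : ∀ y ∈ T, ∀ w ∈ T, y * w = w * y := fun y hy w hw => by
    rw [← inv_eq (sq _ (mul_mem hy hw)), mul_inv_rev, inv_eq (sq _ hy), inv_eq (sq _ hw)]
  obtain rfl : S4 z s = T := le_antisymm hV fun y hy => h.mem_four p (two_elt (sq y hy))
    (cm y hy z (hV (t_mem_S4 z s))) (cm y hy s (hV (s_mem_S4 z s)))
  have hN := hW.norm.trans (hT.norm_le_norm_of_normal ((hp.sdprod hT).sup_eq.ge.trans (sup_le
    (le_norm_of_le_cent key) le_normalizer)))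
  refine ⟨u, hu, uz, ?_, fun y hy ho e =>
    (cent_S4 z s ▸ key ((mem_O hp).2 ⟨(mem_Op' hp3).2 ⟨hy, e⟩, ho⟩)).2⟩
  rw [← ncard_conj, Set.ncard_eq_three]
  refine ⟨z, s, z * s, p.ne, p.mul.ne, fun e => h.z1 (by simpa using e), Set.ext fun y => ⟨?_, ?_⟩⟩
  · rintro ⟨g, hg, rfl⟩
    exact (p.mem_S4.1 (conj_mem_of_norm (hN hg) (t_mem_S4 z s))).resolve_left (conj_ne_one.2 h.z1)
  · rintro (rfl | rfl | rfl)
    exacts [⟨1, one_mem _, by simp⟩, ⟨ρ, hρ, r1⟩, ⟨ρ * ρ, mul_mem hρ hρ, by simp only [cj_mul, r1, r2]⟩]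

theorem not_dvd_index (hG : Hom G) [hp : Fact p.Prime] (h2 : p ≠ 2) (h3 : p ≠ 3) (hy : y ∈ 𝐂[z])
    (ho : orderOf y = p) : ¬ p ∣ (𝐂[z]).index := fun e => by
  have hn := hG.pnil h2 (pelt_of_order ho) fun e => hp.out.ne_one (by rw [← ho, e, orderOf_one])
  obtain ⟨P, hP, hyP⟩ := exists_syl_ge le_top (isPGroup_zpowers_iff.2 (pelt_of_order ho))
  have h1 : P ≤ 𝐂[y] := (hG.ab_odd h2 hP.isPGroup).le_cent.trans (cent_le_cent1 (zpowers_le.1 hyP))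
  obtain ⟨T, hT, h4⟩ := exists_invariant_sylow 2 (h1.trans (Opi_normal ({p} : Set ℕ)ᶜ _).norm)
    (coprime_of_isPGroup hP.isPGroup (Opi_piGrp _ _)) (.inl hP.sol)
  obtain ⟨c, -, hc⟩ := hT.exists_conj_le (zpowers_le.2 ((mem_Op' hn).2
    ⟨mem_cent1_comm.1 hy, not_dvd_of_two h2 (two_elt h.z2)⟩)) (two_elt h.z2)
  have h5 : P ≤ c •ᶜ 𝐂[z] := fun g hg => by
    rw [← cent1_conj]
    refine cent_le_cent1 (hc (conj_mem_conj (mem_zpowers z))) (by_contra fun e => ?_)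
    obtain ⟨k, hk⟩ := Core.exists_orderOf_eq_pow_of_mem hP.isPGroup hg
    exact h3 ((Nat.prime_dvd_prime_iff_eq Nat.prime_three hp.out).1 (Nat.prime_three.dvd_of_dvd_pow (hk ▸
      (h.alm.aut hT.isPGroup (h4 hg) (odd_of_mem (odd_of_isPGroup h2 hP.isPGroup) hg) e).1))).symm
  refine hP.not_dvd (e.trans ?_)
  rw [relIndex_top_right, ← index_conj c]
  exact index_dvd_of_le h5

variable (hM : M ≤ O 𝐂[z]) (hX : ∀ y ∈ 𝐂[x], Odd (orderOf y) → y ∈ M)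
include hM hX

theorem odd_mem (ht : t * t = z) (hy : y ∈ 𝐂[t]) (ho : Odd (orderOf y)) : y ∈ O 𝐂[z] := by
  obtain ⟨g, hg, rfl⟩ := h.conj_x ht
  rw [cent1_conj] at hy
  obtain ⟨y, hy, rfl⟩ := hy
  exact (Opi_normal _ _).conj_mem hg (hM (hX y hy (orderOf_conj g y ▸ ho)))

theorem cent3_le (hG : Hom G) (h3 : ¬ 3 ∣ ♯(𝐂[z] ⊓ 𝐂[s])) (hu : orderOf u = 3) (hz : u ∈ 𝐂[z]) :
    𝐂[u] ≤ H0 z := fun c hc => by
  have hle := h.uniq3 hG h3 hu hz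
  refine mem_of_constt_mem (by_contra fun e => ?_) (mem_H0 (hle (constt_mem _ hc)) (odd_constt c))
  have h1 := constt_mem {2} hc
  have h2 := two_constt c
  generalize constt {2} c = r at e h1 h2
  by_cases r2 : r * r = 1
  · exact e (h.nf h3 hu h1 (mem_cent1_comm.1 hz) (fun e' => e (e' ▸ one_mem _)) r2 h.z1 h.z2
      (mem_cent1.1 (hle h1)) ▸ h.z_H0)
  obtain ⟨t, ht, t1, t2⟩ := h.exists_sq h2 r2
  replace ht := zpowers_le.2 h1 ht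
  have uO := h.odd_mem hM hX (h.nf h3 hu (mul_mem ht ht) (mem_cent1_comm.1 hz) t1 t2 h.z1 h.z2
    (mem_cent1.1 (hle (mul_mem ht ht)))) (mem_cent1_comm.1 ht) (σ_odd hu)
  obtain ⟨g, hg, e1⟩ := (h.sylH h.inv).exists_conj_le (zpowers_le.2 (hle h1)) h2
  have e2 := (h.mem_Q (e1 (conj_mem_conj (mem_zpowers r)))).resolve_right fun e' =>
    e ((mem_norm_iff.1 ((Oup_normal _ _).norm hg) r).2 (h.Q_le e').2)
  have e3 := (S4_le.2 ⟨h.aO, h.cent_O h.as_sq⟩ : _ ≤ 𝐂(O 𝐂[z])) e2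
  have e4 := (Opi_normal _ _).conj_mem hg uO
  refine not_cent_of_inv ((orderOf_conj g u).symm ▸ σ_odd hu) (conj_ne_one.2 (σ1 hu))
    (h.inv_O h.sH h.s1 h.s2 h.sz_ne e4) ((mul_mem_cancel_left ?_).1 (cent_le_cent1 e4 e3))
  exact cent1_conj g u ▸ conj_mem_conj h1

end Se

end Cfsg.Agent.HG
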