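import Cfsg.Agent.Lib.HG.SdA

/-!
# Homogeneous simple groups with semidihedral Sylow 2-subgroups: the solvable case
-/

set_option autoImplicit false
set_option linter.unusedSectionVars false

namespace Cfsg.Agent.HG

open Subgroup Cfsg.Agent.OO Cfsg.Agent.Coprime GW ZG
open scoped commutatorElement Pointwise

universe u

variable {G : Type u} [Group G] [Finite G] {H K M P X : Subgroup G}
  {a b c g j m r s t u v w x y z ρ : G} {α : G ≃* G} {p : ℕ}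

namespace Se

variable (h : Se a s z x)
include h

theorem as_not : a * s ∉ zpowers a := by rw [mul_mem_cancel_left (mem_zpowers a)]; exact h.sa

theorem QO : S4 (a * a) (a * s) ≤ 𝐂(O 𝐂[z]) := S4_le.2 ⟨h.aO, h.cent_O h.as_sq⟩

theorem normQ (hs : Sol (H0 z)) : a * a * (a * a) = z ∧ 𝐂[z] ≤ 𝐍(S4 (a * a) (a * s)) := by
  have hL : L z ⊴ (𝐂[z] ⁒ Y z) := (Oup_normal 2 _).quo _
  obtain ⟨M, hM, hML⟩ := exists_minNormalBy (fun e => (h.coset_mem h.x_sq).2.1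
    (mem_bot.1 (e ▸ (h.coset_mem h.x_sq).1))) hL.norm
  have hMn : M ⊴ (𝐂[z] ⁒ Y z) := ⟨hML.trans hL.le, hM.norm⟩
  obtain ⟨j, hj, j1, j2⟩ := exists_invol_mem h.O_L (hMn.mono hML hL.le) hM.ne_bot
  have hV := hM.abelem_of_dvd (sol_of_le (sol_quo hs _) hML) Nat.prime_two
    (orderOf_eq_two j2 j1 ▸ orderOf_dvd_card hj)
  obtain ⟨t, ht, rfl⟩ := h.lift ⟨hML hj, j1, j2⟩
  have hW := quoPre_normal (Y_normal z) hMn
  obtain ⟨g, hg, rfl⟩ := h.conj_x ht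
  obtain ⟨-, k, hk, e⟩ := h.exists_g
  have h1 : a * s ∈ quoPre (Y z) M := e ▸ hW.conj_mem hk ((mem_norm_iff.1 (hW.norm hg) x).2
    (mem_quoPre.2 ⟨nY (cent_of_sq ht), hj⟩))
  have h2 := h.sq_mem_of h.inv hW h1 (mul_mem (t_mem_S4 a s) (s_mem_S4 a s)) h.as_not
  have sq : ∀ w ∈ quoPre (Y z) M, w * w ∈ Y z := fun w hw => by
    obtain ⟨h3, h4⟩ := mem_quoPre.1 hw
    rw [← coset_eq_one_iff (mul_mem h3 h3), coset_mul h3 h3, ← pow_two, hV.2 _ h4]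
  have a4 := zp_sq_le a (mul_mem (mem_zpowers _) (mem_zpowers (a * a)))
  have hQ := (h.sylQ.hall.mono (S4_le.2 ⟨h2, h1⟩) (quoPre_le_of_le h.Y_normal0 hML)).syl
  refine ⟨h.eq_z a4 (h.ne4 h.inv) (by_contra fun e => not_odd h.two (mul_mem a4 a4) e
    (odd_of_mem (odd_O _) (sq_mem_O h.z2 (sq _ h2)))), hW.norm.trans (hQ.norm_le_norm_of_normal
      ((Oup_isProd hQ).sup_eq.ge.trans (sup_le (Oup_le_iff.2 fun y hy ho => ?_) le_normalizer)))⟩
  have ho := Nat.coprime_two_right.1 ho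
  exact le_norm_of_le_cent (le_cent_symm h.QO)
    (cent_of_odd_sq ho (sq_mem_O h.z2 (cent_of_odd_sq ho (sq y hy))))

variable (hs : Sol (H0 z))
include hs

theorem zp_le : zpowers (a * a) ≤ zpowers x :=
  zpowers_le.2 (h.mem_zp_of_sq (h.normQ hs).1 h.x_sq (mem_cent1.2 (zp_comm h.x_mem (mem_zpowers _))))

theorem cent_Q (hy : y ∈ 𝐂[x]) (ho : Odd (orderOf y)) : y ∈ 𝐂(S4 (a * a) (a * s)) := by
  have h1 : y ∈ 𝐂(zpowers (a * a)) := cent_anti (h.zp_le hs) (cent_zpowers x ▸ hy)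
  rw [cent_S4, ← cent_zpowers, ← cent_zpowers]
  refine ⟨h1, ?_⟩
  rcases (h.memQ h.inv).1 (conj_mem_of_norm ((h.normQ hs).2 (h.C_le hy)) (s_mem_S4 _ _)) with
    e | ⟨b, hb, e⟩
  · exact absurd (zp_sq_le a ((mem_norm_iff.1 (cent_le_norm _ h1) _).2 e)) h.as_not
  refine zpowers_le.2 (pow_cent1 (p := 4) h1 (fun c hc => ?_) ?_)
    (mem_zp_pow ((Nat.coprime_two_left.2 ho).pow_left 2))
  · obtain ⟨i, rfl⟩ := zp_nat hc
    rw [← pow_mul, mul_comm, pow_mul, show (a * a) ^ 4 = a * a * (a * a) * (a * a * (a * a)) by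
      simp only [pow_succ, pow_zero, one_mul, mul_assoc], (h.normQ hs).1, h.z2, one_pow]
  · rwa [e, zp_comm (mem_zpowers a) (zp_sq_le a hb), mul_assoc b, mul_inv_cancel_right]

theorem mem_O_x : ∀ y ∈ 𝐂[x], Odd (orderOf y) → y ∈ O 𝐂[z] := fun _ hy ho =>
  Opi_le_of_normal _ (normalIn_inf_cent (h.normQ hs).2) (Opi_le_Opi
    (inf_le_right.trans (cent_le_cent1 h.x_Q)) (fun _ hw => ⟨h.C_le (Opi_le _ _ hw),
      h.cent_Q hs (Opi_le _ _ hw) (odd_of_mem (odd_O _) hw)⟩) ((mem_O (pnil_of_cyc h.sylC)).2 ⟨hy, ho⟩))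

theorem card_four : ♯(𝐂[z] ⊓ 𝐂[s]) = 4 := by
  suffices O (𝐂[z] ⊓ 𝐂[s]) = ⊥ by rw [h.card_V, this, card_bot]
  refine eq_bot_iff.2 fun y hy => ?_
  obtain ⟨h1, h2⟩ := mem_inf.1 (Opi_le _ _ hy)
  have ho := odd_of_mem (odd_O _) hy
  rcases (h.memQ h.inv).1 (conj_mem_of_norm ((h.normQ hs).2 h1) h.x_Q) with e | ⟨b, hb, e⟩
  · exact h.O_inf ▸ mem_inf.2 ⟨h.mem_O_x hs y
      (mem_cent1.2 (comm_of_two (two_of_sq h.x_sq h.z2) ho (h.zp_le hs e))) ho, h2⟩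
  have e1 := conj_inv_conj' h.sx y
  rw [mem_cent1_iff_conj.1 h2, e, mul_inv_rev, inv_eq h.s2, mul_assoc, mul_assoc, h.s2, mul_one,
    mul_right_inj, eq_inv_iff_mul_eq_one] at e1
  have h3 := mul_mem (mem_zpowers a) (zp_sq_le a hb)
  refine absurd ((mul_mem_cancel_right hb).1 ?_) h.a_not
  by_cases e2 : a * b = 1
  · exact e2 ▸ one_mem _
  · exact h.eq_z h3 e2 e1 ▸ h.z_mem2 h.inv

theorem Oup_le : Oup 3 (H0 z) ≤ O 𝐂[z] ⊔ S4 a s := Oup_le_iff.2 fun y hy h3 => by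
  have hn := (OO.Oup_le 2 _).trans (h.normQ hs).2
  refine mem_of_constt_mem (π := {2}) (mem_sup_right (h.Q_le_S (h.sylQ.mem_of_mem_norm
    (constt_mem _ hy) (hn (constt_mem _ hy)) (piElt_constt _ _)))) (mem_sup_left (h.mem_O_x hs _
      (cent_le_cent1 h.x_Q (by_contra fun e => ?_)) (odd_constt y)))
  exact absurd (h3.symm.eq_one_of_dvd ((h.alm.aut h.sylQ.isPGroup
    (hn (constt_mem _ hy)) (odd_constt y) e).1.trans
      (orderOf_dvd_of_mem_zpowers (constt_mem_zpowers _ y)))) (by decide)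

theorem ti0 (hG : Hom G) : TI3 (H0 z) 𝐂[z] (Oup 3 (H0 z) ⊔ O 𝐂[z]) := by
  have := Fact.mk Nat.prime_three
  have h3 : ¬ 3 ∣ ♯(𝐂[z] ⊓ 𝐂[s]) := by rw [h.card_four hs]; decide
  have key := fun u => h.cent3_le (u := u) le_rfl (h.mem_O_x hs) hG h3
  have hn := Oup_normal 2 𝐂[z]
  obtain ⟨P, hP⟩ := exists_syl 3 (H0 z)
  have pr := Oup_isProd hP
  refine ⟨hn, h.index_H0, le_norm_sup (hn.norm.trans (norm_le_norm_Oup 3 _)) (Opi_normal _ _).norm,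
    sup_le (OO.Oup_le _ _) (Op'_le_Oup _ _), le_sup_of_le_left ?_, ?_, fun c hc hK g e => ?_,
    fun j hj j2 => mem_sup_left (mem_Oup hj (coprime3 (not_dvd_of_two (by decide) (two_elt j2))))⟩
  · rw [← ab_quo_iff (Oup_normal _ _).norm, pr.quo_left (Oup_normal _ _).norm]
    exact ab_quo (hG.ab_odd (by decide) hP.isPGroup) _
  · obtain ⟨c, hc, n, ⟨hn1, hn2⟩, e⟩ := (hP.frattini hn).mem_iff.1 h.sH
    obtain ⟨y, hy, e1⟩ := SetLike.not_le_iff_exists.1 fun e : P ≤ Oup 3 (H0 z) ⊔ O 𝐂[z] => h.as_not (by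
      have hN := h.le_cent.trans (Opi_normal ({2} : Set ℕ)ᶜ _).norm
      obtain ⟨-, g, hg, e1⟩ := h.exists_g
      obtain ⟨k, hk, c, hc, rfl⟩ := (mem_sup_norm_left hN).1 ((Oup_isProd (h.sylH h.inv)).sup_eq.ge.trans
        (sup_le (pr.sup_eq.ge.trans (sup_le (h.Oup_le hs) (e.trans (sup_le (h.Oup_le hs) le_sup_left))))
          le_sup_right) hg)
      have h1 : c * x * c⁻¹ ∈ zpowers (a * a) := conj_mem_of_norm (norm_le_norm_of_isCyclic
        inferInstance (zp_sq_le a) (S4_le.2 ⟨le_normalizer (mem_zpowers a), mem_norm_zp h.norm⟩ hc)) h.x_mem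
      rw [← e1, cj_mul, mem_cent_iff_conj.1 (le_cent_symm (zpowers_le.2 h.aO) hk) _ h1]
      exact zp_sq_le a h1)
    obtain ⟨d, hd, rfl⟩ := fpf_surj hn2 (eq_bot_iff.2 fun y hy => by_contra fun y1 => by
      obtain ⟨τ, hτ, h4⟩ := exists_order_mem Nat.prime_three
        (hP.isPGroup.to_le (zpowers_le.2 (mem_inf.1 hy).1)) y1
      obtain ⟨h5, h6⟩ := mem_inf.1 (zpowers_le.2 hy hτ)
      exact h.s_not (e ▸ mul_mem hc (key τ h4 (hn.le (hP.le h5)) (mem_cent1_comm.1 h6)))) hy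
    exact ⟨n⁻¹, inv_mem hn1, d⁻¹, inv_mem (hP.le hd), by
      rwa [← inv_mem_iff, show (n⁻¹⁻¹ * d⁻¹ * n⁻¹ * d⁻¹⁻¹)⁻¹ = d⁻¹ * (n * d * n⁻¹) by group]⟩
  · obtain ⟨τ, hτ, h4⟩ := cauchy (H := zpowers c) Nat.prime_three (by
      rw [Nat.card_zpowers]
      exact by_contra fun e => hK (mem_sup_left (mem_Oup hc (coprime3 e))))
    exact mem_cent1_iff_conj.2 (h.eq_z0 (key _ ((orderOf_conj g τ).trans h4)
      (hn.le (zpowers_le.2 e (conj_zpowers g c ▸ conj_mem_conj hτ))) (cent1_conj g τ ▸ conj_mem_conj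
        (mem_cent1_comm.1 (hn.le (zpowers_le.2 hc hτ))))) (conj_ne_one.2 h.z1) (conj_sq h.z2 g))

theorem sol_false (hG : Hom G) (hp : der (⊤ : Subgroup G) = ⊤) : False := by
  have hn := Oup_normal 2 𝐂[z]
  have h1 := h.ti.le_two (h.ti0 hs hG) hp h.one h.z1 h.z2 fun c hc hK g e => by
    have h1 := zpowers_le.2 e (conj_zpowers g c ▸ conj_mem_conj (h.x_mem_zp hc hK))
    have h2 := mul_mem h1 h1
    have h3 : g * c * g⁻¹ ∈ 𝐂[g * x * g⁻¹] := cent1_conj g x ▸ conj_mem_conj hc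
    have h4 : g * x * g⁻¹ * (g * x * g⁻¹) = z := by
      rw [conj_mul, h.x_sq] at h2 ⊢
      exact h.eq_z0 h2 (conj_ne_one.2 h.z1) (conj_sq h.z2 g)
    exact mem_of_constt_mem (mem_sup_left (mem_Oup (constt_mem _ e)
      (coprime3 (not_dvd_of_two (by decide) (two_constt _)))))
      (mem_sup_right (h.odd_mem le_rfl (h.mem_O_x hs) h4 (constt_mem _ h3) (odd_constt _)))
  have h2 := h.m_le
  have h3 := conj_subset_outInv hn le_rfl ⟨h.sH, h.s_not, h.s2⟩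
  have h4 := card_inf_mul_relIndex 𝐂[s] 𝐂[z]
  rw [inf_comm, h.card_four hs] at h4
  have h5 := h.card_H
  have h6 := card_mul_relIndex (cent_normal x).le
  rw [h.ti.two] at h6
  have h7 := card_mul_relIndex h.N_le
  have h8 : ¬ 2 ∣ 𝐍(zpowers x).relIndex 𝐂[z] := fun e => (h.sylH h.inv).not_dvd
    (e.trans (relIndex_dvd_of_le_left _ (S4_le.2 ⟨(cent_normal x).le h.a_C, h.s_N⟩)))
  have h9 : 𝐍(zpowers x).relIndex 𝐂[z] ≠ 1 := fun e => by
    obtain ⟨-, g, hg, e1⟩ := h.exists_g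
    exact h.as_not (zpowers_le.2 h.x_a (e1 ▸ conj_mem_of_norm (relIndex_eq_one.1 e hg) (mem_zpowers x)))
  have := Nat.mul_le_mul_left ♯𝐍(zpowers x) (by omega : 3 ≤ 𝐍(zpowers x).relIndex 𝐂[z])
  have c0 := card_pos' 𝐂[x]
  generalize (outInv (H0 z) 𝐂[z]).ncard = m' at *
  generalize (outInv 𝐂[x] 𝐍(zpowers x)).ncard = m at *
  generalize (𝐂[s]).relIndex 𝐂[z] = r at *
  generalize ♯𝐂[x] = c at *
  rw [show ♯(H0 z) = 2 * r by omega] at h1
  have e1 : r ^ 2 * c ≤ c ^ 2 * r := by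
    have := Nat.pow_le_pow_left h3 2
    have := Nat.pow_le_pow_left h2 2
    nlinarith
  have : c < r := by omega
  nlinarith [Nat.mul_pos c0 (c0.trans this)]

end Se

end Cfsg.Agent.HG
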