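import Cfsg.Agent.Lib.HG.SdB
import Cfsg.Agent.Lib.Cls.IdxTwo
import Cfsg.Agent.Lib.Lin.SL2

/-!
# Homogeneous simple groups do not have semidihedral Sylow 2-subgroups
-/

set_option autoImplicit false
set_option linter.unusedSectionVars false

namespace Cfsg.Agent.HG

open Subgroup Cfsg.Agent.OO Cfsg.Agent.Coprime GW ZG
open scoped commutatorElement Pointwise MatrixGroups

universe u

variable {G : Type u} [Group G] [Finite G] {C H K M N P X : Subgroup G}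
  {a b c g j m r s t u v w x y z ρ : G} {α : G ≃* G} {p : ℕ}

/-- a coprime direct product -/
structure Dp (N K : Subgroup G) : Prop where
  nN : N ⊴ ⊤
  nK : K ⊴ ⊤
  sup : N ⊔ K = ⊤
  odd : Odd ♯K
  cop : (♯K).Coprime ♯N

/-- the nonsolvable homogeneous groups -/
structure Ns (N K : Subgroup G) : Prop extends Dp N K where
  perf : der N = N
  quo : ∃ (L : Type u) (_ : Group L) (_ : Finite L) (f : N →* L), Function.Surjective f ∧ Gd L ∧
    f.ker ≤ center N ∧ IsPGroup 2 f.ker ∧ (f.ker = ⊥ ∨ Nonempty (N ≃* SL(2, ZMod 5)))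

variable (G) in
/-- the conclusion of the classification -/
def Cl : Prop := Sol (⊤ : Subgroup G) ∨ ∃ N K : Subgroup G, Ns N K

namespace Dp

variable (h : Dp N K)
include h

theorem cent : K ≤ 𝐂(N) := le_cent_of_coprime (le_top.trans h.nN.norm) (le_top.trans h.nK.norm) h.cop

theorem card : Nat.card G = ♯N * ♯K := by
  rw [← card_top, ← h.sup, card_sup_of_inf_eq_bot (.inl (le_top.trans h.nK.norm))
    (inf_eq_bot_of_coprime_card h.cop.symm)]

theorem mem (hy : (♯K).Coprime (orderOf y)) : y ∈ N := by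
  have := normalIn_top.1 h.nN
  refine zpowers_le.2 (N.pow_index_mem y) (mem_zp_pow ?_)
  rwa [Nat.eq_of_mul_eq_mul_left Nat.card_pos ((card_mul_index N).trans h.card)]

theorem mem_two (hy : IsPGroup 2 (zpowers y)) : y ∈ N :=
  h.mem (Nat.card_zpowers y ▸ (odd_cop h.odd hy).symm)

theorem rep (y : G) : ∃ n ∈ N, ∃ k ∈ K, n * k = y :=
  (mem_sup_norm_left (le_top.trans h.nN.norm)).1 (h.sup.ge (mem_top y))

theorem pres (α : G ≃* G) : Pres α N := pres_of fun y hy =>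
  h.mem ((α.orderOf_eq y).symm ▸ h.cop.coprime_dvd_right (orderOf_dvd_card hy))

theorem pres' (α : G ≃* G) : Pres α K := pres_of fun y hy => by
  have := normalIn_top.1 h.nK
  refine zpowers_le.2 (K.pow_index_mem (α y)) (mem_zp_pow ?_)
  rw [Nat.eq_of_mul_eq_mul_left Nat.card_pos ((card_mul_index K).trans (h.card.trans (mul_comm _ _))),
    α.orderOf_eq]
  exact h.cop.symm.coprime_dvd_right (orderOf_dvd_card hy)

end Dp

theorem Ns.sl (h : Ns N K) (z1 : z ≠ 1) (z2 : z * z = 1) (hz : 𝐂[z] = ⊤) (hx : x * x = z) (hc : 𝐂[x] ≠ ⊤) :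
    ♯N = 120 ∧ ∀ y ∈ 𝐂[x], Odd (orderOf y) → y ∈ K := by
  obtain ⟨L, _, _, f, hf, hL, h1, h2, h3⟩ := h.quo
  have := hL.smp
  have xN := h.mem_two (two_of_sq hx z2)
  have e : f ⟨x, xN⟩ * f ⟨x, xN⟩ = 1 := by_contra fun e => cent1_ne_top hL.nab e (eq_top_iff.2 fun g _ => by
    obtain ⟨g, rfl⟩ := hf g
    rw [mem_cent1, ← map_mul, ← map_mul, ← map_mul]
    exact congrArg f (Subtype.ext (by simpa [hx] using mem_cent1.1 (hz.ge (mem_top g.1)))))
  refine ⟨?_, fun y hy ho => ?_⟩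
  · obtain ⟨e'⟩ := h3.resolve_left fun e' => z1 (by
      rw [← map_mul, ← MonoidHom.mem_ker, e', mem_bot] at e
      exact hx ▸ congrArg Subtype.val e)
    have : Fact (Nat.Prime 5) := ⟨by norm_num⟩
    exact (Nat.card_congr e'.toEquiv).trans ((Lin.card_SL2 (F := ZMod 5)).trans (by rw [ZMod.card]))
  obtain ⟨n, hn, k, hk, rfl⟩ := h.rep y
  have h4 := cent_le_cent1 xN (h.cent hk)
  have h5 : Odd (orderOf n) := by
    have := (Commute.inv_right (mem_cent_iff.1 (h.cent hk) n hn) |>.mul_left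
      (Commute.refl k).inv_right).orderOf_mul_dvd_mul_orderOf
    rw [mul_inv_cancel_right, orderOf_inv] at this
    exact (ho.mul (odd_of_mem h.odd hk)).of_dvd_nat this
  have h6 : f ⟨n, hn⟩ = 1 := by_contra fun e' => not_odd (hL.c2 (fun e' => hc (eq_top_iff.2
    (h.sup.ge.trans (sup_le (fun g hg => mem_cent1.2 (congrArg Subtype.val
      (mem_center_iff.1 (h1 e') ⟨g, hg⟩))) (h.cent.trans (cent_le_cent1 xN)))))) e) (mem_cent1.2 (by
        rw [← map_mul, ← map_mul]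
        exact congrArg f (Subtype.ext (mem_cent1.1 ((mul_mem_cancel_right h4).1 hy))))) e'
    ((orderOf_mk n hn ▸ h5).of_dvd_nat (orderOf_map_dvd f _))
  obtain rfl : n = 1 := by_contra fun e => not_odd h2 h6 (by simpa using e) (orderOf_mk n hn ▸ h5)
  rwa [one_mul]

theorem ti_eqn (h : TI3 C N K) (h1 : OneCl G) (t1 : t ≠ 1) (t2 : t * t = 1) : ∃ d e : ℤ,
    d * (d + 1) * (Nat.card G * (outInv C N).ncard ^ 2) = ((𝐂[t]).index * (d - e)) ^ 2 * ♯C ∧
      e ^ 2 ≤ ♯𝐂[t] ∧ d * (d + 1) ∣ Nat.card G ∧ d * (d + 1) ≠ 0 := by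
  obtain ⟨θ, a1, a2, a3, a4, a5, -⟩ := h.exists_char
  have a7 := a4 1 fun g _ => by simp
  have a8 := a4 t fun g hg => h.inv _ hg (conj_sq t2 g)
  obtain ⟨v, w, hv, hw, -, -, -, rfl⟩ := R1.exists_dirr_of_norm_three a1 a2 a3
  have c1 := order_three h1 t1 t2 hv hw a7 a8
  obtain ⟨d, hd⟩ := Cint_vchar1 hv.vchar
  obtain ⟨e, he⟩ := Cint_vchar_of_pow (x := t) hv.vchar fun k hk => by
    rw [((mem_zp t2).1 (npow_mem_zpowers t k)).resolve_left fun e => by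
      rw [← orderOf_dvd_iff_pow_eq_one] at e
      exact t1 (orderOf_eq_one_iff.1 (hk.symm.eq_one_of_dvd e))]
  have hw1 : w 1 = (-(d + 1) : ℤ) := by
    simp only [Pi.add_apply, cf1E (mem_top _), hd] at a7
    push_cast
    linear_combination a7
  have c2 : (ODD.Invs G).ncard = (𝐂[t]).index := by
    rw [← relIndex_top_right, ← ncard_conj]
    refine congrArg _ (Set.ext fun y => ⟨fun hy => ?_, ?_⟩)
    · exact (isConj_iff.1 (h1 t y t1 t2 hy.1 hy.2)).imp fun g e => ⟨mem_top g, e⟩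
    · rintro ⟨g, -, rfl⟩
      exact ⟨conj_ne_one.2 t1, conj_sq t2 g⟩
  refine ⟨d, e, ?_, ?_, IsCoprime.mul_dvd ⟨-1, 1, by ring⟩
    (Int.natAbs_dvd.1 (Int.natCast_dvd_natCast.2 (IdxTwo.dirr_natAbs_dvd hv hd)))
    (neg_dvd.1 (Int.natAbs_dvd.1 (Int.natCast_dvd_natCast.2 (IdxTwo.dirr_natAbs_dvd hw hw1)))),
    mul_ne_zero (fun e => hv.one_ne_zero (by simp [hd, e])) fun e => hw.one_ne_zero (by simp [hw1, e])⟩
  · rw [hd, he, c2] at c1
    exact_mod_cast (by linear_combination ♯C * c1 - d * (d + 1) * a5 :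
      (d * (d + 1) * (Nat.card G * (outInv C N).ncard ^ 2) : ℂ) = ((𝐂[t]).index * (d - e)) ^ 2 * ♯C)
  · obtain ⟨c, hc, χ, hχ, rfl⟩ := hv.exists_sign
    have h2 := (Finset.single_le_sum (fun _ _ => sq_nonneg _) (mem_Irr.2 hχ)).trans_eq
      (sum_irr_norm_sq (mem_top t))
    have h3 : ‖χ t‖ = |(e : ℝ)| := by
      rw [← Complex.norm_intCast, ← he]
      rcases hc with rfl | rfl <;> simp
    rw [h3, sq_abs, top_inf_eq] at h2
    exact_mod_cast h2

theorem fin_check : ∀ i : Fin 681, 115200 % (((i : ℕ) - 340) ^ 2 : ℤ) = 0 → ∀ j : Fin 31,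
    let n : ℤ := 480 * ((i : ℕ) + (j : ℕ) - 355) * ((i : ℕ) + (j : ℕ) - 354) / ((i : ℕ) - 340) ^ 2
    n % 2 = 1 → n % 5 ≠ 0 → n % 3 = 0 → n % 9 ≠ 0 →
      n * ((i : ℕ) - 340) ^ 2 = 480 * ((i : ℕ) + (j : ℕ) - 355) * ((i : ℕ) + (j : ℕ) - 354) → n = 357 := by
  decide +kernel

theorem arith {n : ℕ} {d e : ℤ} (h1 : d * (d + 1) * ((240 * n : ℕ) * (4 : ℕ) ^ 2) = (n * (d - e)) ^ 2 * (8 : ℕ))
    (h2 : e ^ 2 ≤ (240 : ℕ)) (h3 : d * (d + 1) ∣ (240 * n : ℕ)) (h4 : d * (d + 1) ≠ 0) (n2 : ¬ 2 ∣ n)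
    (n5 : ¬ 5 ∣ n) (n3 : 3 ∣ n) (n9 : ¬ 9 ∣ n) : n = 357 := by
  push_cast at h1 h2 h3
  have e1 : n * (d - e) ^ 2 = 480 * d * (d + 1) :=
    mul_left_cancel₀ (by omega : (8 * n : ℤ) ≠ 0) (by linear_combination -h1)
  obtain ⟨k, hk⟩ := h3
  have e2 : 115200 = (d - e) ^ 2 * k := mul_left_cancel₀ h4 (by linear_combination (d - e) ^ 2 * hk - 240 * e1)
  have e3 := Int.le_of_dvd (by decide) ⟨k, e2⟩
  obtain ⟨i, hi⟩ := Int.eq_ofNat_of_zero_le (by nlinarith : 0 ≤ d - e + 340)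
  obtain ⟨j, hj⟩ := Int.eq_ofNat_of_zero_le (by nlinarith : 0 ≤ e + 15)
  have := fin_check ⟨i, by nlinarith⟩ (by
    rw [show ((i : ℕ) - 340 : ℤ) = d - e by omega, e2, Int.mul_emod_right]) ⟨j, by nlinarith⟩
  simp only [show ((i : ℕ) - 340 : ℤ) = d - e by omega, show ((i : ℕ) + (j : ℕ) - 355 : ℤ) = d by omega,
    show ((i : ℕ) + (j : ℕ) - 354 : ℤ) = d + 1 by omega, ← e1] at this
  rw [Int.mul_ediv_cancel _ fun e => by simp [e] at e2] at this
  omega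

theorem not_85680 (hG : Nat.card G = 85680)
    (h : ∀ y : G, ∀ w ∈ 𝐂[y], orderOf y = 2 ∨ orderOf y = 3 → orderOf w ∣ 720) : False := by
  have : Fact (Nat.Prime 7) := ⟨by norm_num⟩
  have : Fact (Nat.Prime 17) := ⟨by norm_num⟩
  obtain ⟨y, hy⟩ := exists_prime_orderOf_dvd_card' (G := G) 7 (hG ▸ by norm_num)
  have h7 : ♯(zpowers y) = 7 := by rw [Nat.card_zpowers, hy]
  obtain ⟨n, h1, h2⟩ := Ord1092.exists_count (p := 7) (K := ⊤) ⟨le_top, IsPGroup.of_card (n := 1) h7, by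
    rw [relIndex_top_right, show (zpowers y).index = 12240 by
      have := card_mul_index (zpowers y); rw [h7, hG] at this; omega]; decide⟩
  have h3 := Ord1092.relIndex_cent_dvd (P := zpowers y) inferInstance
  have h4 := card_mul_relIndex (cent_normal y).le
  obtain ⟨c, hc⟩ := card_dvd (zpowers_le.2 (mem_cent1_self y))
  rw [h7, cent_zpowers, show Nat.totient 7 = 6 by decide] at *
  rw [inf_top_eq, card_top, hG, ← h4, hc] at h2
  have key : ∀ q, q.Prime → q = 2 ∨ q = 3 → ¬ q ∣ c := fun q hq e hd => by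
    obtain ⟨w, hw, e'⟩ := cauchy hq (hc ▸ hd.mul_left 7)
    exact absurd (hy ▸ h w y (mem_cent1_comm.1 hw) (e' ▸ e)) (by decide)
  have h5 : c ∣ 85 := (((Nat.prime_two.coprime_iff_not_dvd.2 (key 2 Nat.prime_two (.inl rfl))).pow_left 4).mul_left
    ((Nat.prime_three.coprime_iff_not_dvd.2 (key 3 Nat.prime_three (.inr rfl))).pow_left 2)).symm.dvd_of_dvd_mul_left
      ⟨(𝐂[y]).relIndex 𝐍(zpowers y) * n, by linarith⟩
  obtain ⟨rfl, e⟩ : c = 17 ∧ (𝐂[y]).relIndex 𝐍(zpowers y) = 6 := by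
    generalize (𝐂[y]).relIndex 𝐍(zpowers y) = r at h2 h3
    have := Nat.le_of_dvd (by decide) h5
    have := Nat.le_of_dvd (by decide) h3
    interval_cases r <;> interval_cases c <;> omega
  obtain ⟨g, hg, g3⟩ := cauchy (H := 𝐍(zpowers y)) Nat.prime_three (by rw [← h4, e, hc]; decide)
  obtain ⟨R, hR, h6⟩ := exists_invariant_sylow 17 (zpowers_le.2 ((cent_normal y).norm hg))
    (by rw [Nat.card_zpowers, g3, hc]; decide) (.inl (sol_of_ab (ab_of_isCyclic inferInstance)))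
  obtain ⟨w, hw, e'⟩ := cauchy this.out (hR.dvd_card_iff.2 (hc ▸ by decide))
  have h9 := card_mul_relIndex (zpowers_le.2 (hR.le hw))
  rw [Nat.card_zpowers, e', hc] at h9
  have h8 : R = zpowers w := IsSylowIn.eq_of_le ⟨zpowers_le.2 (hR.le hw),
    isPGroup_zpowers_iff.2 (pelt_of_order e'), by omega⟩ (zpowers_le.2 hw) hR.le hR.isPGroup
  refine absurd (e' ▸ h g w (mem_cent1_comm.1 (by_contra fun e => absurd (e' ▸ dvd_sub_one (e' ▸ this.out)
    Nat.prime_three (isPGroup_zpowers_iff.2 (pelt_of_order g3))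
    (conj_mem_of_norm (h8 ▸ zpowers_le.1 h6) (mem_zpowers w)) e) (by decide))) (.inr g3)) (by decide)

namespace Se

variable (h : Se a s z x) (hG : Hom G)
include h hG

theorem ns_facts {N K : Subgroup (H0 z)} (hN : Ns N K) : ∃ M ≤ O 𝐂[z], ♯(H0 z) = 120 * ♯M ∧ ¬ 3 ∣ ♯M ∧
    (∀ u ∈ H0 z, orderOf u = 3 → M ≤ 𝐂[u]) ∧ (∀ y ∈ 𝐂[x], Odd (orderOf y) → y ∈ M) ∧
    ¬ PNil 3 (H0 z) := by
  have := Fact.mk Nat.prime_three
  have hx := h.mem_H0' h.x_sq
  obtain ⟨c1, c2⟩ := hN.sl (z := ⟨z, h.z_H0⟩) (x := ⟨x, hx⟩) (by simpa using h.z1) (Subtype.ext h.z2)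
    (eq_top_iff.2 fun g _ => mem_cent1.2 (Subtype.ext (mem_cent1.1 (OO.Oup_le _ _ g.2))))
    (Subtype.ext h.x_sq) fun e => h.s_C ((mul_mem_cancel_left h.a_C).1 (mem_cent1.2 (congrArg Subtype.val
      (mem_cent1.1 (e.ge (mem_top ⟨_, h.mem_H0' h.as_sq⟩))))))
  have e := card_map_of_injective (K := K) (H0 z).subtype_injective
  have h3 : ¬ 3 ∣ ♯K := fun e => absurd (Nat.eq_one_of_dvd_coprimes hN.cop e (c1 ▸ by decide)) (by decide)
  have := normalIn_top.1 hN.nK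
  refine ⟨K.map (H0 z).subtype, (le_O (normalIn_map_subtype K) (e ▸ hN.odd)).trans
    (Opi_le_of_normal _ (Oup_normal _ _)), by rw [e, hN.card, c1], e ▸ h3, ?_, fun y hy ho => ?_,
    fun e => ?_⟩
  · rintro u hu u3 _ ⟨k, hk, rfl⟩
    exact mem_cent1.2 (congrArg Subtype.val (mem_cent_iff.1 (hN.cent hk) ⟨u, hu⟩
      (hN.mem (by rw [orderOf_mk, u3]; exact coprime3 h3))).symm)
  · exact ⟨⟨y, mem_H0 (h.C_le hy) ho⟩, c2 _ (mem_cent1.2 (Subtype.ext (mem_cent1.1 hy)))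
      (by rwa [orderOf_mk]), rfl⟩
  · have e := e.of_le (map_subtype_le N)
    obtain ⟨P, hP⟩ := exists_syl 3 (N.map (H0 z).subtype)
    have := (e.sdprod hP).der_le_of_ab (hG.ab_odd (by decide) hP.isPGroup)
    rw [← map_der, hN.perf] at this
    refine not_dvd_Op' _ (dvd_trans ?_ (card_dvd this))
    rw [card_map_of_injective (H0 z).subtype_injective, c1]
    decide

theorem ns_false {N K : Subgroup (H0 z)} (hN : Ns N K) : False := by
  have := Fact.mk Nat.prime_three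
  obtain ⟨M, hM, c1, c2, c3, hX, c5⟩ := h.ns_facts hG hN
  have hn := Oup_normal 2 𝐂[z]
  obtain ⟨u, hu, uz, r3, hy⟩ := h.rot3 hG (by_contra fun h3 => by
    obtain ⟨u, hu, u3⟩ := cauchy (H := H0 z) Nat.prime_three (by omega)
    have e := card_mul_relIndex (zpowers_le.2 hu)
    rw [Nat.card_zpowers, u3, c1] at e
    have hP : Syl 3 (zpowers u) (H0 z) :=
      ⟨zpowers_le.2 hu, isPGroup_zpowers_iff.2 (pelt_of_order u3), by omega⟩
    have key := h.cent3_le hM hX hG h3 u3 (hn.le hu)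
    obtain ⟨c, hc, r, ⟨-, hr⟩, e⟩ := (hP.frattini hn).mem_iff.1 h.sH
    have h1 : r ∉ H0 z := fun e' => h.s_not (e ▸ mul_mem hc e')
    refine c5 (Cyc.pnil_of hP inferInstance (mem_zpowers u) (σ1 u3) fun n h2 h4 => by_contra fun e' => ?_)
    exact h1 ((mul_mem_cancel_right h2).1 (key (mul_mem_of_two (index_two (by rw [u3]; rfl) h4 e') hr
      (fun e => h1 (key e)) h4 e'))))
  obtain rfl : M = ⊥ := eq_bot_iff.2 fun y e => h.O_inf ▸ mem_inf.2 ⟨hM e, hy y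
    (c3 u (mem_H0 uz (σ_odd hu)) hu e) (odd_of_mem (odd_O _) (hM e))
      fun e' => c2 (e'.trans (orderOf_dvd_card e))⟩
  have d1 := h.card_H
  rw [c1, card_bot] at d1
  have d2 : zpowers a = 𝐂[x] := ((pnil_of_cyc h.sylC).sdprod h.sylC).right_eq_iff.2
    (eq_bot_iff.2 fun y e => hX y (Opi_le _ _ e) (odd_of_mem (odd_O _) e))
  obtain ⟨k, hk⟩ := IsPGroup.iff_card.1 h.two
  have d3 := card_mul_relIndex (cent_normal x).le
  have d4 := card_mul_relIndex h.N_le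
  have d5 : ¬ 2 ∣ 𝐍(zpowers x).relIndex 𝐂[z] := fun e => (h.sylH h.inv).not_dvd
    (e.trans (relIndex_dvd_of_le_left _ (S4_le.2 ⟨(cent_normal x).le h.a_C, h.s_N⟩)))
  rw [h.ti.two, ← d2, hk] at d3
  rw [d1, ← d3] at d4
  obtain rfl : k = 3 := by
    have : k < 4 := by_contra fun e => absurd ((mul_dvd_mul_right (pow_dvd_pow 2 (not_lt.1 e)) 2).trans
      ⟨_, d4.symm⟩) (by decide)
    interval_cases k <;> omega
  rw [d2] at hk
  have d6 : (outInv 𝐂[x] 𝐍(zpowers x)).ncard = 4 := by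
    have h1 := h.m_le
    have h2 := conj_subset_outInv (cent_normal x) le_rfl ⟨h.s_N, h.s_C, h.s2⟩
    have h3 := card_inf_mul_relIndex 𝐂[s] 𝐍(zpowers x)
    have h4 := Nat.mul_le_mul_right ((𝐂[s]).relIndex 𝐍(zpowers x)) (h.pair.card ▸ card_le
      (fun y hy => h.mem_four h.pair (two_zp (IsPGroup.of_card (n := 4) d3.symm) hy.2)
        (mem_cent1.1 (h.N_le hy.2)) (mem_cent1.1 hy.1) : 𝐂[s] ⊓ 𝐍(zpowers x) ≤ S4 z s))
    omega
  obtain ⟨d, e, e1, e2, e3, e4⟩ := ti_eqn h.ti h.one h.z1 h.z2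
  have d7 := card_mul_index 𝐂[z]
  rw [d1] at d7 e2
  rw [← d7] at e1 e3
  rw [d6, hk] at e1
  obtain ⟨y, y5, oy⟩ := cauchy (H := 𝐂[z]) Nat.prime_five (by rw [d1]; decide)
  have := Fact.mk Nat.prime_five
  have d8 := card_inf_mul_relIndex 𝐂[z] 𝐂[u]
  obtain ⟨c, hc⟩ := d1 ▸ card_dvd (inf_le_left : 𝐂[z] ⊓ 𝐂[u] ≤ _)
  obtain ⟨c', hc'⟩ := hu ▸ orderOf_dvd_card (mem_inf.2 ⟨uz, mem_cent1_self u⟩)
  have d9 := card_mul_index 𝐂[u]
  rw [r3] at d8
  have n9 : ¬ 3 ∣ (𝐂[u]).index := fun e => by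
    obtain ⟨P, hP, hu'⟩ := exists_syl_ge le_top (isPGroup_zpowers_iff.2 (pelt_of_order hu))
    exact hP.not_dvd (e.trans (relIndex_top_right P ▸ index_dvd_of_le
      ((hG.ab_odd (by decide) hP.isPGroup).le_cent.trans (cent_le_cent1 (zpowers_le.1 hu')))))
  have := arith e1 e2 e3 e4 (fun e => h.syl.not_dvd (e.trans
    (relIndex_top_right (S4 a s) ▸ index_dvd_of_le h.le_cent)))
    (h.not_dvd_index hG (by decide) (by decide) y5 oy) (by
      rw [← d8, hc', ← d7] at d9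
      have : 9 ∣ 240 * (𝐂[z]).index := ⟨c' * (𝐂[u]).index, by linarith⟩
      omega) fun e => by
    rw [← d8, hc', ← d7] at d9
    have h1 : ¬ 3 ∣ c' := fun ⟨i, hi⟩ => by
      have : 9 ∣ 240 := ⟨i * c, by rw [show 240 = 120 * 1 * 2 from rfl, hc, hc', hi]; ring⟩
      omega
    obtain ⟨i, hi⟩ := e
    exact (Nat.prime_three.dvd_mul.1 (⟨80 * i, by nlinarith⟩ : 3 ∣ c' * (𝐂[u]).index)).elim h1 n9
  refine not_85680 (by rw [← d7, this]) fun y w hw e => (orderOf_dvd_card hw).trans ?_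
  rcases e with e | e
  · obtain ⟨g, rfl⟩ := isConj_iff.1 (h.one z y h.z1 h.z2 (fun e' => by simp [e'] at e)
      (by rw [← sq, ← e, pow_orderOf_eq_one]))
    rw [cent1_conj, card_conj, d1]
    decide
  · obtain ⟨α, rfl⟩ := hG.cyc (hu.trans e.symm)
    have := card_inf_cent1 (K := ⊤) (α := α) (fun _ => Iff.rfl) u
    rw [top_inf_eq, top_inf_eq] at this
    exact ⟨c, by rw [this, ← d8]; linarith⟩

end Se

/-- simple homogeneous groups -/
theorem Hom.simple [IsSimpleGroup G] (hG : Hom G) (hna : ¬ IsMulCommutative G)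
    (ih : ∀ H : Subgroup G, H ≠ ⊤ → Hom H → Cl H) : Gd G := by
  obtain ⟨a, s, z, h, h1⟩ := (hG.alm hna).exists_tw hna
  refine hG.gd hna h h1 (h.act.resolve_right fun e => ?_)
  obtain ⟨x, h⟩ := hG.se hna h h1 e
  rcases ih _ (fun e => h.s_not (e.ge (mem_top s))) (h.hom0 hG) with e | ⟨N, K, e⟩
  · exact h.sol_false (Group.isSolvable_of_surjective (f := (⊤ : Subgroup (H0 z)).subtype)
      fun y => ⟨⟨y, trivial⟩, rfl⟩) hG
      (smp_top.perfect fun e => not_sol' hna (sol_of_ab e))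
  · exact h.ns_false hG e

end Cfsg.Agent.HG
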