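import Cfsg.Agent.Lib.HG.Dih
import Cfsg.Agent.Lib.ZG.SD4

/-!
# Semidihedral Sylow 2-subgroups: the local analysis of `ZG` without cyclicity
-/

set_option autoImplicit false
set_option linter.unusedSectionVars false

namespace Cfsg.Agent.HG

open Subgroup Cfsg.Agent.OO Cfsg.Agent.Coprime GW ZG
open scoped commutatorElement Pointwise

universe u

variable {G : Type u} [Group G] [Finite G] {K M X : Subgroup G} {a b c g j m r s t v w x y z : G}

/-- semidihedral Sylow 2-subgroups -/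
structure Se (a s z x : G) : Prop extends Tw a s z where
  alm : Alm G
  nb : NB G
  one : OneCl G
  inv : s * a * s⁻¹ = a⁻¹ * z
  aO : a * a ∈ 𝐂(O 𝐂[z])
  x_mem : x ∈ zpowers (a * a)
  conj : IsConj x (a * s)

theorem exists_se (h : Tw a s z) (hi : s * a * s⁻¹ = a⁻¹ * z) (hA : Alm G) (hN : NB G) (hO : a * a ∈ 𝐂(O 𝐂[z]))
    (h1 : OneCl G) (hp : der (⊤ : Subgroup G) = ⊤) : ∃ x, Se a s z x := by
  have hD : ∀ {y}, y ∈ S4 (a * a) s ↔ y ∈ zpowers (a * a) ∨ y * s ∈ zpowers (a * a) :=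
    mem_S4_iff (h.inv2 hi (mem_zpowers _) ▸ inv_mem (mem_zpowers _)) h.s2
  have o2 : ∀ y ∈ S4 (a * a) s, orderOf y ∣ orderOf (a * a) := fun y hy => by
    rcases hD.1 hy with e | e
    · exact orderOf_dvd_of_mem_zpowers e
    · have := h.bs_sq hi e
      rw [mul_assoc y, h.s2, mul_one] at this
      exact (orderOf_dvd_of_pow_eq_one (by rwa [sq])).trans
        (orderOf_eq_two h.z2 h.z1 ▸ orderOf_dvd_of_mem_zpowers (h.z_mem2 hi))
  have a2 : a ∉ zpowers (a * a) := fun e => by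
    rw [← sq, mem_zpowers_pow_iff] at e
    exact not_odd h.two (mem_zpowers a) (fun e => h.ne4 hi (by simp [e])) (Nat.coprime_two_left.1 e)
  have key : ∀ y ∈ S4 (a * a) s, ∀ w ∈ S4 a s, w ∉ S4 (a * a) s → IsConj y w → ∃ x, Se a s z x := by
    intro y hy w hw hw' e
    rcases h.cases hw with e1 | ⟨b, hb, rfl | rfl⟩
    · have e2 := (zp_cases e1).resolve_left fun e => hw' (hD.2 (Or.inl e))
      obtain ⟨g, hg⟩ := isConj_iff.1 e
      have e3 := orderOf_dvd_iff_pow_eq_one.1 (orderOf_conj g y ▸ o2 y hy)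
      rw [hg, ← mul_inv_cancel_left a w, (Cls.commute_of_mem_zpowers (mem_zpowers a)
        (zp_sq_le a e2)).mul_pow, orderOf_dvd_iff_pow_eq_one.1 (orderOf_dvd_of_mem_zpowers e2),
        mul_one] at e3
      exact absurd (zp_eq_of_orderOf (mem_zpowers a) (zp_sq_le a (mem_zpowers _)) (Nat.dvd_antisymm
        (orderOf_dvd_of_pow_eq_one e3) (sq a ▸ orderOf_pow_dvd 2)) ▸ mem_zpowers a) a2
    · exact absurd (mul_mem (le_sup_left (a := zpowers _) hb) (s_mem_S4 _ _)) hw'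
    obtain ⟨c, hc, e1⟩ := h.conj_bs hi hb
    refine ⟨y, h, hA, hN, h1, hi, hO, (hD.1 hy).resolve_right fun e2 => h.z1 ?_, e.trans ?_⟩
    · obtain ⟨g, hg⟩ := isConj_iff.1 e
      have := h.bs_sq hi e2
      rw [mul_assoc y, h.s2, mul_one] at this
      rw [← h.abs_sq hi hb, ← hg, conj_sq this]
    · refine (isConj_iff.2 ⟨c, ?_⟩).symm
      rw [mul_assoc a, ← e1, ← mul_assoc c, zp_comm hc (mem_zpowers a)]
      group
  have out : ∀ y ∈ S4 a s, y ∉ S4 (a * a) s → a⁻¹ * y ∈ S4 (a * a) s := fun y hy e => by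
    rcases h.cases hy with e1 | ⟨b, hb, rfl | rfl⟩
    · exact hD.2 (Or.inl ((zp_cases e1).resolve_left fun e1 => e (hD.2 (Or.inl e1))))
    · exact absurd (mul_mem (le_sup_left (a := zpowers _) hb) (s_mem_S4 _ _)) e
    · rw [mul_assoc a, inv_mul_cancel_left]
      exact mul_mem (le_sup_left (a := zpowers _) hb) (s_mem_S4 _ _)
  by_contra hx
  have := focal_subgroup_gen h.syl
  rw [hp, inf_top_eq] at this
  have : S4 a s ≤ S4 (a * a) s := this ▸ (closure_le _).2 (by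
    rintro _ ⟨y, hy, g, -, hg, rfl⟩
    have c := isConj_iff.2 ⟨g, (rfl : g * y * g⁻¹ = _)⟩
    by_cases e : y ∈ S4 (a * a) s
    · exact mul_mem (inv_mem e) (by_contra fun e' => hx (key y e _ hg e' c))
    have := mul_mem (inv_mem (out y hy e)) (out _ hg fun e' => hx (key _ e' y hy e c.symm))
    rwa [mul_inv_rev, inv_inv, mul_assoc, mul_inv_cancel_left] at this)
  exact (hD.1 (this (t_mem_S4 a s))).elim a2 fun e =>
    h.sa ((mul_mem_cancel_left (mem_zpowers a)).1 (zp_sq_le a e))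

namespace Se

variable (h : Se a s z x)
include h

theorem ne : a * a ≠ 1 := fun e => h.ne4 h.inv (by rw [e, mul_one])

theorem as_sq : a * s * (a * s) = z := by simpa using h.abs_sq h.inv (one_mem _)

theorem x_a : x ∈ zpowers a := zp_sq_le a h.x_mem

theorem exists_g : x * x = z ∧ ∃ g ∈ 𝐂[z], g * x * g⁻¹ = a * s := by
  obtain ⟨g, hg⟩ := isConj_iff.1 h.conj
  have e : g * (x * x) * g⁻¹ = z := by rw [← conj_mul, hg, h.as_sq]
  have e1 : x * x = z := h.eq_z (mul_mem h.x_a h.x_a) (fun e' => h.z1 (by simpa [e'] using e.symm))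
    (by simpa [← e] using h.z2)
  exact ⟨e1, g, mem_cent1_iff_conj.2 (e1 ▸ e1 ▸ e), hg⟩

theorem x_sq : x * x = z := h.exists_g.1

theorem sx : s * x * s⁻¹ = x⁻¹ := h.inv2 h.inv h.x_mem

theorem aH : a ∈ 𝐂[z] := h.le_cent (t_mem_S4 a s)

theorem sH : s ∈ 𝐂[z] := h.le_cent (s_mem_S4 a s)

theorem sz_ne : s ≠ z := fun e => h.sa (e ▸ h.z_mem)

/-- all elements of order four are conjugate -/
theorem conj_x (ht : t * t = z) : ∃ g ∈ 𝐂[z], g * x * g⁻¹ = t := by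
  obtain ⟨g, hg, e⟩ := (h.sylH h.inv).exists_conj_le (zpowers_le.2 (cent_of_sq ht))
    (two_of_sq ht h.z2)
  have e2 : g * t * g⁻¹ * (g * t * g⁻¹) = z := by rw [conj_mul, ht, mem_cent1_iff_conj.1 hg]
  suffices ∃ k ∈ 𝐂[z], k * x * k⁻¹ = g * t * g⁻¹ by
    obtain ⟨k, hk, e⟩ := this
    refine ⟨g⁻¹ * k, mul_mem (inv_mem hg) hk, ?_⟩
    rw [mul_inv_rev, mul_assoc g⁻¹, mul_assoc g⁻¹, ← mul_assoc (k * x), e]
    group
  replace e := e (conj_mem_conj (mem_zpowers t))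
  generalize g * t * g⁻¹ = t at e e2
  rcases h.cases e with e | ⟨b, hb, rfl | rfl⟩
  · by_cases e1 : t * x = 1
    · exact ⟨s, h.sH, h.sx.trans (eq_inv_of_mul_eq_one_left e1).symm⟩
    · refine ⟨1, one_mem _, mul_right_cancel (b := x) ?_⟩
      rw [h.eq_z (mul_mem e h.x_a) e1 (by
        rw [(Cls.commute_of_mem_zpowers h.x_a e).mul_mul_mul_comm, e2, h.x_sq, h.z2])]
      simpa using h.x_sq
  · exact absurd (e2.symm.trans (h.bs_sq h.inv hb)) h.z1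
  · obtain ⟨c, hc, e1⟩ := h.conj_bs h.inv hb
    obtain ⟨-, k, hk, e3⟩ := h.exists_g
    refine ⟨c * k, mul_mem (h.le_cent (Tw.le hc)) hk, ?_⟩
    rw [mul_inv_rev, mul_assoc c, mul_assoc c, ← mul_assoc (k * x), e3, mul_assoc a b, ← e1,
      ← mul_assoc c, ← mul_assoc c, zp_comm hc (mem_zpowers a)]
    group

theorem Q_le : S4 (a * a) (a * s) ≤ der 𝐂[z] ⊓ H0 z := by
  obtain ⟨-, g, hg, e⟩ := h.exists_g
  obtain ⟨k, hk, c, hc, rfl⟩ := (Oup_isProd (h.sylH h.inv)).mem_iff.1 hg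
  have h1 : c * x * c⁻¹ ∈ zpowers (a * a) := conj_mem_of_norm (norm_le_norm_of_isCyclic inferInstance
    (zp_sq_le a) (S4_le.2 ⟨le_normalizer (mem_zpowers a), mem_norm_zp h.norm⟩ hc)) h.x_mem
  have h2 := h.le_cent (Tw.le (zp_sq_le a h1))
  have hM := (der_normal 𝐂[z]).inf (Oup_normal 2 𝐂[z])
  have h3 : a * s * (c * x * c⁻¹)⁻¹ ∈ der 𝐂[z] ⊓ H0 z := by
    rw [← e, show k * c * x * (k * c)⁻¹ * (c * x * c⁻¹)⁻¹ = ⁅k, c * x * c⁻¹⁆ by
      rw [commutatorElement_def]; group]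
    refine ⟨commutator_mem_commutator (Oup_le _ _ hk) h2, ?_⟩
    rw [commutatorElement_def, mul_assoc, mul_assoc, ← mul_assoc (c * x * c⁻¹)]
    exact mul_mem hk ((Oup_normal _ _).conj_mem h2 (inv_mem hk))
  have h4 := h.sq_mem_of h.inv hM h3 (mul_mem (mul_mem (t_mem_S4 a s) (s_mem_S4 a s))
    (inv_mem (Tw.le (zp_sq_le a h1)))) (by
      rw [mul_mem_cancel_right (inv_mem (zp_sq_le a h1)), mul_mem_cancel_left (mem_zpowers a)]
      exact h.sa)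
  exact S4_le.2 ⟨h4, (mul_mem_cancel_right (inv_mem (zpowers_le.2 h4 h1))).1 h3⟩

theorem x_Q : x ∈ S4 (a * a) (a * s) := le_sup_left (a := zpowers _) h.x_mem

theorem mem_der (ht : t * t = z) : t ∈ der 𝐂[z] ⊓ H0 z := by
  obtain ⟨g, hg, rfl⟩ := h.conj_x ht
  exact ((der_normal 𝐂[z]).inf (Oup_normal 2 𝐂[z])).conj_mem hg (h.Q_le h.x_Q)

theorem cent_O (ht : t * t = z) : t ∈ 𝐂(O 𝐂[z]) := by
  obtain ⟨g, hg, rfl⟩ := h.conj_x ht
  exact cent_O_conj hg (zpowers_le.2 h.aO h.x_mem)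

theorem O_inf : O 𝐂[z] ⊓ 𝐂[s] = ⊥ := eq_bot_iff.2 fun y hy => by
  have e := mem_cent_iff.1 (h.cent_O h.as_sq) y hy.1
  rw [mul_assoc, ← mem_cent1.1 hy.2, ← mul_assoc, ← mul_assoc, mul_left_inj] at e
  exact h.eq_one_of_odd h.alm h.nb h.ne (odd_of_mem (odd_O _) hy.1) e (mem_cent1.1 hy.2)

theorem inv_O (hj : j ∈ 𝐂[z]) (j1 : j ≠ 1) (j2 : j * j = 1) (jz : j ≠ z) (hy : y ∈ O 𝐂[z]) :
    j * y * j⁻¹ = y⁻¹ := by
  obtain ⟨g, hg, rfl⟩ := h.conj_s h.inv hj j1 j2 jz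
  have := conj_inv_conj' (conj_eq_inv h.s2 ((Opi_normal _ _).norm h.sH) h.O_inf
    ((Opi_normal _ _).conj_mem (inv_mem hg) hy)) g
  simpa [mul_assoc] using this

theorem eq_z_of_Q (hj : j ∈ S4 (a * a) (a * s)) (j1 : j ≠ 1) (j2 : j * j = 1) : j = z := by
  rcases (h.memQ h.inv).1 hj with e | ⟨b, hb, rfl⟩
  · exact h.eq_z (zp_sq_le a e) j1 j2
  · exact absurd ((h.abs_sq h.inv hb).symm.trans j2) h.z1

theorem Q_le_S : S4 (a * a) (a * s) ≤ S4 a s :=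
  S4_le.2 ⟨mul_mem (t_mem_S4 a s) (t_mem_S4 a s), mul_mem (t_mem_S4 a s) (s_mem_S4 a s)⟩

theorem mem_Q (hy : y ∈ S4 a s) : y * s ∈ S4 (a * a) (a * s) ∨ y ∈ S4 (a * a) (a * s) := by
  simp only [h.memQ h.inv]
  rcases h.cases hy with e | ⟨b, hb, rfl | rfl⟩
  · exact (zp_cases e).symm.imp (fun e => Or.inr ⟨_, e, by group⟩) Or.inl
  · exact Or.inl (Or.inl (by rwa [mul_assoc, h.s2, mul_one]))
  · exact Or.inr (Or.inr ⟨b, hb, rfl⟩)

theorem s_not : s ∉ H0 z := fun hs => by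
  have hQ := h.Q_le_S.trans h.le_cent
  obtain ⟨N, hN, h2, h3⟩ := Transfer.thompson_transfer (M := (S4 (a * a) (a * s)).subgroupOf 𝐂[z])
    (t := ⟨s, h.sH⟩) (by
      change Odd (relIndex _ _ / 2)
      rw [← relIndex_mul_relIndex _ _ _ h.Q_le_S h.le_cent,
        relIndex_eq_two_iff_exists_notMem_and.2 ⟨s, s_mem_S4 a s,
          fun e => h.sz_ne (h.eq_z_of_Q e h.s1 h.s2), fun _ => h.mem_Q⟩,
        Nat.mul_div_cancel_left _ two_pos]
      exact Nat.odd_iff.2 (Nat.two_dvd_ne_zero.1 (h.sylH h.inv).not_dvd))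
    (Subtype.ext (by simpa [sq] using h.s2)) fun g e => h.sz_ne (by
      have := h.eq_z_of_Q (j := (g : G)⁻¹ * s * g) e (conj_ne_one'.2 h.s1) (by simpa using conj_sq h.s2 (g : G)⁻¹)
      rw [mul_assoc, inv_mul_eq_iff_eq_mul, mem_cent1.1 g.2] at this
      exact mul_right_cancel this)
  have := Oup_le_of_normal (p := 2) (normalIn_map_subtype N).norm (by
    rw [relIndex_map_subtype, h2]
    exact (isPiNum_prime Nat.prime_two).2 rfl) hs
  exact h3 ((mem_map_iff_mem (subtype_injective _)).1 this)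

theorem index_H0 : (H0 z).relIndex 𝐂[z] = 2 :=
  relIndex_eq_two_iff_exists_notMem_and.2 ⟨s, h.sH, h.s_not, fun g hg => by
    obtain ⟨k, hk, c, hc, rfl⟩ := (Oup_isProd (h.sylH h.inv)).mem_iff.1 hg
    rw [mul_assoc]
    exact (h.mem_Q hc).imp (fun e => mul_mem hk (h.Q_le e).2) fun e => mul_mem hk (h.Q_le e).2⟩

theorem sylQ : Syl 2 (S4 (a * a) (a * s)) (H0 z) := by
  convert (h.sylH h.inv).inf_normal (Oup_normal 2 _)
  exact le_antisymm (le_inf h.Q_le_S (h.Q_le.trans inf_le_right)) fun y hy =>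
    (h.mem_Q hy.1).resolve_left fun e => h.s_not ((mul_mem_cancel_left (mem_inf.1 hy).2).1 (h.Q_le e).2)

theorem not_mem_H0 (hj : j ∈ 𝐂[z]) (j1 : j ≠ 1) (j2 : j * j = 1) (jz : j ≠ z) : j ∉ H0 z := fun e => by
  obtain ⟨g, hg, rfl⟩ := h.conj_s h.inv hj j1 j2 jz
  exact h.s_not ((mem_norm_iff.1 ((Oup_normal _ _).norm hg) s).2 e)

theorem mem_H0' (ht : t * t = z) : t ∈ H0 z := (h.mem_der ht).2

theorem z_H0 : z ∈ H0 z := by
  simpa only [h.x_sq] using mul_mem (h.mem_H0' h.x_sq) (h.mem_H0' h.x_sq)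

theorem pair_conj (p : Pair X t v) : ∃ g, g * z * g⁻¹ = t ∧ g * s * g⁻¹ = v := by
  obtain ⟨g, rfl⟩ := isConj_iff.1 (h.one z t h.z1 h.z2 p.t_ne p.t_sq)
  have q := p.conj g⁻¹
  rw [show g⁻¹ * (g * z * g⁻¹) * g⁻¹⁻¹ = z by group] at q
  obtain ⟨k, hk, e⟩ := h.conj_s h.inv (mem_cent1.2 q.comm.symm) q.s_ne q.s_sq q.ne.symm
  refine ⟨g * k, ?_, ?_⟩ <;> rw [mul_inv_rev, mul_assoc g, mul_assoc g, ← mul_assoc (k * _)]
  · rw [mem_cent1_iff_conj.1 hk, mul_assoc]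
  · rw [e]
    group

theorem Y_le : Y z ≤ H0 z := sup_le (Op'_le_Oup _ _) (zpowers_le.2 h.z_H0)

theorem card_H : ♯𝐂[z] = ♯(H0 z) * 2 := by
  rw [← card_mul_relIndex (Oup_le 2 _), h.index_H0]

theorem inv_ne (ht : t * t = z) : t⁻¹ ≠ t := fun e => h.z1 (by
  rw [← ht]; nth_rewrite 1 [← e]; exact inv_mul_cancel t)

theorem inv_C (ht : t * t = z) (hj : j ∈ 𝐂[t]) (j1 : j ≠ 1) (j2 : j * j = 1) : j = z := by
  by_contra e
  have p := pair_mk h.z1 j1 (Ne.symm e) h.z2 j2 (by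
    rw [← ht, mul_assoc, ← mem_cent1.1 hj, ← mul_assoc, ← mem_cent1.1 hj, mul_assoc])
  refine h.z1 ?_
  rw [← ht, ← sq]
  exact p.isEp.abelem.2 _ (h.mem_four p (two_of_sq ht h.z2) (mem_cent1.1 (cent_of_sq ht))
    (mem_cent1.1 hj).symm)

theorem mem_zp_of_sq (ht : t * t = z) (hy : y * y = z) (hc : y ∈ 𝐂[t]) : t ∈ zpowers y := by
  rw [← mul_mem_cancel_left (mem_zpowers y)]
  by_cases e : y * t = 1
  · exact e ▸ one_mem _
  · rw [h.inv_C ht (mul_mem hc (mem_cent1_self t)) e (by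
      rw [(Commute.symm (mem_cent1.1 hc)).mul_mul_mul_comm, hy, ht, h.z2]), ← hy]
    exact mul_mem (mem_zpowers y) (mem_zpowers y)

theorem a_C : a ∈ 𝐂[x] := mem_cent1.2 (zp_comm (mem_zpowers a) h.x_a)

theorem s_C : s ∉ 𝐂[x] := fun e => h.inv_ne h.x_sq (h.sx.symm.trans (mem_cent1_iff_conj.1 e))

theorem s_N : s ∈ 𝐍(zpowers x) := mem_norm_zp (h.sx ▸ inv_mem (mem_zpowers x))

theorem z_C : z ∈ 𝐂[x] := mem_cent1_comm.1 (cent_of_sq h.x_sq)

theorem conj_z (hg : g * x * g⁻¹ ∈ 𝐂[x]) : g ∈ 𝐂[z] :=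
  mem_cent1_iff_conj.2 (h.inv_C h.x_sq (by
    rw [← h.x_sq, ← conj_mul]; exact mul_mem hg hg) (conj_ne_one.2 h.z1) (conj_sq h.z2 g))

theorem N_le : 𝐍(zpowers x) ≤ 𝐂[z] := fun _ hg => h.conj_z
  (zpowers_le.2 (mem_cent1_self x) (conj_mem_of_norm hg (mem_zpowers x)))

theorem sylC : Syl 2 (zpowers a) 𝐂[x] := h.inf_cent h.a_C h.s_C ▸ (h.syl.hall.mono
  (S4_le.2 ⟨(cent_normal x).le h.a_C, h.s_N⟩) le_top).syl.inf_normal (cent_normal x)

theorem exists_sq (hy : IsPGroup 2 (zpowers y)) (y2 : y * y ≠ 1) :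
    ∃ t ∈ zpowers y, t * t ≠ 1 ∧ t * t * (t * t) = 1 := by
  obtain ⟨_, ⟨i, rfl⟩, y1, y2⟩ := exists_invol (not_odd hy (mul_mem (mem_zpowers y) (mem_zpowers y)) y2)
  exact ⟨y ^ i, zpow_mem_zpowers y i, by rwa [← (Commute.refl y).mul_zpow],
    by rwa [← (Commute.refl y).mul_zpow]⟩

theorem x_mem_zp (hc : c ∈ 𝐂[x]) (hK : c ∉ O 𝐂[x] ⊔ zpowers z) : x ∈ zpowers c := by
  obtain ⟨y, hy, o, ho, rfl, ⟨n, hn⟩, h2⟩ := Cls.exists_p_part Nat.prime_two c
  have hle := zpowers_le.2 hc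
  by_cases y2 : y * y = 1
  · refine absurd (mul_mem (mem_sup_right ((mem_zp h.z2).2 (or_iff_not_imp_left.2 fun e =>
      h.inv_C h.x_sq (hle hy) e y2))) (mem_sup_left ((mem_O (pnil_of_cyc h.sylC)).2
        ⟨hle ho, Nat.coprime_two_right.1 h2⟩))) hK
  · obtain ⟨t, ht, t1, t2⟩ := h.exists_sq (Core.isPGroup_zpowers_of_orderOf hn) y2
    replace ht := zpowers_le.2 hy ht
    exact zpowers_le.2 ht (h.mem_zp_of_sq h.x_sq (h.inv_C h.x_sq (mul_mem (hle ht) (hle ht)) t1 t2)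
      (hle ht))

theorem ti : TI3 𝐂[x] 𝐍(zpowers x) (O 𝐂[x] ⊔ zpowers z) := by
  refine ⟨cent_normal x, index_two ?_ h.s_N h.s_C, le_norm_sup ((cent_normal x).Opi _).norm
    (h.N_le.trans (zp_normal z).norm), sup_le (Opi_le _ _) (zpowers_le.2 h.z_C),
    (((pnil_of_cyc h.sylC).sdprod h.sylC).der_le_of_ab (ab_of_isCyclic inferInstance)).trans
      le_sup_left, ⟨s⁻¹, inv_mem h.s_N, a, h.a_C, fun e => ?_⟩, fun c hc hK g e => ?_,
    fun j hj j2 => mem_sup_right ((mem_zp h.z2).2 (or_iff_not_imp_left.2 fun e =>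
      h.inv_C h.x_sq hj e j2))⟩
  · rw [orderOf_eq_prime_pow (p := 2) (n := 1) (by rw [pow_one, sq, h.x_sq]; exact h.z1) (by
      rw [show x ^ 2 ^ (1 + 1) = x * x * (x * x) by norm_num [pow_succ, mul_assoc], h.x_sq, h.z2])]
    rfl
  · rw [inv_inv, h.inv, mul_assoc, ← (Commute.inv_left h.az).eq, ← mul_assoc,
      mul_mem_cancel_right (mem_sup_right (mem_zpowers z)), ← mul_inv_rev, inv_mem_iff] at e
    obtain ⟨o, ho, w, hw, e⟩ := (mem_sup_norm_left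
      ((zpowers_le.2 h.z_C).trans (Opi_normal _ _).norm)).1 e
    have hz : w ∈ zpowers a := zpowers_le.2 h.z_mem hw
    obtain rfl : o = 1 := by_contra fun o1 => not_odd h.two ((mul_mem_cancel_right hz).1
      (e ▸ mul_mem (mem_zpowers a) (mem_zpowers a))) o1 (odd_of_mem (odd_O _) ho)
    refine h.ne4 h.inv ?_
    rw [← e, one_mul]
    rcases (mem_zp h.z2).1 hw with e | e <;> simp only [e, h.z2, mul_one]
  · have : g * x * g⁻¹ ∈ 𝐂[x] := zpowers_le.2 e (conj_zpowers g c ▸ conj_mem_conj (h.x_mem_zp hc hK))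
    exact mem_norm_zp (h.mem_zp_of_sq (by
      rw [conj_mul, h.x_sq, mem_cent1_iff_conj.1 (h.conj_z this)]) h.x_sq (mem_cent1_comm.1 this))

theorem C_le : 𝐂[x] ≤ 𝐂[z] := (cent_normal x).le.trans h.N_le

theorem card_V : ♯(𝐂[z] ⊓ 𝐂[s]) = ♯(O (𝐂[z] ⊓ 𝐂[s])) * 4 := by
  rw [← (h.pair.sdprod_of_cent inf_le_left).card, h.pair.card]

theorem Y_normal0 : Y z ⊴ H0 z := (Y_normal z).mono h.Y_le (Oup_le _ _)

theorem lift {u : Coset (Y z)} (hu : u ∈ invs (L z)) : ∃ t, t * t = z ∧ coset (Y z) t = u := by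
  obtain ⟨P, h1, h2, h3, e⟩ := exists_isPGroup_quo_eq (zpowers_le.2 hu.1) (two_elt hu.2.2)
  obtain ⟨t, ht, rfl⟩ := (mem_quo_of_le h2).1 (e ▸ mem_zpowers u)
  have hm : t * t ∈ Y z := by rw [← coset_eq_one_iff (h2 (mul_mem ht ht)), coset_mul (h2 ht) (h2 ht), hu.2.2]
  refine ⟨t, (two_Y h.z2 hm ?_).resolve_left fun e => hu.2.1 ?_, rfl⟩
  · exact by_contra fun e => not_odd h3 (mul_mem (mul_mem ht ht) (mul_mem ht ht)) e
      (odd_of_mem (odd_O _) (sq_mem_O h.z2 hm))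
  · by_cases t1 : t = 1
    · rw [t1, coset_one]
    · rw [by_contra fun e' => h.not_mem_H0 (Oup_le _ _ (h1 ht)) t1 e e' (h1 ht)]
      exact coset_eq_one (mem_sup_right (mem_zpowers z))

theorem O_L : O (L z) = ⊥ := by
  have hW := quoPre_normal h.Y_normal0 (Opi_normal ({2} : Set ℕ)ᶜ (L z))
  have hS : Syl 2 (zpowers z) (quoPre (Y z) (O (L z))) :=
    ⟨le_sup_right.trans (le_quoPre _), two_elt h.z2, by
      have e := card_mul_relIndex (le_sup_right.trans (le_quoPre (O (L z))))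
      rw [card_quoPre, card_Y h.z1 h.z2, Nat.card_zpowers, orderOf_eq_two h.z2 h.z1, mul_comm _ 2,
        mul_assoc, Nat.mul_right_inj two_ne_zero] at e
      exact e ▸ ((odd_O _).mul (odd_O _)).not_two_dvd_nat⟩
  exact quoPre_eq_iff.1 (le_antisymm (((pnil_of_cyc hS).sdprod hS).sup_eq.ge.trans (sup_le_sup_right
    ((Opi_le_of_normal _ hW).trans (Opi_le_of_normal _ (Oup_normal _ _))) _)) (le_quoPre _))

theorem coset_mem (ht : t * t = z) : coset (Y z) t ∈ invs (L z) := by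
  have hn := nY (cent_of_sq ht)
  refine ⟨coset_mem_quo _ (h.mem_H0' ht), fun e => ?_, ?_⟩
  · have := sq_mem_O h.z2 ((coset_eq_one_iff hn).1 e)
    rw [ht] at this
    exact h.z1 (eq_one_of_odd_of_sq (odd_of_mem (odd_O _) this) h.z2)
  · rw [← coset_mul hn hn, ht, coset_eq_one (mem_sup_right (mem_zpowers z))]

end Se

end Cfsg.Agent.HG
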