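import Cfsg.Agent.Lib.HG.Two
import Cfsg.Agent.Lib.ZG.Out
import Cfsg.Agent.Lib.Suz2.Cyclic
import Cfsg.Agent.Lib.BSW.Three

/-!
# Simple homogeneous groups have dihedral or semidihedral Sylow 2-subgroups
-/

set_option autoImplicit false
set_option linter.unusedSectionVars false

namespace Cfsg.Agent.HG

open Subgroup Cfsg.Agent.OO Cfsg.Agent.Coprime GW
open scoped commutatorElement Pointwise

universe u

variable {G : Type u} [Group G] [Finite G] {A D E H K L M N P Q R S V W : Subgroup G}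
  {a b c d e g k n s t u v w x y z ρ : G} {p : ℕ} {α β : G ≃* G}

theorem zstar (hz : z ∈ H) (z2 : z * z = 1)
    (e : ∀ g ∈ H, z * (g * z * g⁻¹) = g * z * g⁻¹ * z → g * z * g⁻¹ = z) (hg : g ∈ H) :
    g * z * g⁻¹ * z⁻¹ ∈ O H := by
  rw [O, Op'_eq_map]
  exact mem_map_of_mem _ (R1.zstar H ⟨z, hz⟩ (Subtype.ext z2)
    (fun k e' => Subtype.ext (e k k.2 (congrArg Subtype.val e'))) ⟨g, hg⟩)

theorem odd_constt (g : G) : Odd (orderOf (constt ({2} : Set ℕ)ᶜ g)) :=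
  Nat.card_zpowers (constt ({2} : Set ℕ)ᶜ g) ▸ odd_iff.2 (piGrp_zpowers.2 (piElt_constt _ _))

theorem cent_of_zstar (hK : Odd ♯K) (z2 : z * z = 1) (hz : z ∈ 𝐂(K)) (h : g * z * g⁻¹ * z⁻¹ ∈ K) :
    g ∈ 𝐂[z] := by
  refine mem_cent1_iff_conj.2 (mul_inv_eq_one.1 (eq_one_of_odd_of_sq (odd_of_mem hK h) ?_))
  nth_rewrite 1 [← mem_cent_iff_conj.1 hz _ h]
  have := conj_sq z2 g
  rw [inv_eq z2]
  calc _ = z * (g * z * g⁻¹ * (z * z) * (g * z * g⁻¹)) * z := by group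
    _ = _ := by rw [z2, mul_one, this, mul_one, z2]

theorem cent1_ne_top [IsSimpleGroup G] (hna : ¬ IsMulCommutative G) (z1 : z ≠ 1) : 𝐂[z] ≠ ⊤ := fun e =>
  (IsSimpleGroup.eq_bot_or_eq_top_of_normal (center G) inferInstance).elim
    (fun e' => z1 (mem_bot.1 (e'.le (mem_center_iff.2 fun g => mem_cent1.1 (e.ge (mem_top g))))))
    fun e' => hna ⟨⟨fun a b => (mem_center_iff.1 (e'.ge (mem_top a)) b).symm⟩⟩

theorem not_norm_le [IsSimpleGroup G] (hna : ¬ IsMulCommutative G) (hE : IsMaxEp 2 E ⊤) :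
    ¬ 𝐍(E) ≤ 𝐂(E) := fun h => by
  have := Fact.mk Nat.prime_two
  obtain ⟨Q, hQ⟩ := exists_syl 2 𝐂(E)
  have hZ := le_Zc_of_syl hE.abelem hQ
  have ohm : ∀ x ∈ Q, x ^ 2 = 1 → x ∈ E := fun x hx => hE.mem_of_cent trivial (hQ.le hx)
  have hn : 𝐍(Q) ≤ 𝐂(E) := (le_antisymm (Ohm_le_iff.2 ohm) (le_Ohm (hZ.trans (Zc_le Q)) hE.abelem) ▸
    norm_le_norm_Ohm 2 Q).trans h
  have hS : Syl 2 Q ⊤ := .of_syl_norm le_top (hQ.hall.mono (le_inf le_top le_normalizer)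
    (inf_le_right.trans hn)).syl
  obtain ⟨x, hx, x2⟩ := cauchy Nat.prime_two (hS.dvd_card_iff.2 (card_top (G := G) ▸ ZG.two_dvd hna))
  have x1 : x ≠ 1 := fun e => by simp [e] at x2
  replace x2 : x ^ 2 = 1 := x2 ▸ pow_orderOf_eq_one x
  have hQ' : ∀ y ∈ E, Syl 2 Q 𝐂[y] := fun y hy => (hS.hall.mono (hQ.le.trans (cent_le_cent1 hy)) le_top).syl
  have hx' := ohm x hx x2
  rw [pow_two] at x2
  refine cent1_ne_top hna x1 (eq_top_iff.2 fun g _ => mem_cent1_iff_conj.2 (mul_inv_eq_one.1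
    (mem_bot.1 (ZG.O_eq_bot hna ▸ zstar (mem_top x) x2 (fun g _ e => ?_) (mem_top g)))))
  obtain ⟨c, hc, e1⟩ := (hQ' x hx').exists_conj_le (zpowers_le.2 (mem_cent1.2 e.symm))
    (ZG.two_elt (conj_sq x2 g))
  have e2 := e1 (conj_mem_conj (mem_zpowers _))
  rw [← cj_mul] at e2
  have e3 := ohm _ e2 ((pow_two _).trans (conj_sq x2 _))
  obtain ⟨d, hd, e4⟩ := (cent1_conj (c * g) x ▸ (hQ' x hx').conj (c * g)).exists_conj' (hQ' _ e3)
  rw [conj_conj, eq_comm, conj_eq_self_iff] at e4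
  have e5 := mem_cent_iff_conj.1 (hn e4) x hx'
  rw [cj_mul d, mem_cent1_iff_conj.1 hd, cj_mul] at e5
  calc _ = c⁻¹ * (c * (g * x * g⁻¹) * c⁻¹) * c⁻¹⁻¹ := by group
    _ = _ := by rw [e5, mem_cent1_iff_conj.1 (inv_mem hc)]

namespace Rt

variable (h : Rt E Q t v ρ) (hG : Hom G) (hS : Syl 2 Q ⊤) (hne : Q ≠ E)
include h hS

theorem fix (hg : g ∈ 𝐍(E)) (hc : c ∈ E) (c1 : c ≠ 1) (e : g ∈ 𝐂[c]) : g ∈ 𝐂(E) := by
  have := Fact.mk Nat.prime_two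
  obtain ⟨d, h⟩ := h.wlog hc c1
  refine mem_of_constt_mem (mem_of_syl_le (hS.hall.mono (h.syl.le.trans (cent_le_norm E)) le_top).syl
    h.syl.le (norm_le_norm_cent E) (constt_mem {2} hg) (piElt_constt _ _)) ?_
  rw [← h.eq, cent_S4]
  exact ⟨constt_mem _ e, mem_cent1.2 (ZG.comm_of_odd h.pair (h.eq ▸ constt_mem _ hg)
    (mem_cent1.1 (constt_mem _ e)) (odd_constt g))⟩

theorem cube (hg : g ∈ 𝐍(E)) : g ^ 3 ∈ 𝐂(E) := by
  by_cases e : g ∈ 𝐂(E)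
  · exact pow_mem e 3
  have key : ∀ c ∈ E, c ≠ 1 → g * c * g⁻¹ ≠ c := fun c hc c1 e' =>
    e (h.fix hS hg hc c1 (mem_cent1_iff_conj.2 e'))
  have p := h.pair
  refine h.fix hS (pow_mem hg 3) p.t_mem p.t_ne (mem_cent1_iff_conj.2 ?_)
  rw [pow_three, cj_mul, cj_mul]
  have k1 := key t p.t_mem p.t_ne
  have k2 := key v p.s_mem p.s_ne
  have k3 := key _ p.mul.s_mem p.mul_ne_one
  have e1 : v * (t * v) = t := by rw [p.comm.eq, ← mul_assoc, p.s_sq, one_mul]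
  have e2 : t * v * t = v := by rw [p.comm.eq, mul_assoc, p.t_sq, mul_one]
  rw [← conj_mul] at k3
  rcases h.mem.1 (conj_mem_of_norm hg p.t_mem) with f | f | f | f <;>
  rcases h.mem.1 (conj_mem_of_norm hg p.s_mem) with f' | f' | f' | f'
  all_goals try first | exact (conj_ne_one.2 p.t_ne f).elim | exact (conj_ne_one.2 p.s_ne f').elim |
    exact (k1 f).elim | exact (k2 f').elim
  · exact absurd (by rw [f, f', p.comm.eq]) k3
  · rw [f, f', ← conj_mul, f, f', e1]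
  · rw [f, ← conj_mul (a := t), f, f', e2, f']
  · exact absurd (mul_left_cancel (mul_right_cancel (f.trans f'.symm))) p.ne

include hne

omit hS in
theorem hig (hx : x ∈ Q) : x * x ∈ E ∧ der Q ≤ E := by
  obtain ⟨h1, -, h2, -⟩ := R1.higman G Q (zpowers ρ) h.two inferInstance (zpowers_le.2 h.ρn)
    (fun e => hne ((Zc_eq_self e).symm.trans h.zq)) ⟨t, h.le h.pair.t_mem, v, h.le h.pair.s_mem,
      h.pair.ne, h.pair.t_ne, h.pair.t_sq, h.pair.s_ne, h.pair.s_sq⟩ fun x hx y hy x1 x2 y1 y2 => by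
      obtain ⟨d, h'⟩ := h.wlog (h.ohm hx x2) x1
      rcases h'.mem.1 (h.ohm hy y2) with rfl | rfl | rfl | rfl
      · exact absurd rfl y1
      · exact ⟨1, one_mem _, by simp⟩
      · exact ⟨ρ, mem_zpowers ρ, h'.ρt⟩
      · exact ⟨ρ * ρ, mul_mem (mem_zpowers ρ) (mem_zpowers ρ), by rw [cj_mul, h'.ρt, h'.ρv]⟩
  have : der Q ≤ E := fun y hy => h.ohm ((h1 y).1 hy).1 ((h1 y).1 hy).2
  exact ⟨this (h2 x hx), this⟩

omit hS in
theorem sqrt : ∃ s ∈ Q, s * s = t := by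
  obtain ⟨u, hu, u0⟩ := SetLike.exists_of_lt (h.le.lt_of_ne' hne)
  obtain ⟨d, h'⟩ := h.wlog (h.hig hne hu).1 fun e => u0 (h.ohm hu e)
  have hu' := conj_mem_of_norm h.ρn hu
  rcases h'.mem.1 h.pair.t_mem with e | e | e | e
  · exact absurd e h.pair.t_ne
  · exact ⟨u, hu, e.symm⟩
  · exact ⟨_, hu', by rw [conj_mul, h'.ρt, e]⟩
  · exact ⟨_, conj_mem_of_norm h.ρn hu', by rw [conj_mul, conj_mul, h'.ρt, h'.ρv, e]⟩

omit hS hne in
theorem invol (hx : x ∈ 𝐂(E)) (x2 : x * x = 1) : x ∈ E :=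
  h.max.mem_of_cent trivial hx ((pow_two x).trans x2)

include hG

theorem cent_eq (hc : c ∈ E) (c1 : c ≠ 1) : 𝐂[c] = 𝐂(E) := by
  obtain ⟨d, h⟩ := h.wlog hc c1
  have p := h.pair
  have hQ := h.syl.le.trans (cent_le_cent1 hc)
  obtain ⟨s, hs, s2⟩ := h.sqrt hne
  have h1 : c ∈ 𝐂(O 𝐂[c]) := le_cent1_iff.1 (Opi_le _ _)
  obtain ⟨g, hg, e⟩ : ∃ g ∈ Q, s * g * s⁻¹ * g⁻¹ ∉ zpowers c := by
    by_contra! e
    exact c1 (s2 ▸ h.sq (h.q2 hs e))
  have h2 := inv_mem (hG.dz' (odd_O _) h.two (hQ.trans (Opi_normal _ _).norm) hs (s2 ▸ h1) hg)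
  rw [show (g * s * g⁻¹ * s⁻¹)⁻¹ = s * g * s⁻¹ * g⁻¹ by group] at h2
  have h3 : d ∈ 𝐂(O 𝐂[c]) := by
    rcases h.mem.1 ((h.hig hne hs).2 (commutator_mem_commutator hs hg)) with f | f | f | f <;>
      rw [commutatorElement_def] at f <;> rw [f] at e h2
    · exact absurd (one_mem _) e
    · exact absurd (mem_zpowers _) e
    · exact h2
    · exact (mul_mem_cancel_left h1).1 h2
  refine le_antisymm (fun g hg => ?_) (cent_le_cent1 hc)
  rw [← h.eq, cent_S4]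
  refine ⟨hg, cent_of_zstar (odd_O _) p.s_sq h3 (zstar (p.le_cent (s_mem_S4 c d)) p.s_sq
    (fun k hk e => ?_) hg)⟩
  have h4 := h.invol (h.eq ▸ cent_S4 c d ▸ mem_inf.2 ⟨mul_mem (mul_mem hk (p.le_cent (s_mem_S4 c d)))
    (inv_mem hk), mem_cent1.2 e.symm⟩) (conj_sq p.s_sq k)
  exact mem_cent_iff_conj.1 (h.fix hS (h.eq ▸ ZG.mem_norm_S4
    ((mem_cent1_iff_conj.1 hk).symm ▸ t_mem_S4 c d) (h.eq.symm ▸ h4)) hc c1 hk) d p.s_mem

omit hS in
theorem pnil : PNil 2 𝐂(E) := by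
  have := Fact.mk Nat.prime_two
  have hn := cent_le_norm E
  have hE : E ⊴ Q := ⟨h.le, h.syl.le.trans hn⟩
  have h1 : PNil 2 (𝐂(E) ⁒ E) := pnil_of_sdprod (Burnside_normal_complement (h.syl.quo hn) (by
    rw [← quo_inf_norm_eq hE]
    intro _ hx
    obtain ⟨g, hg, rfl⟩ := (mem_quo_of_le (inf_le_left.trans hn)).1 hx
    rw [← constt_mul_constt_compl {2} g, coset_mul (hn (constt_mem _ hg.1)) (hn (constt_mem _ hg.1))]
    exact mul_mem ((ab_quo_of_der_le (h.hig hne (one_mem _)).2).le_cent (coset_mem_quo _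
      (h.syl.mem_of_mem_norm (constt_mem _ hg.1) (constt_mem _ hg.2) (piElt_constt _ _))))
      (quo_cent_le _ _ (coset_mem_quo _ (h.cq' hG (constt_mem _ hg.1) (constt_mem _ hg.2)
        (odd_constt g))))))
    (Op'_piGrp _ _) (isPGroup_quo h.two E)
  refine ZG.pnil_two fun R hR h2 g hg hn' ho => zpowers_le.1 ?_
  have h3 := zpowers_le.2 hg
  have h4 := zpowers_le.2 hn'
  have ho' : Odd ♯(zpowers g) := Nat.card_zpowers g ▸ ho
  exact stable_factor_cent (K := R ⊓ E) (h3.trans (cent_anti inf_le_right))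
    (normalIn_inf_of_norm (hR.trans hn)) (le_inf (commutator_le_left' h4)
      ((quo_le_cent_iff (hR.trans hn) (h3.trans hn)).1 (le_cent_symm (h1.le_cent (isPGroup_quo h2 E)
        (quo_mono E hR) ((odd_iff.1 ho').quo E) (quo_mono E h3) (quo_le_norm E h4)))))
    (W4.cop ho' h2).symm

theorem le_cent_O : Q ≤ 𝐂(O 𝐂(E)) := by
  have hn := h.syl.le.trans (Opi_normal ({2} : Set ℕ)ᶜ 𝐂(E)).norm
  have hE : E ≤ 𝐂(O 𝐂(E)) := le_cent_symm (Opi_le _ _)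
  have o4 : ∀ x ∈ Q, x ∉ E → orderOf x = 4 := fun x hx x0 => by
    have := Fact.mk Nat.prime_two
    exact orderOf_eq_prime_pow (p := 2) (n := 1) (fun e => x0 (h.ohm hx (by simpa [pow_two] using e)))
      (by simpa [pow_succ, mul_assoc] using h.sq (h.hig hne hx).1)
  have key : ∀ x ∈ Q, x ∉ E → ∀ y ∈ Q, y ∉ E → x * y ∈ 𝐂(O 𝐂(E)) := fun x hx x0 y hy y0 => by
    obtain ⟨α, rfl⟩ := hG.cyc ((o4 x hx x0).trans (o4 y hy y0).symm)
    refine hG.ss' (odd_O _) h.two hn hx hy (hE (h.hig hne hx).1) (pres_Opi _ fun g => ?_)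
    conv_lhs => rw [← h.cent_eq hG hS hne (h.hig hne hy).1 fun e => y0 (h.ohm hy e)]
    rw [← h.cent_eq hG hS hne (h.hig hne hx).1 fun e => x0 (h.ohm hx e), mem_cent1, mem_cent1,
      ← map_mul, ← map_mul, ← map_mul, α.injective.eq_iff]
  intro x hx
  by_cases x0 : x ∈ E
  · exact hE x0
  obtain ⟨y, hy, e⟩ : ∃ y ∈ Q, y * x ≠ x * y := by
    by_contra! e
    exact x0 (h.zq ▸ mem_Zc.2 ⟨hx, e⟩)
  have y0 : y ∉ E := fun e' => e (h.cm hx e').symm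
  have h1 : x * y ∉ E := fun e' => e (by
    rw [← mul_right_inj x, ← mul_assoc, h.cm hx e'])
  exact (mul_mem_cancel_right (key x hx x0 y hy y0)).1 (key x hx x0 _ (mul_mem hx hy) h1)

theorem odd_cent (hx : x ∈ 𝐂(E)) (ho : Odd (orderOf x)) : x ∈ 𝐂(Q) :=
  le_cent_symm (h.le_cent_O hG hS hne) ((ZG.mem_O (h.pnil hG hne)).2 ⟨hx, ho⟩)

theorem hypI : BSW.HypI 𝐂(E) :=
  ⟨fun z hz z1 z2 g => by rw [← h.cent_eq hG hS hne (h.invol hz z2) z1, mem_cent1],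
    t, abelem_le_cent h.max.abelem h.pair.t_mem, h.pair.t_ne, h.pair.t_sq⟩

theorem normQ : 𝐍(𝐂(E)) ≤ 𝐍(Q) := by
  have := Fact.mk Nat.prime_two
  refine h.syl.norm_le_norm_of_normal (((h.pnil hG hne).sdprod h.syl).sup_eq.ge.trans
    (sup_le ((le_cent_symm (h.le_cent_O hG hS hne)).trans (cent_le_norm Q)) le_normalizer))

theorem no_rot [IsSimpleGroup G] (hna : ¬ IsMulCommutative G) (h3 : ¬ 3 ∣ ♯𝐂(E)) (hg : g ∈ 𝐍(Q))
    (g0 : g ∉ 𝐂(E)) (q : ℕ) : ∀ y : G, orderOf y = q → q.Prime → q ≠ 2 → y ∈ 𝐂(Q) → g ∉ 𝐂[y] := by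
  have := Fact.mk Nat.prime_three
  have hc := constt_mem {3} hg
  have c0 : constt {3} g ∉ 𝐂(E) := fun e =>
    g0 (mem_of_constt_mem e (pp Nat.prime_three (h.cube hS (h.normE hg))))
  have c3 := isPGroup_zpowers_iff.2 (piElt_constt {3} g)
  suffices ∀ y : G, orderOf y = q → q.Prime → q ≠ 2 → y ∈ 𝐂(Q) → constt {3} g ∉ 𝐂[y] from
    fun y h1 h2 h3 h4 e => this y h1 h2 h3 h4 (constt_mem _ e)
  generalize constt {3} g = c at hc c0 c3
  have h4 : ∀ x ∈ 𝐂(E), PiElt {3} x → x = 1 := fun x hx e =>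
    e.eq_one (((piGrp_compl_singleton Nat.prime_three).2 h3).piElt hx)
  refine Nat.strong_induction_on q fun q ih y hy hq h2 hyQ hcy => ?_
  subst hy
  obtain ⟨r, n, hr, r2, hd, hn, hp, hn1, hn'⟩ := (hG.nb hna).step hq h2 hS (le_cent1_iff.2 hyQ)
  have := Fact.mk hr
  have hn2 := ZG.mem_norm_zp hn1
  have hc2 := (ZG.cent_normal y).le hcy
  by_cases e : n ∈ 𝐂(E)
  · have h5 := h.odd_cent hG hS hne e (ZG.odd_of_pgroup hr r2 hp)
    have h6 : zpowers c ≤ 𝐍(𝐂(Q) ⊓ 𝐍(zpowers y)) :=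
      zpowers_le.2 (mem_norm_inf (norm_le_norm_cent Q hc) (le_normalizer hc2))
    have h7 := coprime_cent_prod h6 (coprime_of_isPGroup c3 (((piGrp_compl_singleton
      Nat.prime_three).2 h3).of_le (inf_le_left.trans (cent_anti h.le)))).symm
      (.inr (sol_of_isPGroup c3))
    have h8 : 𝐂(Q) ⊓ 𝐍(zpowers y) ≤ 𝐂(Q) ⊓ 𝐍(zpowers y) ⊓ 𝐂(zpowers c) ⊔ 𝐂[y] :=
      h7.ge.trans (sup_le (le_sup_of_le_right ((commutator_mono inf_le_right
        (zpowers_le.2 hcy)).trans (commutator_le_right' (ZG.cent_normal y).norm))) le_sup_left)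
    have h9 : 𝐂(Q) ⊓ 𝐍(zpowers y) ⊓ 𝐂(zpowers c) ≤ 𝐍(𝐂[y]) :=
      (inf_le_left.trans inf_le_right).trans (ZG.cent_normal y).norm
    have h10 := relIndex_dvd_of_le_norm h8 (sup_le h9 le_normalizer)
    rw [relIndex_sup_eq (.inl h9)] at h10
    obtain ⟨x, hx, ox⟩ := cauchy hr (by_contra fun e' : ¬ r ∣ ♯(𝐂(Q) ⊓ 𝐍(zpowers y) ⊓ 𝐂(zpowers c)) =>
      hn' (zpowers_le.1 ((piGrp_singleton hp).le_of_relIndex (M := 𝐂(Q) ⊓ 𝐍(zpowers y))
        (zpowers_le.2 ⟨h5, hn2⟩) (inf_le_right.trans (ZG.cent_normal y).norm)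
        ((isPiNum_compl_singleton hr).2 fun e1 => e' (e1.trans (h10.trans (relIndex_dvd_card _ _)))))))
    exact ih r ((Nat.le_of_dvd (by have := hq.two_le; omega) hd).trans_lt
        (by have := hq.two_le; omega)) x ox hr r2 hx.1.1 (mem_cent1_comm.1 (cent_zpowers c ▸ hx.2))
  obtain rfl : r = 3 := by_contra fun r3 => e (constt_eq_self (π := {3}ᶜ)
    ((piGrp_compl_of_isPGroup hp r3).piElt (mem_zpowers n)) ▸ pp Nat.prime_three (h.cube hS (h.normE hn)))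
  obtain ⟨T, hT, hle⟩ := exists_syl_ge (M := 𝐍(Q) ⊓ 𝐍(zpowers y)) (zpowers_le.2 ⟨hc, hc2⟩) c3
  obtain ⟨k, hk, e1⟩ := hT.exists_conj_le (zpowers_le.2 ⟨hn, hn2⟩) hp
  have e2 := e1 (conj_mem_conj (mem_zpowers n))
  have cT := hle (mem_zpowers c)
  refine hn' ((mem_norm_iff.1 ((ZG.cent_normal y).norm hk.2) n).2 ?_)
  generalize k * n * k⁻¹ = m at e2
  have hm := h.normE (hT.le e2).1
  have hc' := h.normE hc
  have p := h.pair
  have key : ∀ x ∈ T, x * t * x⁻¹ = t → x = 1 := fun x hx e => h4 x (h.fix hS (h.normE (hT.le hx).1)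
    p.t_mem p.t_ne (mem_cent1_iff_conj.2 e)) (hT.piGrp.piElt hx)
  have k1 : ∀ x ∈ T, x * t * x⁻¹ = m * t * m⁻¹ → x = m := fun x hx e =>
    (inv_mul_eq_one.1 (key _ (mul_mem (inv_mem e2) hx) (by rw [cj_mul, e]; group))).symm
  have c1 : c ≠ 1 := fun e => c0 (e ▸ one_mem _)
  have c2 : c * c ≠ 1 := fun e => c1 (eq_one_of_odd_of_sq (ZG.odd_of_pgroup hr r2 c3) e)
  have k2 := fun e => c1 (key c cT e)
  have k3 := fun e => c2 (key _ (mul_mem cT cT) e)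
  have k4 : c * c * t * (c * c)⁻¹ ≠ c * t * c⁻¹ := fun e => k2 (by
    rwa [cj_mul, mul_left_inj, mul_right_inj] at e)
  by_contra e3
  have k5 := fun e => e3 (key m e2 e ▸ one_mem _)
  have k6 := fun e => e3 (k1 c cT e ▸ hcy)
  have k7 := fun e => e3 (k1 _ (mul_mem cT cT) e ▸ mul_mem hcy hcy)
  have t1 := fun g => (conj_ne_one (g := g)).2 p.t_ne
  rcases h.mem.1 (conj_mem_of_norm hm p.t_mem) with f | f | f | f <;>
  rcases h.mem.1 (conj_mem_of_norm hc' p.t_mem) with f' | f' | f' | f' <;>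
  rcases h.mem.1 (conj_mem_of_norm (mul_mem hc' hc') p.t_mem) with f'' | f'' | f'' | f'' <;>
  first | exact t1 _ f | exact t1 _ f' | exact t1 _ f'' | exact k5 f | exact k2 f' | exact k3 f'' |
    exact k6 (f'.trans f.symm) | exact k7 (f''.trans f.symm) | exact k4 (f''.trans f'.symm)

theorem false [IsSimpleGroup G] (hna : ¬ IsMulCommutative G) : False := by
  have hI := h.hypI hG hS hne
  have p := h.pair
  have hE := abelem_le_cent h.max.abelem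
  have hM : 𝐍(𝐂(E)) ≠ ⊤ := fun e => (IsSimpleGroup.eq_bot_or_eq_top_of_normal 𝐂(E)
    (normalizer_eq_top_iff.1 e)).elim hI.ne_bot
    fun e' => cent1_ne_top hna p.t_ne ((h.cent_eq hG hS hne p.t_mem p.t_ne).trans e')
  obtain ⟨j, hj, j2⟩ := hI.exists_inv_not_mem hM
  have hρ := norm_le_norm_cent E (h.normE h.ρn)
  have ρ0 : ρ ∉ 𝐂(E) := fun e => h.move p.t_mem p.t_ne (mem_cent_iff_conj.1 e t p.t_mem)
  obtain ⟨m, hm, e⟩ := hI.exists_inverted hj j2 hρ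
  have hω := mul_mem hρ (le_normalizer hm)
  have ω1 : ρ * m ≠ 1 := fun e => ρ0 ((mul_mem_cancel_right hm).1 (e ▸ one_mem _))
  generalize ρ * m = ω at e hω ω1
  have ω3 : ω ^ 3 = 1 := hI.eq_one_of_inverted (fun e => hj (le_normalizer e)) j2
    (h.cube hS (h.normE (h.normQ hG hS hne hω))) (by rw [← conj_pow, e, inv_pow])
  have h3 : ¬ 3 ∣ ♯𝐂(E) := fun e3 => by
    have := Fact.mk Nat.prime_three
    obtain ⟨y, hy, oy⟩ := cauchy Nat.prime_three e3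
    obtain ⟨α, rfl⟩ := hG.cyc ((orderOf_eq_prime ω3 ω1).trans oy.symm)
    have e1 := map_cj α j ω
    rw [e, map_inv] at e1
    have j2' : α j * α j = 1 := by rw [← map_mul, j2, map_one]
    refine ω1 (α.injective ((?_ : α ω = 1).trans (map_one α).symm))
    by_cases e2 : α j ∈ 𝐂(E)
    · rw [← hI.comm e2 j2' hy, mul_inv_cancel_right] at e1
      exact ZG.eq_one_of_inv (by rw [oy]; decide) e1.symm
    · exact hI.eq_one_of_inverted e2 j2' hy e1.symm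
  have hC : BSW.HypC 𝐂(E) j := ⟨hI, fun x hx x1 g hg => ?_, ⟨ρ, hρ, ρ0⟩, hj, j2⟩
  · exact hne (le_antisymm (fun x hx => h.ohm hx (hC.mul_self_of_three
      (BSW.mem_Kt.2 ⟨hω, e ▸ inv_mem hω⟩) ω1 ω3 (h.syl.le hx))) h.le)
  obtain ⟨y, hy, hq⟩ := ZG.exists_prime_mem x1
  have hy' := zpowers_le.2 hx hy
  replace hg : g ∈ 𝐂[y] := mem_cent1.2 (ZG.comm_of_mem hg hy)
  by_cases y2 : y * y = 1
  · exact hI.mem_of_comm hy' (fun e => hq.ne_one (by rw [e, orderOf_one])) y2 (mem_cent1.1 hg)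
  have ho := ZG.odd_of_prime hq y2
  have key : ∀ g ∈ 𝐂[y], g ∈ 𝐍(𝐂(E)) → g ∈ 𝐂(E) := fun g hg hn => by_contra fun e =>
    h.no_rot hG hS hne hna h3 (h.normQ hG hS hne hn) e _ y rfl hq
      (fun e => ho.not_two_dvd_nat (e ▸ dvd_rfl)) (h.odd_cent hG hS hne hy' ho) hg
  refine key g hg (by_contra fun hn => ?_)
  have hEy : E ≤ 𝐂[y] := le_cent1_iff.2 hy'
  have z0 : g * t * g⁻¹ ∉ 𝐂(E) := fun e =>
    hI.conj_not_mem (hE p.t_mem) p.t_ne p.t_sq hn (le_normalizer e)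
  have z2 := conj_sq p.t_sq g
  have hz := mul_mem (mul_mem hg (hEy p.t_mem)) (inv_mem hg)
  generalize g * t * g⁻¹ = z at z0 z2 hz
  obtain ⟨k, e1⟩ := BSW.exists_conj_of_odd p.t_sq z2 (hI.odd_orderOf_mul (hE p.t_mem) p.t_ne p.t_sq z0 z2)
  obtain ⟨l, e2⟩ := BSW.exists_conj_of_odd p.s_sq z2 (hI.odd_orderOf_mul (hE p.s_mem) p.s_ne p.s_sq z0 z2)
  have h1 := pow_mem (mul_mem (hEy p.t_mem) hz) k
  have h2 := pow_mem (mul_mem (hEy p.s_mem) hz) l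
  generalize (t * z) ^ k = a at e1 h1
  generalize (v * z) ^ l = b at e2 h2
  have e3 : a⁻¹ * b * v * (a⁻¹ * b)⁻¹ = t := by rw [cj_mul, ← e2, e1]; group
  exact p.ne (e3.symm.trans (mem_cent_iff_conj.1 (key _ (mul_mem (inv_mem h1) h2)
    (hI.mem_norm_of_conj (hE p.s_mem) p.s_ne p.s_sq (e3 ▸ hE p.t_mem))) v p.s_mem))

end Rt

theorem Hom.alm [IsSimpleGroup G] (hG : Hom G) (hna : ¬ IsMulCommutative G) : ZG.Alm G := by
  have := Fact.mk Nat.prime_two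
  obtain ⟨E, hE, -⟩ := exists_isMaxEp_ge (H := (⊤ : Subgroup G)) bot_le (abelem_bot 2)
  obtain ⟨g, hg, g0⟩ := SetLike.not_le_iff_exists.1 (not_norm_le hna hE)
  obtain ⟨Q, t, v, ρ, h⟩ := hG.exists_rt hE hg g0
  exact (h.alm_or hG).resolve_right fun e => h.false hG e.1 e.2 hna

end Cfsg.Agent.HG
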