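import Cfsg.Agent.Lib.HG.Loc
import Cfsg.Agent.Lib.PGrp.MaxClass

/-!
# Homogeneous finite groups: the Sylow 2-subgroups
-/

set_option autoImplicit false
set_option linter.unusedSectionVars false

namespace Cfsg.Agent.HG

open Subgroup Cfsg.Agent.OO Cfsg.Agent.Coprime GW
open scoped commutatorElement Pointwise

universe u

variable {G : Type u} [Group G] [Finite G] {A D E H K L M N P Q R S V W : Subgroup G}
  {a b c d e g k n s t u v w x y z ρ : G} {p : ℕ} {α β : G ≃* G}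

theorem fpf_surj (hn : u ∈ 𝐍(Q)) (h0 : Q ⊓ 𝐂[u] = ⊥) (hx : x ∈ Q) :
    ∃ y ∈ Q, y⁻¹ * (u * y * u⁻¹) = x := by
  have h1 : Function.Injective fun y : Q =>
      (⟨(y : G)⁻¹ * (u * y * u⁻¹), mul_mem (inv_mem y.2) (conj_mem_of_norm hn y.2)⟩ : Q) :=
    fun y z e => Subtype.ext (mul_inv_eq_one.1 (mem_bot.1 (h0.le ⟨Q.mul_mem y.2 (Q.inv_mem z.2),
      mem_cent1_comm.1 (mem_cent1_iff_conj.2 (by
        have e1 : (y : G)⁻¹ * (u * y * u⁻¹) = (z : G)⁻¹ * (u * z * u⁻¹) := congrArg Subtype.val e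
        calc _ = y * ((y : G)⁻¹ * (u * y * u⁻¹)) * (u * z * u⁻¹)⁻¹ := by group
          _ = _ := by rw [e1]; group))⟩)))
  obtain ⟨y, hy⟩ := Finite.surjective_of_injective h1 ⟨x, hx⟩
  exact ⟨y, y.2, congrArg Subtype.val hy⟩

omit [Finite G] in
theorem Hy.cases (h : Hy 2 P H e) (hx : x ∈ P) : ∃ y ∈ H, x = y ∨ x = y * e := by
  obtain ⟨y, hy, i, rfl⟩ := h.rep x hx
  obtain ⟨j, rfl | rfl⟩ := i.even_or_odd'
  · exact ⟨_, mul_mem hy (pow_mul e 2 j ▸ pow_mem (h.pow e h.mem) j), .inl rfl⟩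
  · exact ⟨_, mul_mem hy (pow_mul e 2 j ▸ pow_mem (h.pow e h.mem) j), .inr (by rw [pow_succ, mul_assoc])⟩

omit [Finite G] in
theorem Hy.mul_mem (h : Hy 2 P H e) (hx : x ∈ P) (hy : y ∈ P) (e1 : x ∈ H ↔ y ∈ H) : x * y ∈ H := by
  by_cases h1 : x ∈ H
  · exact H.mul_mem h1 (e1.1 h1)
  obtain ⟨a, ha, rfl | rfl⟩ := h.cases hx
  · exact absurd ha h1
  obtain ⟨b, hb, rfl | rfl⟩ := h.cases hy
  · exact absurd (e1.2 hb) h1
  rw [show a * e * (b * e) = a * (e * b * e⁻¹) * e ^ 2 by simp [sq, mul_assoc]]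
  exact H.mul_mem (H.mul_mem ha (conj_mem_of_norm (h.norm h.mem) hb)) (h.pow e h.mem)

theorem alm_of_syl (hS : Syl 2 S ⊤)
    (h : ∀ x ∈ S, ∀ y ∈ S, x ∉ zpowers a → y ∉ zpowers a → x * y ∈ zpowers a) : ZG.Alm G := fun P hP => by
  have := Fact.mk Nat.prime_two
  obtain ⟨g, -, hg⟩ := hS.exists_le_conj' le_top hP
  obtain ⟨b, hb⟩ := exists_zpowers_eq (isCyclic_of_le' (A := P ⊓ g •ᶜ zpowers a)
    (isCyclic_conj.2 inferInstance) inf_le_right)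
  refine ⟨b, (hb.le (mem_zpowers b)).1, fun x hx y hy h1 h2 => ?_⟩
  rw [hb, mem_inf, mem_conj] at h1 h2 ⊢
  refine ⟨mul_mem hx hy, ?_⟩
  have := h _ (mem_conj.1 (hg hx)) _ (mem_conj.1 (hg hy)) (fun e => h1 ⟨hx, e⟩) fun e => h2 ⟨hy, e⟩
  simpa [mul_assoc] using this

theorem alm_of_four (p : Pair E t v) (hS : Syl 2 S ⊤) (h1 : S4 t v ≤ S) (h2 : S ⊓ 𝐂(S4 t v) ≤ S4 t v) :
    ZG.Alm G := by
  have := Fact.mk Nat.prime_two
  by_cases e : S4 t v = S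
  · refine alm_of_syl hS (a := t) fun x hx y hy => ?_
    rw [← e, p.mem_S4] at hx hy
    simp only [mem_zp p.t_sq, not_or]
    have e1 : v * (t * v) = t := by rw [p.comm.eq, ← mul_assoc, p.s_sq, one_mul]
    have e2 : t * v * v = t := by rw [mul_assoc, p.s_sq, mul_one]
    rcases hx with rfl | rfl | rfl | rfl <;> rcases hy with rfl | rfl | rfl | rfl <;>
      simp [p.s_sq, p.mul_sq, e1, e2]
  obtain ⟨n, hn⟩ := hS.isPGroup.exists_card_eq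
  have h4 := card_lt (lt_of_le_of_ne h1 e)
  rw [p.isEp.card, hn, Nat.pow_lt_pow_iff_right one_lt_two] at h4
  obtain ⟨n, rfl⟩ : ∃ m, n = m + 3 := ⟨n - 3, by omega⟩
  obtain ⟨x, y, hxy⟩ := PGrp.dqs_of_maxClass hn (PGrp.nilpotencyClass_eq_of_centralizer_le
    (n := n + 1) hn (A := (S4 t v).subgroupOf S) (by rw [Core.card_subgroupOf_of_le h1, p.isEp.card])
    (Core.centralizer_le_iff_map_subtype.2 (by rwa [map_subgroupOf_eq_of_le h1])))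
  refine alm_of_syl hS (a := x) fun a ha b hb e1 e2 => ?_
  obtain ⟨i, hi⟩ := hxy.mul_inv_mem (g := ⟨a, ha⟩) (g' := ⟨b, hb⟩⁻¹)
    (fun ⟨i, hi⟩ => e1 ⟨i, congrArg Subtype.val hi⟩)
    (fun e => e2 (let ⟨i, hi⟩ := inv_mem_iff.1 e; ⟨i, congrArg Subtype.val hi⟩))
  exact ⟨i, by simpa using congrArg Subtype.val hi⟩

/-- a maximal elementary abelian 2-subgroup of order four, not central in its normalizer -/
structure Rt (E Q : Subgroup G) (t v ρ : G) : Prop where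
  max : IsMaxEp 2 E ⊤
  syl : Syl 2 Q 𝐂(E)
  zq : Zc Q = E
  pair : Pair E t v
  eq : S4 t v = E
  ρn : ρ ∈ 𝐍(Q)
  ρ3 : IsPGroup 3 (zpowers ρ)
  ρt : ρ * t * ρ⁻¹ = v
  ρv : ρ * v * ρ⁻¹ = t * v

namespace Rt

variable (h : Rt E Q t v ρ)
include h

theorem mem : x ∈ E ↔ x = 1 ∨ x = t ∨ x = v ∨ x = t * v := h.eq ▸ h.pair.mem_S4

theorem le : E ≤ Q := h.zq ▸ Zc_le Q

theorem two : IsPGroup 2 Q := h.syl.isPGroup

theorem ohm (hx : x ∈ Q) (x2 : x * x = 1) : x ∈ E :=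
  h.max.mem_of_cent trivial (h.syl.le hx) ((pow_two x).trans x2)

theorem sq (hx : x ∈ E) : x * x = 1 := (pow_two x).symm.trans (h.max.abelem.2 x hx)

theorem cj (hx : x ∈ Q) (hc : c ∈ E) : x * c * x⁻¹ = c := mem_cent_iff_conj.1 (h.syl.le hx) c hc

theorem cm (hx : x ∈ Q) (hc : c ∈ E) : x * c = c * x := mul_inv_eq_iff_eq_mul.1 (h.cj hx hc)

theorem normE : 𝐍(Q) ≤ 𝐍(E) := h.zq ▸ norm_le_norm_Zc Q

theorem ρtv : ρ * (t * v) * ρ⁻¹ = t := by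
  rw [← conj_mul, h.ρt, h.ρv, h.pair.comm.eq, ← mul_assoc, h.pair.s_sq, one_mul]

theorem rot : Rt E Q v (t * v) ρ :=
  { h with
    pair := h.pair.comm.eq ▸ h.pair.symm.mul
    eq := by rw [h.pair.comm.eq, S4_mul, S4_comm, h.eq]
    ρt := h.ρv
    ρv := by rw [h.ρtv, h.pair.comm.eq, ← mul_assoc, h.pair.s_sq, one_mul] }

theorem wlog (hc : c ∈ E) (c1 : c ≠ 1) : ∃ d, Rt E Q c d ρ := by
  rcases h.mem.1 hc with rfl | rfl | rfl | rfl
  exacts [absurd rfl c1, ⟨_, h⟩, ⟨_, h.rot⟩, ⟨_, h.rot.rot⟩]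

theorem move (hc : c ∈ E) (c1 : c ≠ 1) : ρ * c * ρ⁻¹ ≠ c := by
  obtain ⟨d, h⟩ := h.wlog hc c1
  exact h.ρt ▸ h.pair.ne.symm

theorem fpf : Q ⊓ 𝐂[ρ] = ⊥ := by_contra fun e => by
  have := Fact.mk Nat.prime_two
  obtain ⟨x, hx, x2⟩ := cauchy Nat.prime_two (dvd_card_of_isPGroup (h.two.to_le inf_le_left) e)
  exact h.move (h.ohm hx.1 ((pow_two x).symm.trans (x2 ▸ pow_orderOf_eq_one x)))
    (fun e => by simp [e] at x2) (mem_cent1_iff_conj.1 (mem_cent1_comm.1 hx.2))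

theorem zp_eq (hx : x ∈ zpowers t) (hy : x ∈ zpowers v) : x = 1 :=
  ((mem_zp h.pair.t_sq).1 hx).resolve_right fun e => ((mem_zp h.pair.s_sq).1 hy).elim
    (fun e' => h.pair.t_ne (e ▸ e')) fun e' => h.pair.ne (e ▸ e')

theorem cm_rot (hu : ∀ x ∈ Q, u * x * u⁻¹ * x⁻¹ ∈ zpowers t) (hx : x ∈ Q) :
    ρ * u * ρ⁻¹ * x * (ρ * u * ρ⁻¹)⁻¹ * x⁻¹ ∈ zpowers v := by
  have := conj_mem_conj (g := ρ) (hu _ (conj_mem_of_norm' h.ρn hx))
  rw [conj_zpowers, h.ρt] at this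
  convert this using 1
  group

theorem q2a (hu : u ∈ Q) (h1 : ∀ x ∈ Q, u * x * u⁻¹ * x⁻¹ ∈ zpowers t) : u * u ∈ E :=
  h.zq ▸ mem_Zc.2 ⟨mul_mem hu hu, fun x hx => by
    have h2 := zpowers_le.2 h.pair.t_mem (h1 x hx)
    rw [eq_comm, ← mul_inv_eq_iff_eq_mul, cj_mul, ← inv_mul_cancel_right (u * x * u⁻¹) x, ← conj_mul,
      h.cj hu h2, ← inv_mul_cancel_right (u * x * u⁻¹) x, ← mul_assoc, inv_mul_cancel_right, h.sq h2,
      one_mul]⟩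

theorem q2 (hu : u ∈ Q) (h1 : ∀ x ∈ Q, u * x * u⁻¹ * x⁻¹ ∈ zpowers t) : u ∈ E := by
  by_contra u0
  have h2 := fun x => h.cm_rot (x := x) h1
  have h3 := fun x => h.rot.cm_rot (x := x) h2
  have hu2 := conj_mem_of_norm h.ρn hu
  have hu3 := conj_mem_of_norm h.ρn hu2
  have s1 : u * u ≠ 1 := fun e => u0 (h.ohm hu e)
  have s2 : u * u * (ρ * (u * u) * ρ⁻¹ * (ρ * (ρ * (u * u) * ρ⁻¹) * ρ⁻¹)) = 1 := by
    obtain ⟨d, h'⟩ := h.wlog (h.q2a hu h1) s1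
    rw [h'.ρt, h'.ρv, ← mul_assoc, h'.pair.mul_sq]
  rw [← conj_mul, ← conj_mul] at s2
  have key : ∀ x ∈ Q, u * x * u⁻¹ = x ↔ ρ * u * ρ⁻¹ * x * (ρ * u * ρ⁻¹)⁻¹ = x := by
    generalize ρ * (ρ * u * ρ⁻¹) * ρ⁻¹ = u3 at *
    generalize ρ * u * ρ⁻¹ = u2 at *
    have cm : ∀ {t v a b : G}, Rt E Q t v ρ → a ∈ Q → b ∈ Q →
        (∀ x ∈ Q, a * x * a⁻¹ * x⁻¹ ∈ zpowers t) → (∀ x ∈ Q, b * x * b⁻¹ * x⁻¹ ∈ zpowers v) →
        Commute a b := fun {t v a b} h ha hb e1 e2 => by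
      have := h.zp_eq (e1 b hb) (by simpa [mul_assoc] using inv_mem (e2 a ha))
      rwa [mul_inv_eq_one, mul_inv_eq_iff_eq_mul] at this
    have c12 := cm h hu hu2 h1 h2
    have c23 := cm h.rot hu2 hu3 h2 h3
    have c31 := cm h.rot.rot hu3 hu h3 (by
      rwa [h.pair.comm.eq, ← mul_assoc v v, h.pair.s_sq, one_mul])
    have hw : u * (u2 * u3) ∈ E := h.ohm (mul_mem hu (mul_mem hu2 hu3)) (by
      rw [← pow_two, (c12.mul_right c31.symm).mul_pow, c23.mul_pow, pow_two, pow_two, pow_two, s2])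
    intro x hx
    have e : u * (u2 * u3) * x * (u * (u2 * u3))⁻¹ = x := by rw [← h.cm hx hw]; group
    have m2 := zpowers_le.2 h.pair.s_mem (h2 x hx)
    have m3 := zpowers_le.2 h.rot.pair.s_mem (h3 x hx)
    replace e : u3 * x * u3⁻¹ * x⁻¹ * (u2 * x * u2⁻¹ * x⁻¹) * (u * x * u⁻¹ * x⁻¹) = 1 := by
      rw [← h.cj hu (mul_mem m3 m2), ← h.cj hu2 m3, ← mul_inv_eq_one.2 e]
      group
    rw [← mul_inv_eq_one, ← mul_inv_eq_one (a := u2 * x * u2⁻¹)]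
    have t1 := h.pair.t_ne
    have v1 := h.pair.s_ne
    have e1 : t * v * v = t := by rw [mul_assoc, h.pair.s_sq, mul_one]
    have e2 : t * v * t = v := by rw [h.pair.comm.eq, mul_assoc, h.pair.t_sq, mul_one]
    rcases (mem_zp h.pair.t_sq).1 (h1 x hx) with f1 | f1 <;>
      rcases (mem_zp h.pair.s_sq).1 (h2 x hx) with f2 | f2 <;>
      rcases (mem_zp h.pair.mul_sq).1 (h3 x hx) with f3 | f3 <;>
      rw [f1, f2, f3] at e <;> rw [f1, f2] <;> simp_all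
  refine u0 (h.zq ▸ mem_Zc.2 ⟨hu, fun x hx => ?_⟩)
  obtain ⟨y, hy, rfl⟩ := fpf_surj h.ρn h.fpf hx
  have hy' := conj_mem_of_norm h.ρn hy
  have e1 := key _ hy'
  rw [show ρ * u * ρ⁻¹ * (ρ * y * ρ⁻¹) * (ρ * u * ρ⁻¹)⁻¹ = ρ * (u * y * u⁻¹) * ρ⁻¹ by group,
    mul_left_inj ρ⁻¹, mul_right_inj] at e1
  have e2 := (mem_zp h.pair.t_sq).1 (h1 y hy)
  have e3 := (mem_zp h.pair.t_sq).1 (h1 _ hy')
  rw [mul_inv_eq_one, mul_inv_eq_iff_eq_mul (c := t)] at e2 e3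
  rw [eq_comm, ← mul_inv_eq_iff_eq_mul, ← conj_mul, ← conj_inv]
  by_cases e4 : u * y * u⁻¹ = y
  · rw [e1.2 e4, e4]
  · rw [e2.resolve_left e4, e3.resolve_left (e1.not.2 e4)]
    group

theorem q2' (hc : c ∈ E) (hu : u ∈ Q) (h1 : ∀ x ∈ Q, u * x * u⁻¹ * x⁻¹ ∈ zpowers c) : u ∈ E := by
  by_cases c1 : c = 1
  · exact h.q2 hu fun x hx => by simp [show u * x * u⁻¹ * x⁻¹ = 1 by simpa [c1] using h1 x hx]
  obtain ⟨d, h⟩ := h.wlog hc c1
  exact h.q2 hu h1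

open Classical in
theorem inner (hG : Hom G) (hM : Hy 2 Q M e) (hE : E ≤ M) (hc : c ∈ E) (hn : n ∈ 𝐍(Q)) :
    ∃ q ∈ Q, ∀ x ∈ Q, q * x * q⁻¹ * (if x ∈ M then 1 else c) =
      x * (n⁻¹ * (if n * x * n⁻¹ ∈ M then 1 else c) * n) := by
  have := Fact.mk Nat.prime_two
  obtain ⟨α, f1, f2, f3, -⟩ := hG.pert Nat.prime_two hM (hE hc) (le_cent_symm h.syl.le hc)
    (h.max.abelem.2 c hc)
  have f4 : ∀ x ∈ Q, α x = x * if x ∈ M then 1 else c := fun x hx => by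
    obtain ⟨y, hy, rfl | rfl⟩ := hM.cases hx
    · rw [if_pos hy, f1 _ hy, mul_one]
    · rw [if_neg (by rw [mul_mem_cancel_left hy]; exact hM.nmem), map_mul, f1 _ hy, f2, mul_assoc]
  have f5 : ∀ x : G, (if x ∈ M then 1 else c) ∈ E := fun x => by
    split_ifs
    exacts [one_mem _, hc]
  have hk : n⁻¹ * α n ∈ 𝐂(E) := (f1.mono hE).cent (h.normE hn)
  have hk' : n⁻¹ * α n ∈ 𝐍(Q) := mul_mem (inv_mem hn) ((f3.norm n).2 hn)
  have key : ∀ x ∈ Q, n⁻¹ * α n * x * (n⁻¹ * α n)⁻¹ * (if x ∈ M then 1 else c) =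
      x * (n⁻¹ * (if n * x * n⁻¹ ∈ M then 1 else c) * n) := fun x hx => by
    have := twist α n x
    rw [f4 x hx, f4 _ (conj_mem_of_norm hn hx), ← conj_mul, mem_cent_iff_conj.1 hk _ (f5 x)] at this
    rw [this]; group
  have h2 : (n⁻¹ * α n) ^ 2 ∈ 𝐂(Q) := pow_cent hk h.max.abelem.2 fun x hx => by
    rw [eq_mul_inv_of_mul_eq (key x hx), mul_assoc x]
    exact conj_mem_of_norm (h.normE (le_normalizer hx))
      (mul_mem (conj_mem_of_norm' (h.normE hn) (f5 _)) (inv_mem (f5 x)))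
  exact ⟨constt {2} (n⁻¹ * α n), h.syl.mem_of_mem_norm (constt_mem _ hk) (constt_mem _ hk')
    (piElt_constt _ _), fun x hx => by rw [pp_conj Nat.prime_two h2 hx, key x hx]⟩

theorem cq (hG : Hom G) (hM : Hy 2 Q M e) (hE : E ≤ M) (hg : g ∈ 𝐂(E)) (hn : g ∈ 𝐍(Q)) (hx : x ∈ Q) :
    x ∈ M ↔ g * x * g⁻¹ ∈ M := by
  classical
  obtain ⟨q, hq, h1⟩ := h.inner hG hM hE h.pair.t_mem hn
  have f5 : ∀ x : G, (if x ∈ M then 1 else t) ∈ zpowers t := fun x => by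
    split_ifs
    exacts [one_mem _, mem_zpowers t]
  have f6 : ∀ x ∈ zpowers t, g⁻¹ * x * g = x := fun x hx => by
    simpa using mem_cent_iff_conj.1 (inv_mem hg) x (zpowers_le.2 h.pair.t_mem hx)
  have h2 := h.q2 hq fun x hx => by
    rw [eq_mul_inv_of_mul_eq (h1 x hx), f6 _ (f5 _), mul_assoc x,
      h.cj hx (zpowers_le.2 h.pair.t_mem (mul_mem (f5 _) (inv_mem (f5 _))))]
    exact mul_mem (f5 _) (inv_mem (f5 _))
  have h3 := h1 x hx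
  rw [← h.cm hx h2, mul_inv_cancel_right, mul_right_inj, f6 _ (f5 _)] at h3
  have := h.pair.t_ne
  split_ifs at h3 <;> simp_all

theorem cq' (hG : Hom G) (hg : g ∈ 𝐂(E)) (hn : g ∈ 𝐍(Q)) (ho : Odd (orderOf g)) : g ∈ 𝐂(Q) := by
  have := Fact.mk Nat.prime_two
  refine zpowers_le.1 (le_cent_symm (by_contra fun e => ?_))
  obtain ⟨M, e, hM, hle⟩ := exists_hy h.two (inf_lt_left.2 e)
  have hE := (le_inf h.le (le_cent_symm (zpowers_le.2 hg))).trans hle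
  refine hM.nmem ((coprime_cent_prod (zpowers_le.2 hn) (W4.cop (Nat.card_zpowers g ▸ ho) h.two).symm
    (.inl (sol_of_isPGroup h.two))).ge.trans (sup_le (commutator_le.2 fun x hx k hk => ?_) hle) hM.mem)
  have h1 := zpowers_le.2 hn hk
  rw [commutatorElement_def, mul_assoc, mul_assoc, ← mul_assoc k]
  exact hM.mul_mem hx (conj_mem_of_norm h1 (inv_mem hx))
    (inv_mem_iff.symm.trans (h.cq hG hM hE (zpowers_le.2 hg hk) h1 (inv_mem hx)))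

theorem swap (hG : Hom G) (hn : w ∈ 𝐍(Q)) (hw : w ∉ 𝐂(E)) (h2 : PiElt {2} w) : Q = E := by
  classical
  have := Fact.mk Nat.prime_two
  by_contra hne
  have hP : IsPGroup 2 ↥(Q ⊔ zpowers w) :=
    isPGroup_sup h.two (isPGroup_zpowers_iff.2 h2) (.inr (zpowers_le.2 hn))
  have h1 : Q ⊔ zpowers w ≤ 𝐍(Q) := sup_le le_normalizer (zpowers_le.2 hn)
  have h3 := h1.trans h.normE
  have h4 := le_sup_left.trans h3
  have h5 := commutator_le_left' h1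
  obtain ⟨M, e, hM, hle⟩ := exists_hy h.two ((sup_le h5 h.le).lt_of_ne fun e =>
    (commutator_lt_of_isPGroup (isPGroup_quo hP E) (isPGroup_quo h.two E) (quo_le_norm E h1)
      (quo_ne_bot h4 fun e => hne (le_antisymm e h.le))).not_ge (by
        rw [← quo_commutator h4 h3, quo_le_quo_iff_le_sup h4 (h5.trans h4)]
        exact e.ge))
  have hE := le_sup_right.trans hle
  have h6 : ∀ x ∈ Q, w * x * w⁻¹ ∈ M ↔ x ∈ M := fun x hx => by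
    have := hle (mem_sup_left (commutator_mem_commutator hx (mem_sup_right (mem_zpowers w))))
    rw [← inv_mem_iff, commutatorElement_inv, commutatorElement_def] at this
    rw [← mul_mem_cancel_left this (y := x), inv_mul_cancel_right]
  obtain ⟨c, hc, c1⟩ : ∃ c ∈ E, w⁻¹ * c * w⁻¹⁻¹ ≠ c := by
    by_contra! e
    exact hw (inv_mem_iff.1 (mem_cent_iff_conj.2 e))
  rw [inv_inv] at c1
  obtain ⟨q, hq, h7⟩ := h.inner hG hM hE hc hn
  have hd := mul_mem (conj_mem_of_norm' (h.normE hn) hc) (inv_mem hc)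
  have h8 := h.q2' hd hq fun x hx => by
    have := h7 x hx
    rw [h6 x hx] at this
    split_ifs at this
    · rw [show q * x * q⁻¹ = x by simpa using this, mul_inv_cancel]
      exact one_mem _
    · rw [eq_mul_inv_of_mul_eq this, mul_assoc x, h.cj hx hd]
      exact mem_zpowers _
  have := h7 e hM.mem
  rw [h6 e hM.mem, if_neg hM.nmem, ← h.cm hM.mem h8, mul_inv_cancel_right, mul_right_inj] at this
  exact c1 this.symm

theorem alm_or (hG : Hom G) : ZG.Alm G ∨ Syl 2 Q ⊤ ∧ Q ≠ E := by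
  have := Fact.mk Nat.prime_two
  obtain ⟨S, hS, hle⟩ := exists_syl_ge le_top h.two
  have key : Q = E → ZG.Alm G := fun e => alm_of_four h.pair hS (h.eq ▸ h.le.trans hle) (by
    rw [h.eq]
    exact (h.syl.le_of_norm inf_le_right (hS.isPGroup.to_le inf_le_left)
      (.inr (by rw [e]; exact inf_le_right.trans (cent_le_norm E)))).trans e.le)
  by_cases e : Q = E
  · exact .inl (key e)
  refine .inr ⟨?_, e⟩
  by_contra hn
  obtain ⟨y, hy, y1⟩ := SetLike.exists_of_lt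
    (lt_inf_norm_of_nil hS.nil (hle.lt_of_ne fun e => hn (e ▸ hS)))
  have h5 := hS.piGrp.piElt hy.1
  exact e (h.swap hG hy.2 (fun e => y1 (h.syl.mem_of_mem_norm e hy.2 h5)) h5)

end Rt

theorem Hom.exists_rt (hG : Hom G) (hE : IsMaxEp 2 E ⊤) (hg : g ∈ 𝐍(E)) (h1 : g ∉ 𝐂(E)) :
    ∃ Q t v ρ, Rt E Q t v ρ := by
  have := Fact.mk Nat.prime_two
  obtain ⟨Q, hQ⟩ := exists_syl 2 𝐂(E)
  have hV := hE.abelem
  have sq : ∀ x ∈ E, x * x = 1 := fun x hx => (pow_two x).symm.trans (hV.2 x hx)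
  obtain ⟨c, hc, c1⟩ : ∃ c ∈ E, g * c * g⁻¹ ≠ c := by
    by_contra! e
    exact h1 (mem_cent_iff_conj.2 e)
  have hd : g * c * g⁻¹ ∉ zpowers c := by
    rw [mem_zp (sq c hc), not_or]
    exact ⟨conj_ne_one.2 fun e => c1 (by simp [e]), c1⟩
  have hZ := hG.one hV hQ hg hc hd
  obtain ⟨t, v, hH, t1⟩ : ∃ t v, Hy 2 E (zpowers t) v ∧ t ≠ 1 := by
    rcases hG.r2 hV hg hc hd with ⟨k, k1, k2, u, hu, u1, e⟩ | e
    · obtain ⟨H, x, e, b, hx, ht⟩ := hG.tv hV k1 k2 hu u1 e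
      exact ⟨b, e, hG.r3 hV ht hx ▸ ht.toHy, ht.b1⟩
    · exact ⟨c, _, e, fun e => c1 (by simp [e])⟩
  have ht := hH.le (mem_zpowers t)
  have hEq : S4 t v = E := le_antisymm (S4_le.2 ⟨ht, hH.mem⟩) fun x hx => by
    obtain ⟨y, hy, i, rfl⟩ := hH.rep x hx
    exact mul_mem (mem_sup_left hy) (pow_mem (s_mem_S4 t v) i)
  have p : Pair E t v := hEq ▸ ZG.pair_mk t1 (fun e => hH.nmem (e ▸ one_mem _))
    (fun e => hH.nmem (e ▸ mem_zpowers _)) (sq t ht) (sq v hH.mem) (ab_iff.1 hV.1 t ht v hH.mem)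
  have pr : ∀ a ∈ E, ∀ b ∈ E, a ≠ 1 → b ≠ 1 → a ≠ b → Pair E a b ∧ S4 a b = E :=
    fun a ha b hb a1 b1 ab => by
      have p' := ZG.pair_mk a1 b1 ab (sq a ha) (sq b hb) (ab_iff.1 hV.1 a ha b hb)
      have := eq_of_le_of_card_le (S4_le.2 ⟨ha, hb⟩) (by rw [p'.card, ← hEq, p.card])
      exact ⟨this ▸ p', this⟩
  obtain ⟨t, v, r, p, hEq, hr, r1, r2⟩ : ∃ t v r, Pair E t v ∧ S4 t v = E ∧ r ∈ 𝐍(E) ∧
      r * t * r⁻¹ = v ∧ r * v * r⁻¹ = t * v := by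
    have c0 : c ≠ 1 := fun e => c1 (by simp [e])
    by_cases e : ∃ a ∈ E, a ≠ 1 ∧ g * a * g⁻¹ = a
    · obtain ⟨a, ha, a1, e⟩ := e
      obtain ⟨p', e'⟩ := pr a ha c hc a1 c0 fun e' => c1 (e' ▸ e)
      have e1 := (ZG.conj_cases_S4 p' (e' ▸ hg) (mul_inv_eq_iff_eq_mul.1 e)).resolve_left
        fun e => c1 (mul_inv_eq_iff_eq_mul.2 e)
      obtain ⟨α, f1, f2, f3⟩ := hG.lin2' hV ha hc hc (mul_mem ha hc) a1 c0
        (by simp [mem_zp p'.t_sq, c0, p'.ne.symm]) (by simp [mem_zp p'.s_sq, a1, p'.mul_ne_one])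
      have e2 := map_cj α g a
      have e3 := map_cj α g c
      rw [e, f2] at e2
      rw [e1, map_mul, f2, f3, ← mul_assoc, ← p'.comm.eq, ← conj_mul, ← e2,
        mul_assoc a, p'.s_sq, mul_one, ← mul_inv_eq_iff_eq_mul, inv_eq p'.s_sq] at e3
      exact ⟨a, c, g * α g, p', e', mul_mem hg ((f1.norm g).2 hg), by
        rw [cj_mul, ← e3, ← conj_mul, e, e1, ← mul_assoc, p'.t_sq, one_mul], by rw [cj_mul, ← e2, e1]⟩
    push Not at e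
    have hd := conj_mem_of_norm hg hc
    obtain ⟨p', e'⟩ := pr c hc _ hd c0 (conj_ne_one.2 c0) c1.symm
    refine ⟨c, _, g, p', e', hg, rfl, ?_⟩
    rcases p'.mem_S4.1 (e' ▸ conj_mem_of_norm hg hd) with e1 | e1 | e1 | e1
    · exact absurd e1 (conj_ne_one.2 p'.s_ne)
    · exact absurd (by rw [← conj_mul, e1, p'.comm.eq]) (e _ (mul_mem hc hd) p'.mul_ne_one)
    · exact absurd e1 (e _ hd p'.s_ne)
    · exact e1
  obtain ⟨m, hm, n, hn, rfl⟩ := (hQ.frattini ⟨cent_le_norm E, norm_le_norm_cent E⟩).mem_iff.1 hr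
  have key : ∀ x ∈ E, m * n * x * (m * n)⁻¹ = n * x * n⁻¹ := fun x hx => by
    rw [cj_mul, mem_cent_iff_conj.1 hm _ (conj_mem_of_norm hn.1 hx)]
  rw [key _ p.t_mem] at r1
  rw [key _ p.s_mem] at r2
  obtain ⟨ρ, hρ, h3, r1, r2⟩ := ZG.three_part p r1 r2
  exact ⟨Q, t, v, ρ, hE, hQ, hZ, p, hEq, zpowers_le.2 hn.2 hρ, h3, r1, r2⟩

end Cfsg.Agent.HG
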